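import Cfsg.Agent.Lib.RankFourA5.Basic

/-!
A section of exponent two and order thirty-two built on a four-group of involutions.
-/

set_option autoImplicit false
set_option linter.style.haveILetI false

namespace Cfsg.Agent.RankFourL32

theorem sq_of_closure {G : Type*} [Group G] {S : Set G} (hsq : ∀ s ∈ S, s * s = 1)
    (hcomm : ∀ s ∈ S, ∀ t ∈ S, s * t = t * s) : ∀ m ∈ Subgroup.closure S, m * m = 1 := by
  have hc : ∀ m ∈ Subgroup.closure S, ∀ t ∈ S, m * t = t * m := fun m hm t ht => by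
    have : Subgroup.closure S ≤ Subgroup.centralizer {t} := (Subgroup.closure_le _).2 fun s hs =>
      Subgroup.mem_centralizer_iff.2 fun y hy => by
        rw [Set.mem_singleton_iff.1 hy]; exact hcomm t ht s hs
    exact (Subgroup.mem_centralizer_iff.1 (this hm) t rfl).symm
  intro m hm
  induction hm using Subgroup.closure_induction with
  | mem s hs => exact hsq s hs
  | one => exact mul_one 1
  | mul a b ha hb iha ihb =>
    have hab : b * a = a * b := by
      have : Subgroup.closure S ≤ Subgroup.centralizer {a} := (Subgroup.closure_le _).2 fun s hs =>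
        Subgroup.mem_centralizer_iff.2 fun y hy => by
          rw [Set.mem_singleton_iff.1 hy]; exact hc a ha s hs
      exact (Subgroup.mem_centralizer_iff.1 (this hb) a rfl).symm
    rw [mul_assoc, ← mul_assoc b, hab, mul_assoc a b b, ihb, mul_one, iha]
  | inv a ha ih => rw [← _root_.mul_inv_rev, ih, inv_one]

variable {X : Type*} [Group X] [Finite X]

/-- Four cosets of a section of order eight with three commuting involutions: too large a section. -/
theorem section_contra (h4 : Cfsg.SectionalPRankLE 2 4 X) {L : Type*} [Group L] (π : X →* L)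
    (P F : Subgroup X) (hFP : F ≤ P) (hcard : Nat.card P = 8 * Nat.card F) (hPπ : P ≤ π.ker)
    (x₁ x₂ x₃ : X) (hπ₁ : π x₁ ≠ 1) (hπ₂ : π x₂ ≠ 1) (hπ₁₂ : π x₁ ≠ π x₂) (hπ₃ : π (x₁ * x₂) ≠ 1)
    (hFc : ∀ f ∈ F, x₁ * f = f * x₁ ∧ x₂ * f = f * x₂ ∧ ∀ p ∈ P, p * f = f * p)
    (hP2 : ∀ p ∈ P, p * p ∈ F) (h1 : x₁ * x₁ ∈ F) (h2 : x₂ * x₂ ∈ F) (h3 : x₃ * x₃ ∈ F)
    (hc1 : ∀ p ∈ P, x₁ * p * x₁⁻¹ * p⁻¹ ∈ F) (hc2 : ∀ p ∈ P, x₂ * p * x₂⁻¹ * p⁻¹ ∈ F)
    (hprod : x₁ * x₂ * x₃ ∈ P) : False := by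
  set G := Subgroup.centralizer (F : Set X) with hG
  have hx₁ : x₁ ∈ G := Subgroup.mem_centralizer_iff.2 fun f hf => (hFc f hf).1.symm
  have hx₂ : x₂ ∈ G := Subgroup.mem_centralizer_iff.2 fun f hf => (hFc f hf).2.1.symm
  have hPG : P ≤ G := fun p hp => Subgroup.mem_centralizer_iff.2 fun f hf => ((hFc f hf).2.2 p hp).symm
  have hx₃ : x₃ ∈ G := by
    rw [show x₃ = (x₁ * x₂)⁻¹ * (x₁ * x₂ * x₃) by group]
    exact mul_mem (inv_mem (mul_mem hx₁ hx₂)) (hPG hprod)
  set N := F.subgroupOf G with hN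
  haveI : N.Normal := ⟨fun f hf g => Subgroup.mem_subgroupOf.2 (by
    have h := Subgroup.mem_centralizer_iff.1 g.2 f.1 (Subgroup.mem_subgroupOf.1 hf)
    rw [Subgroup.coe_mul, Subgroup.coe_mul, Subgroup.coe_inv, ← h, mul_inv_cancel_right]
    exact Subgroup.mem_subgroupOf.1 hf)⟩
  let mk : G →* G ⧸ N := QuotientGroup.mk' N
  have hmk : ∀ (u : X) (hu : u ∈ G), mk ⟨u, hu⟩ = 1 ↔ u ∈ F := fun u hu =>
    (QuotientGroup.eq_one_iff _).trans Subgroup.mem_subgroupOf
  have hsq : ∀ (u : X) (hu : u ∈ G), u * u ∈ F → mk ⟨u, hu⟩ * mk ⟨u, hu⟩ = 1 := fun u hu h => by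
    rw [← map_mul]; exact (hmk _ _).2 h
  have hcm : ∀ (u v : X) (hu : u ∈ G) (hv : v ∈ G), u * v * u⁻¹ * v⁻¹ ∈ F →
      mk ⟨u, hu⟩ * mk ⟨v, hv⟩ = mk ⟨v, hv⟩ * mk ⟨u, hu⟩ := fun u v hu hv h => by
    have e := (hmk _ (mul_mem (mul_mem (mul_mem hu hv) (inv_mem hu)) (inv_mem hv))).2 h
    rw [← mul_inv_eq_iff_eq_mul, ← mul_inv_eq_one, ← map_inv, ← map_mul, ← map_mul, ← map_inv,
      ← map_mul]
    exact e
  set a := mk ⟨x₁, hx₁⟩ with ha
  set b := mk ⟨x₂, hx₂⟩ with hb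
  set q := mk ⟨x₁ * x₂ * x₃, hPG hprod⟩ with hq
  have hax : ∀ (p : X) (hp : p ∈ P), a * mk ⟨p, hPG hp⟩ = mk ⟨p, hPG hp⟩ * a := fun p hp =>
    hcm _ _ _ _ (hc1 p hp)
  have hbx : ∀ (p : X) (hp : p ∈ P), b * mk ⟨p, hPG hp⟩ = mk ⟨p, hPG hp⟩ * b := fun p hp =>
    hcm _ _ _ _ (hc2 p hp)
  have haa : a * a = 1 := hsq _ _ h1
  have hbb : b * b = 1 := hsq _ _ h2
  have hqq : q * q = 1 := hsq _ _ (hP2 _ hprod)
  have hab : a * b = b * a := by
    have h3' : mk ⟨x₃, hx₃⟩ * mk ⟨x₃, hx₃⟩ = 1 := hsq _ _ h3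
    have e : mk ⟨x₃, hx₃⟩ = (a * b)⁻¹ * q := by
      rw [ha, hb, hq, ← map_mul, ← map_inv, ← map_mul]
      congr 1
      exact Subtype.ext (by simp [mul_assoc])
    have haq : a * q = q * a := hax _ hprod
    have hbq : b * q = q * b := hbx _ hprod
    have hinv : (a * b)⁻¹ = b * a := by
      rw [_root_.mul_inv_rev, inv_eq_of_mul_eq_one_right hbb, inv_eq_of_mul_eq_one_right haa]
    rw [e, hinv] at h3'
    have e2 : b * a * q * (b * a * q) = b * a * (b * a) * (q * q) := by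
      calc b * a * q * (b * a * q) = b * a * ((q * b) * a) * q := by group
        _ = b * a * (b * (q * a)) * q := by rw [← hbq, mul_assoc b q a]
        _ = b * a * (b * a) * (q * q) := by rw [← haq]; group
    rw [e2, hqq, mul_one] at h3'
    have hinv2 : (b * a)⁻¹ = a * b := by
      rw [_root_.mul_inv_rev, inv_eq_of_mul_eq_one_right hbb, inv_eq_of_mul_eq_one_right haa]
    exact (inv_eq_of_mul_eq_one_right h3').symm.trans hinv2 |>.symm
  set M := Subgroup.closure ((P : Set X) ∪ {x₁, x₂}) with hM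
  have hMG : M ≤ G := (Subgroup.closure_le _).2 (by
    rintro u (hu | rfl | rfl); exacts [hPG hu, hx₁, hx₂])
  have hMsq : ∀ m ∈ M, m * m ∈ F := by
    intro m hm
    have hS : mk ⟨m, hMG hm⟩ ∈ Subgroup.closure
        ({y | ∃ (p : X) (hp : p ∈ P), y = mk ⟨p, hPG hp⟩} ∪ {a, b}) := by
      clear_value mk a b
      revert hm
      intro hm
      induction hm using Subgroup.closure_induction with
      | mem u hu =>
        rcases hu with hu | rfl | rfl
        · exact Subgroup.subset_closure (Or.inl ⟨u, hu, rfl⟩)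
        · exact Subgroup.subset_closure (Or.inr (Or.inl ha.symm))
        · exact Subgroup.subset_closure (Or.inr (Or.inr hb.symm))
      | one => exact (map_one mk).symm ▸ one_mem _
      | mul u v hu hv ihu ihv =>
        rw [show (⟨u * v, hMG (mul_mem hu hv)⟩ : G) = ⟨u, hMG hu⟩ * ⟨v, hMG hv⟩ from rfl, map_mul]
        exact mul_mem ihu ihv
      | inv u hu ih =>
        rw [show (⟨u⁻¹, hMG (inv_mem hu)⟩ : G) = (⟨u, hMG hu⟩ : G)⁻¹ from rfl, map_inv]
        exact inv_mem ih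
    refine (hmk _ (mul_mem (hMG hm) (hMG hm))).1 ?_
    rw [show (⟨m * m, mul_mem (hMG hm) (hMG hm)⟩ : G) = ⟨m, hMG hm⟩ * ⟨m, hMG hm⟩ from rfl, map_mul]
    refine sq_of_closure ?_ ?_ _ hS
    · rintro s (⟨p, hp, rfl⟩ | rfl | rfl)
      exacts [hsq _ _ (hP2 p hp), haa, hbb]
    · rintro s (⟨p, hp, rfl⟩ | rfl | rfl) t (⟨r, hr, rfl⟩ | rfl | rfl)
      · refine hcm _ _ _ _ ?_
        have hf : ∀ w ∈ P, ∀ f ∈ F, w * f = f * w := fun w hw f hf => (hFc f hf).2.2 w hw
        rw [show p * r * p⁻¹ * r⁻¹ = (p * r) * (p * r) * (r⁻¹ * ((p⁻¹ * p⁻¹)) * r) * (r⁻¹ * r⁻¹) by group]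
        refine mul_mem (mul_mem (hP2 _ (mul_mem hp hr)) ?_) (hP2 _ (inv_mem hr))
        rw [mul_assoc, ← hf r hr _ (hP2 _ (inv_mem hp)), inv_mul_cancel_left]
        exact hP2 _ (inv_mem hp)
      · exact (hax p hp).symm
      · exact (hbx p hp).symm
      · exact hax r hr
      · rfl
      · exact hab
      · exact hbx r hr
      · exact hab.symm
      · rfl
  have hcardM : 4 * Nat.card P ≤ Nat.card M := by
    have h4' : Nat.card (Fin 4 × P) = 4 * Nat.card P := by rw [Nat.card_prod, Nat.card_fin]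
    rw [← h4']
    have hu : ∀ i, (![1, x₁, x₂, x₁ * x₂] : Fin 4 → X) i ∈ M := by
      have h1' : x₁ ∈ M := Subgroup.subset_closure (Or.inr (Or.inl rfl))
      have h2' : x₂ ∈ M := Subgroup.subset_closure (Or.inr (Or.inr rfl))
      intro i; fin_cases i
      exacts [one_mem _, h1', h2', mul_mem h1' h2']
    refine Nat.card_le_card_of_injective
      (fun w : Fin 4 × P => (⟨(![1, x₁, x₂, x₁ * x₂] : Fin 4 → X) w.1 * w.2.1,
        mul_mem (hu w.1) (Subgroup.subset_closure (Or.inl w.2.2))⟩ : M)) ?_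
    rintro ⟨i, p⟩ ⟨j, r⟩ hij
    have e : (![1, x₁, x₂, x₁ * x₂] : Fin 4 → X) i * p.1 = (![1, x₁, x₂, x₁ * x₂] : Fin 4 → X) j * r.1 :=
      congrArg Subtype.val hij
    have e' := congrArg π e
    rw [map_mul, map_mul, MonoidHom.mem_ker.1 (hPπ p.2), MonoidHom.mem_ker.1 (hPπ r.2), mul_one,
      mul_one] at e'
    have hij' : i = j := by
      rw [map_mul] at hπ₃
      clear hij e
      fin_cases i <;> fin_cases j <;> simp [map_mul] at e' ⊢
      all_goals first
        | exact hπ₁ e' | exact hπ₁ e'.symm | exact hπ₂ e' | exact hπ₂ e'.symm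
        | exact hπ₁₂ e' | exact hπ₁₂ e'.symm | exact hπ₃ e' | exact hπ₃ e'.symm
    subst hij'
    exact Prod.ext rfl (Subtype.ext (mul_left_cancel e))
  have hFM : F ≤ M := fun f hf => Subgroup.subset_closure (Or.inl (hFP hf))
  have := RankFourA5.card_section_le h4 M F hFM (fun m hm f hf => by
    rw [← Subgroup.mem_centralizer_iff.1 (hMG hm) f hf, mul_inv_cancel_right]; exact hf) hMsq
  have hpos : 0 < Nat.card F := Nat.card_pos
  omega

end Cfsg.Agent.RankFourL32
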