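import Cfsg.Agent.Lib.RankFourL32.Radical
import Cfsg.Agent.Lib.RankFourL32.Section

/-!
A normal two-subgroup containing the natural module of a perfect cover as its intersection with the
cover.
-/

set_option autoImplicit false
set_option linter.style.haveILetI false

namespace Cfsg.Agent.RankFourL32

open Matrix

/-- A perfect subgroup commutes with what it moves inside a subgroup it centralizes. -/
theorem commute_of_perfect {X : Type*} [Group X] {D R : Subgroup X} (hD : ⁅D, D⁆ = D) (hRD : R ≤ D)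
    (hR : ∀ r ∈ R, ∀ d ∈ D, d * r = r * d) {q : X} (hq : ∀ d ∈ D, d * q * d⁻¹ * q⁻¹ ∈ R) :
    ∀ d ∈ D, d * q = q * d := by
  letI : CommGroup R := { (inferInstance : Group R) with
    mul_comm := fun a b => Subtype.ext (hR b b.2 a (hRD a.2)) }
  let f : D →* R :=
    { toFun := fun d => ⟨d.1 * q * d.1⁻¹ * q⁻¹, hq d d.2⟩
      map_one' := Subtype.ext (by simp)
      map_mul' := fun x y => Subtype.ext (by
        show x.1 * y.1 * q * (x.1 * y.1)⁻¹ * q⁻¹ = x.1 * q * x.1⁻¹ * q⁻¹ * (y.1 * q * y.1⁻¹ * q⁻¹)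
        rw [show x.1 * y.1 * q * (x.1 * y.1)⁻¹ * q⁻¹ =
            x.1 * (y.1 * q * y.1⁻¹ * q⁻¹) * q * x.1⁻¹ * q⁻¹ by group,
          hR _ (hq y y.2) x x.2]
        have := hR _ (hq y y.2) (x.1 * q * x.1⁻¹ * q⁻¹) (hRD (hq x x.2))
        rw [this]; group) }
  intro d hd
  have hcomm : commutator D = ⊤ := Subgroup.map_injective D.subtype_injective (by
    rw [Subgroup.map_subtype_commutator, hD, ← MonoidHom.range_eq_map, Subgroup.range_subtype])
  have h : (⟨d, hd⟩ : D) ∈ f.ker :=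
    Abelianization.commutator_subset_ker f (hcomm ▸ Subgroup.mem_top _)
  have h' : d * q * d⁻¹ * q⁻¹ = 1 := congrArg Subtype.val (MonoidHom.mem_ker.1 h)
  exact mul_inv_eq_iff_eq_mul.1 (mul_inv_eq_one.1 h')

theorem gT_line : gT.1 *ᵥ e0 = e0 ∧ gT2.1 *ᵥ e0 = e0 := by decide +kernel

theorem v3_smul_cases : ∀ a : ZMod 2, a = 0 ∨ a = 1 := zero_one

/-- A map commuting with the natural action is the identity. -/
theorem equivariant_id (α : V3 → V3) (h0 : α 0 = 0) (hne : ∀ v, α v = 0 → v = 0)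
    (hg : ∀ (g : L3) v, α (g.1 *ᵥ v) = g.1 *ᵥ α v) : ∀ v, α v = v := by
  have he : α e0 = e0 := by
    rcases gS_fix (α e0) (by rw [← hg, (line_fixed e0 (Or.inr rfl)).1]) with h | h
    · exact absurd (hne _ h) (by decide)
    · exact h
  intro v
  by_cases hv : v = 0
  · subst hv; exact h0
  rcases transitive e0 v (by decide) hv with rfl | ⟨a, b, hab, rfl⟩
  · exact he
  · have h := hg (tv a b hab) e0
    rwa [tv_mulVec, he, tv_mulVec] at h

/-- The data: a normal two-subgroup meeting the image of the cover in the natural module. -/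
structure Natural {X : Type*} [Group X] {D : Type*} [Group D] (Q : Subgroup X) (ι : D →* X)
    (ψ : D →* L3) (e : V3 → X) : Prop where
  surj : Function.Surjective ψ
  ker : ∀ d, ψ d = 1 ↔ ι d ∈ Q
  mem : ∀ v, e v ∈ Q
  range : ∀ v, ∃ r, ι r = e v
  add : ∀ v w, e (v + w) = e v * e w
  inj : Function.Injective e
  cover : ∀ d, ι d ∈ Q → ∃ v, ι d = e v
  act : ∀ d v, ι d * e v * (ι d)⁻¹ = e ((ψ d).1 *ᵥ v)
  normal : ι.range.Normal

section

variable {X : Type*} [Group X] [Finite X] {D : Type*} [Group D] {Q : Subgroup X} [hQn : Q.Normal]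
  {ι : D →* X} {ψ : D →* L3} {e : V3 → X}

omit hQn [Finite X] in
theorem Natural.zero (N : Natural Q ι ψ e) : e 0 = 1 := by
  have h := N.add 0 0; rw [add_zero] at h; exact left_eq_mul.1 h

omit hQn [Finite X] in
theorem Natural.sq (N : Natural Q ι ψ e) (v : V3) : e v * e v = 1 := by
  rw [← N.add, v3_add_self, N.zero]

omit [Finite X] in
/-- The displacement of an element of `Q` by the cover lies in the natural module. -/
theorem Natural.disp (N : Natural Q ι ψ e) {q : X} (hq : q ∈ Q) (d : D) :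
    ∃ v, ι d * q * (ι d)⁻¹ * q⁻¹ = e v := by
  obtain ⟨r, hr⟩ : ι d * q * (ι d)⁻¹ * q⁻¹ ∈ ι.range := by
    rw [show ι d * q * (ι d)⁻¹ * q⁻¹ = ι d * (q * (ι d)⁻¹ * q⁻¹) by group]
    exact mul_mem ⟨d, rfl⟩ (N.normal.conj_mem _ (inv_mem ⟨d, rfl⟩) q)
  obtain ⟨v, hv⟩ := N.cover r (hr ▸ mul_mem (hQn.conj_mem q hq (ι d)) (inv_mem hq))
  exact ⟨v, hr ▸ hv⟩

omit [Finite X] in
theorem Natural.centralizes (N : Natural Q ι ψ e) {q : X} (hq : q ∈ Q) (v : V3) :
    q * e v = e v * q := by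
  have hα : ∀ v, ∃ w, q * e v * q⁻¹ = e w := fun v => by
    obtain ⟨r, hr⟩ := N.range v
    obtain ⟨r', hr'⟩ := N.normal.conj_mem _ ⟨r, rfl⟩ q
    obtain ⟨w, hw⟩ := N.cover r' (hr' ▸ hQn.conj_mem _ (hr ▸ N.mem v) q)
    exact ⟨w, by rw [← hr, ← hr', hw]⟩
  choose α hα using hα
  have key := equivariant_id α
    (N.inj (by rw [← hα, N.zero, mul_one, mul_inv_cancel]))
    (fun v hv => N.inj (by
      have := hα v
      rw [hv, N.zero, conj_eq_one_iff] at this
      rw [this, N.zero]))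
    (fun g v => N.inj (by
      obtain ⟨d, rfl⟩ := N.surj g
      obtain ⟨w, hw⟩ := N.disp hq d
      rw [← hα, ← N.act, ← N.act, ← hα]
      have hqd : q * ι d = (e w)⁻¹ * ι d * q := by rw [← hw]; group
      calc q * (ι d * e v * (ι d)⁻¹) * q⁻¹
          = (e w)⁻¹ * (ι d * (q * e v * q⁻¹) * (ι d)⁻¹) * e w := by
            rw [show q * (ι d * e v * (ι d)⁻¹) * q⁻¹ = (q * ι d) * e v * (q * ι d)⁻¹ by group, hqd]
            group
        _ = _ := by
          rw [hα, N.act]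
          have hc' : e ((ψ d).1 *ᵥ α v) * e w = e w * e ((ψ d).1 *ᵥ α v) := by
            rw [← N.add, ← N.add, add_comm]
          rw [mul_assoc, hc', inv_mul_cancel_left]))
  exact mul_inv_eq_iff_eq_mul.1 (by rw [hα, key])

/-- Only the identity of `Q` centralizes the cover. -/
theorem Natural.eq_one (N : Natural Q ι ψ e) (hQ2 : IsPGroup 2 Q)
    (h4 : Cfsg.SectionalPRankLE 2 4 X) {c : X} (hc : c ∈ Q) (hcc : ∀ d, ι d * c = c * ι d) :
    c = 1 := by
  by_contra hc1
  obtain ⟨k, hk⟩ := hQ2 ⟨c, hc⟩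
  have hk' : c ^ 2 ^ k = 1 := congrArg Subtype.val hk
  obtain ⟨j, hj1, hj2⟩ : ∃ j, c ^ 2 ^ j ≠ 1 ∧ c ^ 2 ^ (j + 1) = 1 := by
    clear hk
    induction k with
    | zero => exact absurd (by simpa using hk') hc1
    | succ k ih =>
      by_cases h : c ^ 2 ^ k = 1
      · exact ih h
      · exact ⟨k, h, hk'⟩
  set i := c ^ 2 ^ j with hi
  have hiQ : i ∈ Q := pow_mem hc _
  have hic : ∀ d, ι d * i = i * ι d := fun d => (show Commute (ι d) c from hcc d).pow_right _
  have hi2 : i * i = 1 := by rw [hi, ← pow_add, ← two_mul, ← pow_succ']; exact hj2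
  have hfix : ∀ v, e v = i → False := fun v hv => by
    refine hj1 ?_
    have hg : ∀ g : L3, g.1 *ᵥ v = v := fun g => by
      obtain ⟨d, rfl⟩ := N.surj g
      exact N.inj (by rw [← N.act, hv, hic, mul_inv_cancel_right])
    rw [← hv, eq_zero_of_fixed v (hg _) (hg _), N.zero]
  -- the subgroup of order sixteen
  have hine : ∀ a : ZMod 2, ∀ v, e v * i ^ a.val = 1 → v = 0 ∧ a = 0 := by
    intro a v h
    rcases zero_one a with rfl | rfl
    · rw [ZMod.val_zero, pow_zero, mul_one] at h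
      exact ⟨N.inj (h.trans N.zero.symm), rfl⟩
    · rw [ZMod.val_one, pow_one] at h
      refine (hfix v ?_).elim
      calc e v = e v * i * i := by rw [mul_assoc, hi2, mul_one]
        _ = i := by rw [h, one_mul]
  have hpw : ∀ a b : ZMod 2, i ^ (a + b).val = i ^ a.val * i ^ b.val := fun a b => by
    rw [← pow_add, ZMod.val_add, ← pow_eq_pow_mod _ (by rw [pow_two, hi2] : i ^ 2 = 1)]
  let f : Multiplicative (V3 × ZMod 2) →* X :=
    { toFun := fun p => e p.toAdd.1 * i ^ p.toAdd.2.val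
      map_one' := by simp [N.zero]
      map_mul' := fun p r => by
        show e (p.toAdd.1 + r.toAdd.1) * i ^ (p.toAdd.2 + r.toAdd.2).val = _
        have hco : Commute (e r.toAdd.1) (i ^ p.toAdd.2.val) :=
          (show Commute (e r.toAdd.1) i from (N.centralizes hiQ _).symm).pow_right _
        rw [N.add, hpw]
        simp only [mul_assoc]
        rw [← mul_assoc (e r.toAdd.1), hco.eq, mul_assoc] }
  have hfinj : Function.Injective f := (injective_iff_map_eq_one f).2 fun p hp => by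
    obtain ⟨h1, h2⟩ := hine _ _ hp
    exact Multiplicative.toAdd.injective (Prod.ext h1 h2)
  have hPQ : f.range ≤ Q := by
    rintro _ ⟨p, rfl⟩; exact mul_mem (N.mem _) (pow_mem hiQ _)
  have hcardP : Nat.card f.range = 16 := by
    rw [Nat.card_congr (MonoidHom.ofInjective hfinj).toEquiv.symm,
      Nat.card_congr Multiplicative.toAdd, Nat.card_prod, Nat.card_fun, Nat.card_zmod, Nat.card_fin]
    norm_num
  have heP : ∀ v, e v ∈ f.range := fun v => ⟨Multiplicative.ofAdd (v, 0), by simp [f]⟩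
  have hFmem : ∀ p, p ∈ Subgroup.zpowers (e e0) ↔ p = 1 ∨ p = e e0 := fun p => by
    constructor
    · rintro ⟨k, rfl⟩
      have h2 : (e e0) ^ (2 : ℤ) = 1 := by rw [zpow_two, N.sq]
      rcases Int.even_or_odd' k with ⟨m, rfl | rfl⟩
      · left; show e e0 ^ (2 * m) = 1; rw [_root_.zpow_mul, h2, _root_.one_zpow]
      · right; show e e0 ^ (2 * m + 1) = e e0
        rw [_root_.zpow_add_one, _root_.zpow_mul, h2, _root_.one_zpow, one_mul]
    · rintro (rfl | rfl)
      · exact one_mem _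
      · exact Subgroup.mem_zpowers _
  have hFline : ∀ v, v = 0 ∨ v = e0 → e v ∈ Subgroup.zpowers (e e0) := fun v hv =>
    (hFmem _).2 (hv.imp (fun h => by rw [h, N.zero]) (fun h => by rw [h]))
  have hcardF : Nat.card (Subgroup.zpowers (e e0)) = 2 := by
    haveI : Fact (Nat.Prime 2) := ⟨Nat.prime_two⟩
    rw [Nat.card_zpowers]
    exact orderOf_eq_prime (by rw [pow_two, N.sq]) fun h =>
      absurd (N.inj (h.trans N.zero.symm)) (by decide)
  have hPform : ∀ p ∈ f.range, ∃ v, ∃ a : ZMod 2, p = e v * i ^ a.val := by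
    rintro _ ⟨p, rfl⟩; exact ⟨_, _, rfl⟩
  -- the three lifts
  obtain ⟨y, hy⟩ := N.surj gS
  obtain ⟨h, hh⟩ := N.surj gH
  obtain ⟨v₁, hv₁⟩ := N.cover (y * y * (y * y)) ((N.ker _).1 (by
    rw [map_mul, map_mul, hy, gS_sq, gT_sq]))
  have hx₁ : ψ (y * y) = gT := by rw [map_mul, hy, gS_sq]
  have hx₂ : ψ (h * (y * y) * h⁻¹) = gT2 := by rw [map_mul, map_mul, map_inv, hx₁, hh, gT2]
  have hx₃ : ψ (h * (h * (y * y) * h⁻¹) * h⁻¹) = gT3 := by
    rw [map_mul, map_mul, map_inv, hx₂, hh, gT3]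
  have hv₁l : v₁ = 0 ∨ v₁ = e0 := gS_fix v₁ (N.inj (by
    rw [← hy, ← N.act, ← hv₁]; simp only [map_mul]; group))
  have hconjh : ∀ v, v = 0 ∨ v = e0 → ι h * e v * (ι h)⁻¹ ∈ Subgroup.zpowers (e e0) := fun v hv => by
    rw [N.act, hh, (line_fixed v hv).2]; exact hFline v hv
  have hcomx : ∀ (g : L3) (x : D), ψ x = g → (∀ v : V3, g.1 *ᵥ v + v = 0 ∨ g.1 *ᵥ v + v = e0) →
      ∀ p ∈ f.range, ι x * p * (ι x)⁻¹ * p⁻¹ ∈ Subgroup.zpowers (e e0) := by
    intro g x hx hg p hp
    obtain ⟨v, a, rfl⟩ := hPform p hp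
    have hia : ι x * i ^ a.val * (ι x)⁻¹ = i ^ a.val := by
      rw [((show Commute (ι x) i from hic x).pow_right _).eq, mul_inv_cancel_right]
    have e2 : ι x * (e v * i ^ a.val) * (ι x)⁻¹ * (e v * i ^ a.val)⁻¹ = e (g.1 *ᵥ v + v) := by
      rw [show ι x * (e v * i ^ a.val) * (ι x)⁻¹ * (e v * i ^ a.val)⁻¹ =
          (ι x * e v * (ι x)⁻¹) * (ι x * i ^ a.val * (ι x)⁻¹) * (i ^ a.val)⁻¹ * (e v)⁻¹ by group,
        hia, N.act, hx, mul_inv_cancel_right, inv_eq_of_mul_eq_one_right (N.sq v), ← N.add]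
    rw [e2]; exact hFline _ (hg v)
  have hQone : ∀ x : D, ψ x ≠ 1 → QuotientGroup.mk' Q (ι x) ≠ 1 := fun x hx h =>
    hx ((N.ker x).2 ((QuotientGroup.eq_one_iff _).1 h))
  have hT2ne : gT2 ≠ 1 := fun h => by have h' := congrArg Units.val h; revert h'; decide +kernel
  have hT3ne : gT3 ≠ 1 := fun h => by have h' := congrArg Units.val h; revert h'; decide +kernel
  refine section_contra h4 (QuotientGroup.mk' Q) f.range (Subgroup.zpowers (e e0))
    (Subgroup.zpowers_le.2 (heP e0)) (by rw [hcardP, hcardF])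
    (hPQ.trans_eq (QuotientGroup.ker_mk' Q).symm)
    (ι (y * y)) (ι (h * (y * y) * h⁻¹)) (ι (h * (h * (y * y) * h⁻¹) * h⁻¹))
    (hQone _ (hx₁ ▸ gT_ne)) (hQone _ (hx₂ ▸ hT2ne)) ?_ ?_ ?_ ?_ ?_ ?_ ?_
    (hcomx _ _ hx₁ gT_im) (hcomx _ _ hx₂ gT2_im) ?_
  · intro heq
    have h1 := QuotientGroup.eq.1 heq
    rw [← map_inv, ← map_mul, ← N.ker, map_mul, map_inv, hx₁, hx₂, inv_mul_eq_one] at h1
    have h' := congrArg Units.val h1
    revert h'; decide +kernel
  · rw [← map_mul ι]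
    exact hQone _ (by rw [map_mul, hx₁, hx₂, gT_gT2]; exact hT3ne)
  · intro p hp
    have hcm : ∀ (x : D) (g : L3), ψ x = g → g.1 *ᵥ e0 = e0 → ι x * p = p * ι x := fun x g hx hg => by
      rcases (hFmem p).1 hp with rfl | rfl
      · rw [mul_one, one_mul]
      · exact mul_inv_eq_iff_eq_mul.1 (by rw [N.act, hx, hg])
    refine ⟨hcm _ _ hx₁ gT_line.1, hcm _ _ hx₂ gT_line.2, fun r hr => ?_⟩
    rcases (hFmem p).1 hp with rfl | rfl
    · rw [mul_one, one_mul]
    · exact N.centralizes (hPQ hr) e0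
  · intro p hp
    obtain ⟨v, a, rfl⟩ := hPform p hp
    have hco : i ^ a.val * e v = e v * i ^ a.val := N.centralizes (pow_mem hiQ _) v
    rw [show e v * i ^ a.val * (e v * i ^ a.val) = e v * (i ^ a.val * e v) * i ^ a.val by group, hco,
      show e v * (e v * i ^ a.val) * i ^ a.val = e v * e v * (i ^ a.val * i ^ a.val) by group, N.sq,
      ← hpw, CharTwo.add_self_eq_zero, ZMod.val_zero, pow_zero, one_mul]
    exact one_mem _
  · rw [← map_mul, hv₁]; exact hFline v₁ hv₁l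
  · have e2 : ι (h * (y * y) * h⁻¹) * ι (h * (y * y) * h⁻¹) = ι h * e v₁ * (ι h)⁻¹ := by
      rw [← hv₁]; simp only [map_mul, map_inv]; group
    rw [e2]; exact hconjh v₁ hv₁l
  · have e3 : ι (h * (h * (y * y) * h⁻¹) * h⁻¹) * ι (h * (h * (y * y) * h⁻¹) * h⁻¹) =
        ι h * (ι h * e v₁ * (ι h)⁻¹) * (ι h)⁻¹ := by
      rw [← hv₁]; simp only [map_mul, map_inv]; group
    rw [e3, N.act, hh, (line_fixed v₁ hv₁l).2]
    exact hconjh v₁ hv₁l
  · obtain ⟨w, hw⟩ := N.cover (y * y * (h * (y * y) * h⁻¹) * (h * (h * (y * y) * h⁻¹) * h⁻¹))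
      ((N.ker _).1 (by
        rw [map_mul ψ (y * y * (h * (y * y) * h⁻¹)), map_mul ψ (y * y), hx₁, hx₂, hx₃, gT_prod]))
    rw [← map_mul ι, ← map_mul ι, hw]; exact heP w

/-- The normal two-subgroup is elementary abelian of order eight or sixteen. -/
theorem Natural.bound (N : Natural Q ι ψ e) (hQ2 : IsPGroup 2 Q)
    (h4 : Cfsg.SectionalPRankLE 2 4 X) :
    (∀ q ∈ Q, q * q = 1) ∧ (Nat.card Q = 8 ∨ Nat.card Q = 16) := by
  choose lift hlift using N.surj
  choose u hu using fun (q : X) (hq : q ∈ Q) (g : L3) => N.disp hq (lift g)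
  have hind : ∀ (q : X) (hq : q ∈ Q) (d : D), ι d * q * (ι d)⁻¹ = e (u q hq (ψ d)) * q := by
    intro q hq d
    obtain ⟨v, hv⟩ := N.cover ((lift (ψ d))⁻¹ * d)
      ((N.ker _).1 (by rw [map_mul, map_inv, hlift, inv_mul_cancel]))
    rw [← hu]
    calc ι d * q * (ι d)⁻¹
        = ι (lift (ψ d)) * (ι ((lift (ψ d))⁻¹ * d) * q * (ι ((lift (ψ d))⁻¹ * d))⁻¹) *
          (ι (lift (ψ d)))⁻¹ := by rw [map_mul, map_inv]; group
      _ = _ := by rw [hv, ← N.centralizes hq v, mul_inv_cancel_right]; group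
  have hcoc : ∀ (q : X) (hq : q ∈ Q) (g h : L3), u q hq (g * h) = u q hq g + g.1 *ᵥ u q hq h := by
    intro q hq g h
    refine N.inj (mul_right_cancel (b := q) ?_)
    have e1 := hind q hq (lift g * lift h)
    rw [map_mul ψ, hlift, hlift] at e1
    have e2 := hind q hq (lift g)
    have e3 := hind q hq (lift h)
    rw [hlift] at e2 e3
    rw [← e1, map_mul,
      show ι (lift g) * ι (lift h) * q * (ι (lift g) * ι (lift h))⁻¹ =
        ι (lift g) * (ι (lift h) * q * (ι (lift h))⁻¹) * (ι (lift g))⁻¹ by group, e3,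
      show ι (lift g) * (e (u q hq h) * q) * (ι (lift g))⁻¹ =
        ι (lift g) * e (u q hq h) * (ι (lift g))⁻¹ * (ι (lift g) * q * (ι (lift g))⁻¹) by group,
      N.act, hlift, e2, ← mul_assoc, ← N.add, add_comm]
  -- small values split
  have hsplit : ∀ (q : X) (hq : q ∈ Q), (u q hq gT = 0 ∨ u q hq gT = e0) → ∃ v, q = e v := by
    intro q hq hs
    obtain ⟨w, hw⟩ := cocycle_split _ (hcoc q hq) hs
    refine ⟨w, ?_⟩
    have hone := N.eq_one hQ2 h4 (c := q * e w) (mul_mem hq (N.mem w)) fun d => by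
      rw [← mul_inv_eq_iff_eq_mul,
        show ι d * (q * e w) * (ι d)⁻¹ = ι d * q * (ι d)⁻¹ * (ι d * e w * (ι d)⁻¹) by group,
        hind q hq, N.act, hw, mul_assoc, N.centralizes hq, ← mul_assoc, ← N.add, N.centralizes hq]
      congr 2
      have key : ∀ a b : V3, a + b + a = b := by decide +kernel
      exact key _ _
    calc q = q * e w * e w := by rw [mul_assoc, N.sq, mul_one]
      _ = e w := by rw [hone, one_mul]
  have hmul : ∀ (q : X) (hq : q ∈ Q) (r : X) (hr : r ∈ Q) (g : L3),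
      u (q * r) (mul_mem hq hr) g = u q hq g + u r hr g := by
    intro q hq r hr g
    obtain ⟨d, rfl⟩ := N.surj g
    refine N.inj (mul_right_cancel (b := q * r) ?_)
    rw [← hind, show ι d * (q * r) * (ι d)⁻¹ = ι d * q * (ι d)⁻¹ * (ι d * r * (ι d)⁻¹) by group,
      hind q hq, hind r hr, N.add]
    simp only [mul_assoc]
    rw [← mul_assoc q, N.centralizes hq, mul_assoc]
  have hsq : ∀ q ∈ Q, q * q = 1 := fun q hq => N.eq_one hQ2 h4 (mul_mem hq hq) fun d => by
    rw [← mul_inv_eq_iff_eq_mul, hind _ (mul_mem hq hq), hmul q hq q hq, v3_add_self, N.zero, one_mul]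
  refine ⟨hsq, ?_⟩
  by_cases hall : ∀ q ∈ Q, ∃ v, q = e v
  · left
    have hbij : Function.Bijective (fun v => (⟨e v, N.mem v⟩ : Q)) :=
      ⟨fun v w h => N.inj (congrArg Subtype.val h), fun ⟨q, hq⟩ => by
        obtain ⟨v, rfl⟩ := hall q hq; exact ⟨v, rfl⟩⟩
    rw [← Nat.card_eq_of_bijective _ hbij, Nat.card_fun, Nat.card_zmod, Nat.card_fin]
    norm_num
  push Not at hall
  obtain ⟨q, hq, hqe⟩ := hall
  right
  have hout : ∀ r (hr : r ∈ Q), (∀ v, r ≠ e v) → u r hr gT 2 = 0 ∧ u r hr gT 1 = 1 := by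
    intro r hr hre
    have h := hcoc r hr gT gT
    rw [gT_sq] at h
    have h1 := hcoc r hr 1 1
    rw [mul_one, Units.val_one, one_mulVec] at h1
    rw [left_eq_add.1 h1] at h
    have key : ∀ a : V3, (0 : V3) = a + gT.1 *ᵥ a → ¬(a = 0 ∨ a = e0) → a 2 = 0 ∧ a 1 = 1 := by
      decide +kernel
    exact key _ h fun hs => by
      obtain ⟨v, hv⟩ := hsplit r hr hs
      exact hre v hv
  have hbij : Function.Bijective
      (fun p : V3 × ZMod 2 => (⟨e p.1 * q ^ p.2.val, mul_mem (N.mem _) (pow_mem hq _)⟩ : Q)) := by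
    constructor
    · rintro ⟨v, a⟩ ⟨w, b⟩ h
      have h' : e v * q ^ a.val = e w * q ^ b.val := congrArg Subtype.val h
      rcases zero_one a with rfl | rfl <;> rcases zero_one b with rfl | rfl <;>
        simp only [ZMod.val_zero, ZMod.val_one, pow_zero, pow_one, mul_one] at h'
      · rw [N.inj h']
      · refine absurd ?_ (hqe (w + v))
        rw [N.add, h', ← mul_assoc, N.sq, one_mul]
      · refine absurd ?_ (hqe (v + w))
        rw [N.add, ← h', ← mul_assoc, N.sq, one_mul]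
      · rw [N.inj (mul_right_cancel h')]
    · rintro ⟨r, hr⟩
      by_cases hre : ∃ v, r = e v
      · obtain ⟨v, rfl⟩ := hre
        exact ⟨(v, 0), Subtype.ext (by simp)⟩
      push Not at hre
      obtain ⟨v, hv⟩ := hsplit (r * q) (mul_mem hr hq) (by
        rw [hmul r hr q hq]
        obtain ⟨a2, a1⟩ := hout r hr hre
        obtain ⟨b2, b1⟩ := hout q hq hqe
        have key : ∀ a b : V3, a 2 = 0 → a 1 = 1 → b 2 = 0 → b 1 = 1 → a + b = 0 ∨ a + b = e0 := by
          decide +kernel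
        exact key _ _ a2 a1 b2 b1)
      refine ⟨(v, 1), Subtype.ext ?_⟩
      show e v * q ^ (1 : ZMod 2).val = r
      rw [ZMod.val_one, pow_one, ← hv, mul_assoc, hsq q hq, mul_one]
  rw [← Nat.card_eq_of_bijective _ hbij, Nat.card_prod, Nat.card_fun, Nat.card_zmod, Nat.card_fin]
  norm_num

end

end Cfsg.Agent.RankFourL32
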