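import Cfsg.Agent.Lib.RankFourL32.Natural
import Cfsg.Agent.Lib.RankFourA5.Basic
import Mathlib.GroupTheory.GroupAction.Quotient

/-!
A minimal normal two-subgroup in a group over the general linear group of degree three over two
elements is central of order two or the natural module.
-/

set_option autoImplicit false
set_option linter.style.haveILetI false

namespace Cfsg.Agent.RankFourL32

open Matrix

/-- There is no faithful irreducible action on a group of order sixteen. -/
theorem not_irreducible_sixteen {V : Type*} [CommGroup V] [Finite V] (hexp : ∀ v : V, v * v = 1)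
    (h16 : Nat.card V = 16) (φ : L3 →* MulAut V) (hφ : Function.Injective φ)
    (hirr : ∀ U : Subgroup V, (∀ g, ∀ u ∈ U, φ g u ∈ U) → U = ⊥ ∨ U = ⊤) : False := by
  haveI : Fact (Nat.Prime 7) := ⟨by norm_num⟩
  set σ := φ (gT * gP) with hσ
  have h7 : σ ^ 7 = 1 := by
    rw [hσ, ← map_pow, show (gT * gP) ^ 7 = 1 from Units.ext (by decide +kernel), map_one]
  have hσ1 : σ ≠ 1 := fun h => by
    have h1 : gT * gP = 1 := hφ (h.trans (map_one φ).symm)
    have h' := congrArg Units.val h1
    revert h'; decide +kernel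
  have hσ7 : ∀ v, (σ ^ 7 : MulAut V) v = v := fun v => by rw [h7]; rfl
  have app : ∀ (a b : MulAut V) (v : V), (a * b) v = a (b v) := fun _ _ _ => rfl
  -- the fixed points
  have hF : Nat.card (RankFourA5.fixed σ) = 2 := by
    have hP : IsPGroup 7 (Subgroup.zpowers σ) := fun x => ⟨1, by
      obtain ⟨x, k, rfl⟩ := x
      apply Subtype.ext
      show (σ ^ k) ^ (7 ^ 1) = 1
      rw [pow_one, ← zpow_natCast, ← _root_.zpow_mul, mul_comm, _root_.zpow_mul, zpow_natCast, h7, _root_.one_zpow]⟩
    have hmod := hP.card_modEq_card_fixedPoints V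
    have heq : MulAction.fixedPoints (Subgroup.zpowers σ) V = (RankFourA5.fixed σ : Set V) := by
      ext v
      refine ⟨fun h => h ⟨σ, Subgroup.mem_zpowers σ⟩, fun h g => ?_⟩
      have hmem : σ ∈ MulAction.stabilizer (MulAut V) v := MulAction.mem_stabilizer_iff.2 h
      exact MulAction.mem_stabilizer_iff.1 (Subgroup.zpowers_le.2 hmem g.2)
    rw [heq, h16] at hmod
    obtain ⟨k, hk, hkc⟩ := (Nat.dvd_prime_pow Nat.prime_two).1
      (show Nat.card (RankFourA5.fixed σ) ∣ 2 ^ 4 by
        rw [show 2 ^ 4 = Nat.card V from h16.symm]; exact Subgroup.card_subgroup_dvd_card _)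
    have hmod' : 16 ≡ Nat.card (RankFourA5.fixed σ) [MOD 7] := hmod
    rw [hkc] at hmod'
    interval_cases k
    · exact absurd hmod' (by decide)
    · rw [hkc]; norm_num
    · exact absurd hmod' (by decide)
    · exact absurd hmod' (by decide)
    · refine absurd (MulEquiv.ext fun w => ?_) hσ1
      have htop : RankFourA5.fixed σ = ⊤ := Subgroup.eq_top_of_card_eq _ (by rw [hkc, h16]; norm_num)
      exact RankFourA5.mem_fixed.1 (htop ▸ Subgroup.mem_top w)
  obtain ⟨⟨z, hz⟩, hz1, hzu⟩ := (Nat.card_eq_two_iff' (1 : RankFourA5.fixed σ)).1 hF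
  have hzne : z ≠ 1 := fun h => hz1 (Subtype.ext h)
  have hfix : ∀ v, σ v = v → v = 1 ∨ v = z := fun v hv => by
    by_cases hv1 : v = 1
    · exact Or.inl hv1
    · exact Or.inr (congrArg Subtype.val (hzu ⟨v, hv⟩ fun h => hv1 (congrArg Subtype.val h)))
  let δ : V →* V :=
    { toFun := fun v => σ v * v
      map_one' := by simp
      map_mul' := fun a b => by rw [map_mul, mul_mul_mul_comm] }
  set U := δ.range with hU
  have hδker : δ.ker = RankFourA5.fixed σ := by
    ext v
    rw [MonoidHom.mem_ker, RankFourA5.mem_fixed]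
    constructor
    · intro h; exact mul_right_cancel (h.trans (hexp v).symm)
    · intro h; show σ v * v = 1; rw [h, hexp]
  have hU8 : Nat.card U = 8 := by
    have h := Subgroup.card_eq_card_quotient_mul_card_subgroup δ.ker
    rw [h16, hδker, hF, Nat.card_congr (QuotientGroup.quotientMulEquivOfEq hδker.symm).toEquiv,
      Nat.card_congr (QuotientGroup.quotientKerEquivRange δ).toEquiv] at h
    rw [hU]; omega
  have hzU : z ∉ U := by
    rintro ⟨v, hv⟩
    have hv' : σ v = z * v := by
      rw [← hv]; show σ v = σ v * v * v; rw [mul_assoc, hexp, mul_one]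
    have h2 : σ (σ v) = v := by
      rw [hv', map_mul, show σ z = z from hz, hv', ← mul_assoc, hexp, one_mul]
    have h := hσ7 v
    rw [show (7 : ℕ) = 1 + 2 + 2 + 2 from rfl, pow_add, pow_add, pow_add, pow_one, pow_two, app, app,
      app, app, app, app, h2, h2, h2] at h
    rw [h] at hv'
    exact hzne (right_eq_mul.1 hv')
  have hUσ : ∀ u ∈ U, σ u ∈ U := by
    rintro _ ⟨v, rfl⟩
    exact ⟨σ v, by show σ (σ v) * σ v = σ (σ v * v); rw [map_mul]⟩
  have hUpow : ∀ (n : ℕ), ∀ u ∈ U, (σ ^ n : MulAut V) u ∈ U := fun n u hu => by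
    induction n with
    | zero => exact hu
    | succ n ih => rw [pow_succ', app]; exact hUσ _ ih
  -- `σ` is transitive on the non-trivial elements of `U`
  have htrans : ∀ a ∈ U, a ≠ 1 → ∀ b ∈ U, b ≠ 1 → ∃ n : ℕ, (σ ^ n : MulAut V) a = b := by
    intro a ha ha1 b hb hb1
    have hne : ∀ u : V, u ∈ U → u ≠ 1 → σ u ≠ u := fun u hu hu1 h => by
      rcases hfix u h with e | e
      exacts [hu1 e, hzU (e ▸ hu)]
    have hpow1 : ∀ (n : ℕ) (u : V), (σ ^ n : MulAut V) u = 1 → u = 1 := fun n u h =>
      (MulEquiv.map_eq_one_iff _).1 h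
    have hinj : Function.Injective (fun i : Fin 7 => (⟨(σ ^ (i : ℕ) : MulAut V) a, hUpow _ a ha⟩ : U)) := by
      intro i j hij
      have h : (σ ^ (i : ℕ) : MulAut V) a = (σ ^ (j : ℕ) : MulAut V) a := congrArg Subtype.val hij
      by_contra hne'
      have key : ∀ i j : Fin 7, i ≠ j → ∃ d : Fin 7, ((i : ℕ) + d.val) % 7 = 0 ∧
          ∃ m : Fin 7, (((j : ℕ) + d.val) * m.val) % 7 = 1 := by decide +kernel
      obtain ⟨d, hd, m, hm⟩ := key i j hne'
      have hmod : ∀ (n : ℕ) (u : V), (σ ^ n : MulAut V) u = (σ ^ (n % 7) : MulAut V) u := fun n u => by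
        rw [← pow_eq_pow_mod n h7]
      have h' := congrArg (σ ^ d.val : MulAut V) h
      rw [← app, ← app, ← pow_add, ← pow_add, add_comm d.val, add_comm d.val, hmod (_ + _) a, hd,
        pow_zero, MulAut.one_apply] at h'
      have hall : ∀ k : ℕ, (σ ^ (((j : ℕ) + d.val) * k) : MulAut V) a = a := fun k => by
        induction k with
        | zero => rfl
        | succ k ih => rw [Nat.mul_succ, pow_add, app, ← h', ih]
      have h1 := hall m.val
      rw [hmod, hm, pow_one] at h1
      exact hne a ha ha1 h1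
    classical
    have hsub : Finset.univ.image (fun i : Fin 7 => (⟨(σ ^ (i : ℕ) : MulAut V) a, hUpow _ a ha⟩ : U)) =
        ((Set.toFinite (Set.univ : Set U)).toFinset.erase 1) := by
      classical
      refine Finset.eq_of_subset_of_card_le (fun x hx => ?_) ?_
      · obtain ⟨i, -, rfl⟩ := Finset.mem_image.1 hx
        refine Finset.mem_erase.2 ⟨fun e => ha1 (hpow1 i a (congrArg Subtype.val e)), by simp⟩
      · rw [Finset.card_image_of_injective _ hinj, Finset.card_erase_of_mem (by simp),
          ← Set.ncard_eq_toFinset_card _ (Set.toFinite _), Set.ncard_univ, hU8]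
        simp
    classical
    have hbmem : (⟨b, hb⟩ : U) ∈ ((Set.toFinite (Set.univ : Set U)).toFinset.erase 1) :=
      Finset.mem_erase.2 ⟨fun e => hb1 (congrArg Subtype.val e), by simp⟩
    rw [← hsub] at hbmem
    obtain ⟨i, -, hi⟩ := Finset.mem_image.1 hbmem
    exact ⟨i, congrArg Subtype.val hi⟩
  have hsplit : ∀ v, v ∉ U → z * v ∈ U := fun v hv => by
    have hidx : U.index = 2 := by
      have h := Subgroup.card_mul_index U
      rw [hU8, h16] at h; omega
    exact (Subgroup.mul_mem_iff_of_index_two hidx).2 (iff_of_false hzU hv)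
  -- the orbit of `z`
  letI : MulAction L3 V := MulAction.compHom V φ
  set O := MulAction.orbit L3 z with hO
  have hOσ : ∀ (n : ℕ), ∀ v ∈ O, (σ ^ n : MulAut V) v ∈ O := by
    rintro n v ⟨g, rfl⟩
    exact ⟨(gT * gP) ^ n * g, by
      show φ ((gT * gP) ^ n * g) z = (σ ^ n : MulAut V) (φ g z)
      rw [map_mul, map_pow]; rfl⟩
  have hnot15 : ¬ ∀ v : V, v ≠ 1 → v ∈ O := fun hall => by
    have hdvd : Nat.card O ∣ Nat.card L3 := by
      rw [Nat.card_congr (MulAction.orbitEquivQuotientStabilizer L3 z), ← Subgroup.index_eq_card]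
      exact Subgroup.index_dvd_card _
    have heq : O = {v : V | v ≠ 1} := by
      ext v
      refine ⟨?_, hall v⟩
      rintro ⟨g, rfl⟩ h
      exact hzne ((MulEquiv.map_eq_one_iff (φ g)).1 h)
    rw [heq, card_L3] at hdvd
    have : Nat.card {v : V | v ≠ 1} = 15 := by
      rw [Nat.card_coe_set_eq, show {v : V | v ≠ 1} = ({1} : Set V)ᶜ from rfl, Set.ncard_compl,
        Set.ncard_singleton, h16]
    rw [this] at hdvd
    omega
  -- an invariant subset of a coset of `U`
  obtain ⟨W, hWinv, hWU, a, ha, b, hb, hab⟩ : ∃ W : Set V, (∀ g, ∀ w ∈ W, φ g w ∈ W) ∧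
      (∀ u ∈ W, ∀ w ∈ W, u * w ∈ U) ∧ ∃ a ∈ W, ∃ b ∈ W, a ≠ b := by
    haveI : Nontrivial U := Finite.one_lt_card_iff_nontrivial.1 (by omega)
    obtain ⟨⟨a, ha⟩, ha1⟩ := exists_ne (1 : U)
    have ha1' : a ≠ 1 := fun h => ha1 (Subtype.ext h)
    have hσa : σ a ≠ a := fun h => by
      rcases hfix a h with e | e
      exacts [ha1' e, hzU (e ▸ ha)]
    have hback : ∀ g v, φ g v ∈ O → v ∈ O := by
      rintro g v ⟨k, hk⟩
      refine ⟨g⁻¹ * k, ?_⟩
      show φ (g⁻¹ * k) z = v
      rw [map_mul, app, show φ k z = φ g v from hk, map_inv]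
      exact (φ g).symm_apply_apply v
    by_cases hA : a ∈ O
    · -- the other coset
      have hUO : ∀ u ∈ U, u ≠ 1 → u ∈ O := fun u hu hu1 => by
        obtain ⟨n, hn⟩ := htrans a ha ha1' u hu hu1
        exact hn ▸ hOσ n a hA
      have hBO : ∀ v, v ∉ U → v ≠ z → v ∉ O := fun v hv hvz hvO => hnot15 fun w hw => by
        by_cases hwU : w ∈ U
        · exact hUO w hwU hw
        by_cases hwz : w = z
        · exact hwz ▸ MulAction.mem_orbit_self z
        have hne : ∀ x, x ≠ z → z * x ≠ 1 := fun x hx h =>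
          hx (mul_left_cancel (h.trans (hexp z).symm))
        obtain ⟨n, hn⟩ := htrans _ (hsplit v hv) (hne v hvz) _ (hsplit w hwU) (hne w hwz)
        have hzn : (σ ^ n : MulAut V) z = z := by
          induction n generalizing v w with
          | zero => rfl
          | succ n ih =>
            have h0 : ∀ m : ℕ, (σ ^ m : MulAut V) z = z := fun m => by
              induction m with
              | zero => rfl
              | succ m ihm => rw [pow_succ', app, ihm]; exact hz
            exact h0 _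
        rw [map_mul, hzn] at hn
        exact mul_left_cancel hn ▸ hOσ n v hvO
      refine ⟨{v | v ∉ U ∧ v ≠ z}, fun g v hv => ?_, fun u hu w hw => ?_, z * a, ?_, z * σ a, ?_, ?_⟩
      · by_contra hgv
        refine hBO v hv.1 hv.2 (hback g v ?_)
        by_cases h1 : φ g v ∈ U
        · refine hUO _ h1 fun e => hv.1 ?_
          rw [(MulEquiv.map_eq_one_iff (φ g)).1 e]; exact one_mem _
        · have : φ g v = z := by
            by_contra hne; exact hgv ⟨h1, hne⟩
          exact this ▸ MulAction.mem_orbit_self z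
      · have := mul_mem (hsplit u hu.1) (hsplit w hw.1)
        rwa [mul_mul_mul_comm, hexp, one_mul] at this
      · exact ⟨fun h => hzU ((Subgroup.mul_mem_cancel_right U ha).1 h),
          fun h => ha1' (mul_eq_left.1 h)⟩
      · exact ⟨fun h => hzU ((Subgroup.mul_mem_cancel_right U (hUσ a ha)).1 h),
          fun h => ha1' ((MulEquiv.map_eq_one_iff σ).1 (mul_eq_left.1 h))⟩
      · exact fun h => hσa (mul_left_cancel h).symm
    · -- the subgroup `U`
      have hUO : ∀ u ∈ U, u ≠ 1 → u ∉ O := fun u hu hu1 hO' => hA (by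
        obtain ⟨n, hn⟩ := htrans u hu hu1 a ha ha1'
        exact hn ▸ hOσ n u hO')
      -- every element outside `U` is in the orbit
      obtain ⟨g, hg⟩ : ∃ g, φ g z ≠ z := by
        by_contra hc
        push Not at hc
        rcases hirr (Subgroup.zpowers z) (fun g u hu => by
            obtain ⟨k, rfl⟩ := hu
            show φ g (z ^ k) ∈ _
            rw [map_zpow, hc]; exact zpow_mem (Subgroup.mem_zpowers z) k) with h | h
        · exact hzne (Subgroup.zpowers_eq_bot.1 h)
        · have h2 : Nat.card (Subgroup.zpowers z) ≤ 2 := by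
            rw [Nat.card_zpowers]; exact orderOf_le_of_pow_eq_one two_pos (by rw [pow_two, hexp])
          rw [h, Subgroup.card_top, h16] at h2
          omega
      set v₀ := φ g z with hv₀
      have hv₀O : v₀ ∈ O := ⟨g, rfl⟩
      have hv₀U : v₀ ∉ U := fun h => hUO v₀ h
        (fun e => hzne ((MulEquiv.map_eq_one_iff (φ g)).1 e)) hv₀O
      have hne : ∀ x, x ≠ z → z * x ≠ 1 := fun x hx h =>
        hx (mul_left_cancel (h.trans (hexp z).symm))
      have hzn : ∀ m : ℕ, (σ ^ m : MulAut V) z = z := fun m => by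
        induction m with
        | zero => rfl
        | succ m ihm => rw [pow_succ', app, ihm]; exact hz
      have hout : ∀ v, v ∉ U → v ∈ O := fun v hv => by
        by_cases hvz : v = z
        · exact hvz ▸ MulAction.mem_orbit_self z
        obtain ⟨n, hn⟩ := htrans _ (hsplit v₀ hv₀U) (hne v₀ hg) _ (hsplit v hv) (hne v hvz)
        rw [map_mul, hzn] at hn
        exact mul_left_cancel hn ▸ hOσ n v₀ hv₀O
      refine ⟨{v | v ∈ U ∧ v ≠ 1}, fun k v hv => ⟨?_, fun h => hv.2 ((MulEquiv.map_eq_one_iff (φ k)).1 h)⟩,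
        fun u hu w hw => mul_mem hu.1 hw.1, a, ⟨ha, ha1'⟩, σ a, ⟨hUσ a ha, ?_⟩, Ne.symm hσa⟩
      · by_contra hk
        exact hUO v hv.1 hv.2 (hback k v (hout _ hk))
      · exact fun h => ha1' ((MulEquiv.map_eq_one_iff σ).1 h)
  set N := Subgroup.closure {x | ∃ u ∈ W, ∃ w ∈ W, x = u * w} with hN
  rcases hirr N (fun g n hn => by
      induction hn using Subgroup.closure_induction with
      | mem x hx =>
        obtain ⟨u, hu, w, hw, rfl⟩ := hx
        exact Subgroup.subset_closure ⟨_, hWinv g u hu, _, hWinv g w hw, map_mul _ _ _⟩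
      | one => rw [map_one]; exact one_mem _
      | mul p r hp hr ihp ihr => rw [map_mul]; exact mul_mem ihp ihr
      | inv p hp ih => rw [map_inv]; exact inv_mem ih) with h | h
  · have : a * b ∈ N := Subgroup.subset_closure ⟨a, ha, b, hb, rfl⟩
    rw [h, Subgroup.mem_bot] at this
    exact hab (mul_right_cancel (this.trans (hexp b).symm))
  · have hle : N ≤ U := (Subgroup.closure_le _).2 (by rintro _ ⟨u, hu, w, hw, rfl⟩; exact hWU u hu w hw)
    exact hzU (hle (h ▸ Subgroup.mem_top z))

variable {X : Type*} [Group X] [Finite X] {π : X →* L3}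

/-- The two possibilities for a minimal normal two-subgroup. -/
theorem minimal_type (C : Cover π) (M : Subgroup X) [M.Normal] (hMQ : M ≤ π.ker) (hne : M ≠ ⊥)
    (hmin : ∀ N : Subgroup X, N.Normal → N ≤ M → N ≠ ⊥ → N = M) :
    (∀ m ∈ M, m * m = 1) ∧ (∀ m ∈ M, ∀ q ∈ π.ker, q * m = m * q) ∧
      ((Nat.card M = 2 ∧ ∀ m ∈ M, ∀ x, x * m = m * x) ∨
        (Nat.card M = 8 ∧ ∃ (ψ : X →* L3) (s : V3 → X), ψ.ker = π.ker ∧ Function.Surjective ψ ∧
          Top ψ M ⊥ s)) := by
  haveI : Fact (Nat.Prime 2) := ⟨Nat.prime_two⟩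
  obtain ⟨L, hLn, hlt, hsq, hcen⟩ := RankFourA5.exists_layer C.pgroup hMQ hne
  obtain rfl : L = ⊥ := by
    by_contra h
    exact hlt.ne (hmin L hLn hlt.le h)
  simp only [Subgroup.mem_bot] at hsq hcen
  have hcQ : ∀ m ∈ M, ∀ q ∈ π.ker, q * m = m * q := fun m hm q hq =>
    mul_inv_eq_iff_eq_mul.1 (mul_inv_eq_one.1 (hcen q hq m hm))
  refine ⟨hsq, hcQ, ?_⟩
  letI : CommGroup M := { (inferInstance : Group M) with
    mul_comm := fun a b => Subtype.ext (hcQ b b.2 a (hMQ a.2)) }
  have hexp : ∀ v : M, v * v = 1 := fun v => Subtype.ext (hsq v v.2)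
  let α : X →* MulAut M := MulAut.conjNormal
  have hker : π.ker ≤ α.ker := fun q hq => MonoidHom.mem_ker.2 (MulEquiv.ext fun m => Subtype.ext (by
    show ((MulAut.conjNormal q m : M) : X) = m
    rw [MulAut.conjNormal_apply, hcQ m m.2 q hq, mul_inv_cancel_right]))
  let φ : L3 →* MulAut M := π.liftOfSurjective C.surj ⟨α, hker⟩
  have hφ : ∀ x, φ (π x) = α x := fun x => MonoidHom.liftOfRightInverse_comp_apply _ _ _ _ x
  have hinv : ∀ U : Subgroup M, (∀ g, ∀ u ∈ U, φ g u ∈ U) → U = ⊥ ∨ U = ⊤ := by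
    intro U hU
    by_cases hUb : U = ⊥
    · exact Or.inl hUb
    right
    have h1 : U.map M.subtype = M := by
      refine hmin _ ⟨?_⟩ (Subgroup.map_subtype_le U) ?_
      · rintro _ ⟨u, hu, rfl⟩ x
        refine ⟨φ (π x) u, hU _ u hu, ?_⟩
        rw [hφ]
        exact MulAut.conjNormal_apply x u
      · rw [Ne, Subgroup.map_eq_bot_iff_of_injective _ M.subtype_injective]; exact hUb
    refine eq_top_iff.2 fun m _ => ?_
    obtain ⟨u, hu, hum⟩ := (h1.symm ▸ m.2 : (m : X) ∈ U.map M.subtype)
    exact Subtype.ext hum ▸ hu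
  obtain ⟨k, hk⟩ := IsPGroup.iff_card.1 (C.pgroup.to_le hMQ)
  have h16 : Nat.card M ≤ 16 := card_elem_le C.rank M hsq
  haveI := simple
  rcases φ.normal_ker.eq_bot_or_eq_top with hb | ht
  · -- faithful
    right
    have hφi : Function.Injective φ := (MonoidHom.ker_eq_bot_iff φ).1 hb
    have hk3 : k = 3 := by
      have hk4 : k ≤ 4 := (Nat.pow_le_pow_iff_right Nat.one_lt_two).1 (hk ▸ h16 : 2 ^ k ≤ 2 ^ 4)
      by_contra hk3
      rcases (show k ≤ 2 ∨ k = 4 by omega) with hk2 | rfl
      · have h1 := Nat.card_le_card_of_injective _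
          ((MulEquiv.toEquiv_injective (α := M) (β := M)).comp hφi)
        have h4 : Nat.card M ≤ 4 := by
          rw [hk]; exact (Nat.pow_le_pow_right two_pos hk2).trans le_rfl
        rw [card_L3, show (M ≃ M) = Equiv.Perm M from rfl, Nat.card_perm] at h1
        have := Nat.factorial_le h4
        rw [show Nat.factorial 4 = 24 from rfl] at this
        omega
      · exact not_irreducible_sixteen hexp (by rw [hk]; norm_num) φ hφi hinv
    subst hk3
    refine ⟨hk, ?_⟩
    letI : Module (ZMod 2) (Additive M) :=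
      AddCommGroup.zmodModule fun v => Additive.toMul.injective (by
        rw [two_nsmul, toMul_add, toMul_zero]; exact hexp _)
    have hfr : Module.finrank (ZMod 2) (Additive M) = 3 := by
      have h := Module.natCard_eq_pow_finrank (K := ZMod 2) (V := Additive M)
      rw [Nat.card_zmod, Nat.card_congr Additive.toMul, hk] at h
      exact (Nat.pow_right_injective le_rfl h).symm
    let b := (Module.finBasisOfFinrankEq (ZMod 2) (Additive M) hfr).equivFun
    let e : V3 → M := fun v => Additive.toMul (b.symm v)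
    have he : Function.Bijective e := Additive.toMul.bijective.comp b.symm.bijective
    have hadd : ∀ v w, e (v + w) = e v * e w := fun v w => by simp only [e, map_add, toMul_add]
    let einv : M → V3 := fun m => b (Additive.ofMul m)
    have hee : ∀ m, e (einv m) = m := fun m => by simp [e, einv]
    let mat : L3 → M3 := fun g => LinearMap.toMatrix'
      ((AddMonoidHom.mk' (fun v => einv (φ g (e v))) (fun v w => he.1 (by
        show e (einv (φ g (e (v + w)))) = e (einv (φ g (e v)) + einv (φ g (e w)))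
        rw [hee, hadd, hadd, hee, hee, map_mul]))).toZModLinearMap 2)
    have hmat : ∀ g v, e (mat g *ᵥ v) = φ g (e v) := fun g v => by
      show e (LinearMap.toMatrix' _ *ᵥ v) = _
      rw [LinearMap.toMatrix'_mulVec]
      exact hee _
    have hmeq : ∀ {A B : M3}, (∀ v, e (A *ᵥ v) = e (B *ᵥ v)) → A = B := fun h =>
      Matrix.ext_of_mulVec_single fun i => he.1 (h _)
    let Φ : L3 →* M3 :=
      { toFun := mat
        map_one' := hmeq fun v => by rw [hmat, map_one, one_mulVec]; rfl
        map_mul' := fun g h => hmeq fun v => by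
          rw [hmat, ← mulVec_mulVec, hmat, hmat, map_mul]; rfl }
    let θ : L3 →* L3 := Φ.toHomUnits
    have hθ : Function.Injective θ := fun g h hgh => hφi (MulEquiv.ext fun m => by
      have e' : mat g = mat h := congrArg Units.val hgh
      rw [← hee m, ← hmat, e', hmat])
    have hθb : Function.Bijective θ := (Nat.bijective_iff_injective_and_card θ).2 ⟨hθ, rfl⟩
    refine ⟨θ.comp π, fun v => (e v : X), ?_, hθb.2.comp C.surj, ⟨bot_le, fun v => (e v).2, ?_, ?_, ?_, ?_⟩⟩
    · ext x
      simp only [MonoidHom.mem_ker, MonoidHom.comp_apply]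
      exact ⟨fun h => hθ (h.trans (map_one θ).symm), fun h => by rw [h, map_one]⟩
    · intro p hp
      obtain ⟨v, hv⟩ := he.2 ⟨p, hp⟩
      exact ⟨v, by rw [Subgroup.mem_bot, hv]; exact inv_mul_cancel p⟩
    · intro v w h
      rw [Subgroup.mem_bot, inv_mul_eq_one] at h
      exact he.1 (Subtype.ext h)
    · intro v w
      rw [Subgroup.mem_bot, hadd, Subgroup.coe_mul, inv_mul_cancel]
    · intro x v
      show ((e (mat (π x) *ᵥ v) : M) : X)⁻¹ * (x * (e v : X) * x⁻¹) ∈ (⊥ : Subgroup X)
      rw [Subgroup.mem_bot, hmat, hφ, inv_mul_eq_one]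
      exact MulAut.conjNormal_apply x (e v)
  · -- trivial
    left
    have hcen' : ∀ m ∈ M, ∀ x, x * m = m * x := fun m hm x => by
      have h1 : φ (π x) = 1 := MonoidHom.mem_ker.1 (ht ▸ Subgroup.mem_top (π x))
      rw [hφ] at h1
      have h2 := congrArg Subtype.val (DFunLike.congr_fun h1 (⟨m, hm⟩ : M))
      rw [MulAut.conjNormal_apply] at h2
      exact mul_inv_eq_iff_eq_mul.1 h2
    refine ⟨?_, hcen'⟩
    obtain ⟨m, hm, hm1⟩ := (Subgroup.bot_or_exists_ne_one M).resolve_left hne
    have h : Subgroup.zpowers m = M := by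
      refine hmin _ ⟨fun n hn x => ?_⟩ (Subgroup.zpowers_le.2 hm)
        (fun h => hm1 (Subgroup.zpowers_eq_bot.1 h))
      rw [hcen' n (Subgroup.zpowers_le.2 hm hn) x, mul_inv_cancel_right]; exact hn
    rw [← h, Nat.card_zpowers]
    exact orderOf_eq_prime (by rw [pow_two]; exact hsq m hm) hm1

end Cfsg.Agent.RankFourL32
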