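import Cfsg.Agent.Lib.RankFourL32.Natural
import Cfsg.Agent.Lib.RankFourL32.Minimal

/-!
The possible two-radicals of a perfect group over the general linear group of degree three over
two elements with sectional two-rank four: the inductive steps.
-/

set_option autoImplicit false
set_option linter.style.haveILetI false

namespace Cfsg.Agent.RankFourL32

open Matrix

variable {X : Type*} [Group X] [Finite X] {π : X →* L3}

theorem v3_add_self (v : V3) : v + v = 0 := funext fun _ => CharTwo.add_self_eq_zero _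

theorem Top.bot_eq {P : Subgroup X} {s : V3 → X} (T : Top π P ⊥ s) :
    (∀ v w, s (v + w) = s v * s w) ∧ (∀ x v, x * s v * x⁻¹ = s ((π x).1 *ᵥ v)) ∧
      (∀ p ∈ P, ∃ v, p = s v) ∧ Function.Injective s := by
  refine ⟨fun v w => ?_, fun x v => ?_, fun p hp => ?_, fun v w h => T.sep v w ?_⟩
  · have h := T.add v w; rwa [Subgroup.mem_bot, inv_mul_eq_one] at h
  · have h := T.act x v; rw [Subgroup.mem_bot, inv_mul_eq_one] at h; exact h.symm
  · obtain ⟨v, hv⟩ := T.cover p hp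
    rw [Subgroup.mem_bot, inv_mul_eq_one] at hv
    exact ⟨v, hv.symm⟩
  · rw [h, Subgroup.mem_bot, inv_mul_cancel]

theorem line_fixed : ∀ v : V3, (v = 0 ∨ v = e0) → gS.1 *ᵥ v = v ∧ gH.1 *ᵥ v = v := by decide +kernel

/-- Lifts of `V3` closed modulo a subgroup give a subgroup. -/
def liftSub (M : Subgroup X) (f : V3 → X) (h0 : f 0 ∈ M)
    (hf : ∀ v w, (f (v + w))⁻¹ * (f v * f w) ∈ M) (hc : ∀ v, ∀ m ∈ M, f v * m = m * f v) :
    Subgroup X where
  carrier := {p | ∃ v, (f v)⁻¹ * p ∈ M}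
  one_mem' := ⟨0, by rw [mul_one]; exact inv_mem h0⟩
  mul_mem' := fun {a b} ⟨v, hv⟩ ⟨w, hw⟩ => ⟨v + w, by
    have h := mul_mem (mul_mem (hf v w) hv) hw
    rw [show (f (v + w))⁻¹ * (f v * f w) * ((f v)⁻¹ * a) * ((f w)⁻¹ * b) =
      (f (v + w))⁻¹ * f v * (f w * ((f v)⁻¹ * a)) * ((f w)⁻¹ * b) by group, hc w _ hv] at h
    rw [show (f (v + w))⁻¹ * (a * b) =
      (f (v + w))⁻¹ * f v * ((f v)⁻¹ * a * f w) * ((f w)⁻¹ * b) by group]
    exact h⟩
  inv_mem' := fun {a} ⟨v, hv⟩ => ⟨v, by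
    have h1 := hf v v
    rw [v3_add_self] at h1
    have h2 := inv_mem (mul_mem (mul_mem h0 h1) hv)
    rw [mul_inv_cancel_left, show f v * f v * ((f v)⁻¹ * a) = f v * a by group] at h2
    have h3 : (f v * a)⁻¹ = a⁻¹ * (f v)⁻¹ := _root_.mul_inv_rev _ _
    rw [h3] at h2
    have h4 := hc v _ h2
    rw [show (f v)⁻¹ * a⁻¹ = (f v)⁻¹ * (a⁻¹ * (f v)⁻¹ * f v) by group, ← h4, inv_mul_cancel_left]
    exact h2⟩

theorem mem_of_index_two {A B : Subgroup X} (hAB : A ≤ B) (h : Nat.card B = 2 * Nat.card A)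
    {p z : X} (hp : p ∈ B) (hpA : p ∉ A) (hz : z ∈ B) (hzA : z ∉ A) : z⁻¹ * p ∈ A := by
  have hidx : (A.subgroupOf B).index = 2 := by
    have hc := Subgroup.card_mul_index (A.subgroupOf B)
    rw [Nat.card_congr (Subgroup.subgroupOfEquivOfLe hAB).toEquiv, h, mul_comm 2] at hc
    exact Nat.eq_of_mul_eq_mul_left Nat.card_pos hc
  have := (Subgroup.mul_mem_iff_of_index_two hidx (a := (⟨z, hz⟩ : B)⁻¹) (b := ⟨p, hp⟩)).2
    (iff_of_false (fun hh => hzA (inv_mem_iff.1 (Subgroup.mem_subgroupOf.1 hh)))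
      fun hh => hpA (Subgroup.mem_subgroupOf.1 hh))
  exact Subgroup.mem_subgroupOf.1 this

/-- The natural module with a quotient of order two on top: the extension splits off centrally. -/
theorem case_two_top (C : Cover π) {M : Subgroup X} [M.Normal] {m : V3 → X} (hT : Top π M ⊥ m)
    (hMQ : M ≤ π.ker) (hMc : ∀ u ∈ M, ∀ q ∈ π.ker, q * u = u * q) (hcard : Nat.card π.ker = 16) :
    ∃ Z : Subgroup X, Nat.card Z = 2 ∧ (∀ z ∈ Z, ∀ x, x * z = z * x) ∧ Top π π.ker Z m := by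
  obtain ⟨hmadd, hmact, hmcov, hminj⟩ := hT.bot_eq
  have hm0 : m 0 = 1 := by have := hmadd 0 0; rw [add_zero] at this; exact left_eq_mul.1 this
  have hcM : Nat.card M = 8 := by rw [hT.card, Subgroup.card_bot, mul_one]
  have hcard2 : Nat.card π.ker = 2 * Nat.card M := by rw [hcard, hcM]
  obtain ⟨z, hz, hzM⟩ : ∃ z ∈ π.ker, z ∉ M := by
    by_contra hc
    push Not at hc
    have := Subgroup.card_le_of_le hc
    omega
  have hm2 : ∀ v, m v * m v = 1 := fun v => by rw [← hmadd, v3_add_self, hm0]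
  have hcov : ∀ x, ∃ u, x * z * x⁻¹ = z * m u := fun x => by
    have hxz : x * z * x⁻¹ ∈ π.ker := Subgroup.Normal.conj_mem inferInstance z hz x
    have hxzM : x * z * x⁻¹ ∉ M := fun h => hzM (by
      have := Subgroup.Normal.conj_mem (inferInstance : M.Normal) _ h x⁻¹
      simpa [mul_assoc] using this)
    obtain ⟨u, hu⟩ := hmcov _ (mem_of_index_two hMQ hcard2 hxz hxzM hz hzM)
    exact ⟨u, by rw [← hu, mul_inv_cancel_left]⟩
  choose u hu using hcov
  have huq : ∀ x y, π x = π y → u x = u y := fun x y hxy => hminj (by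
    have hq : x⁻¹ * y ∈ π.ker := by rw [MonoidHom.mem_ker, map_mul, map_inv, hxy, inv_mul_cancel]
    have e : y * z * y⁻¹ = x * z * x⁻¹ := by
      have hqz : x⁻¹ * y * z = z * (x⁻¹ * y) := by
        by_cases hqM : x⁻¹ * y ∈ M
        · exact (hMc _ hqM z hz).symm
        · have := hMc _ (mem_of_index_two hMQ hcard2 hq hqM hz hzM) z hz
          calc x⁻¹ * y * z = z * ((z⁻¹ * (x⁻¹ * y)) * z) := by group
            _ = z * (z * (z⁻¹ * (x⁻¹ * y))) := by rw [← this]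
            _ = _ := by group
      calc y * z * y⁻¹ = x * (x⁻¹ * y * z) * y⁻¹ := by group
        _ = x * z * x⁻¹ := by rw [hqz]; group
    rw [hu, hu] at e
    exact (mul_left_cancel e).symm)
  choose lift hlift using C.surj
  let c : L3 → V3 := fun g => u (lift g)
  have hc : ∀ x, x * z * x⁻¹ = z * m (c (π x)) := fun x => by
    rw [hu]; congr 2; exact huq _ _ (hlift _).symm
  have hcoc : ∀ g h, c (g * h) = c g + g.1 *ᵥ c h := fun g h => hminj (by
    have e1 := hc (lift g * lift h)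
    rw [map_mul, hlift, hlift] at e1
    have e2 : lift g * lift h * z * (lift g * lift h)⁻¹ =
        z * m (c g) * (lift g * m (c h) * (lift g)⁻¹) := by
      calc lift g * lift h * z * (lift g * lift h)⁻¹
          = lift g * (lift h * z * (lift h)⁻¹) * (lift g)⁻¹ := by group
        _ = lift g * z * (lift g)⁻¹ * (lift g * m (c h) * (lift g)⁻¹) := by
          rw [hc, hlift]; group
        _ = _ := by rw [hc, hlift]
    rw [e2, hmact, hlift, mul_assoc, ← hmadd] at e1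
    exact (mul_left_cancel e1).symm)
  -- an element above `gT`
  obtain ⟨x, hx⟩ := C.surj gT
  have hxsq : x * x ∉ M := by
    have C' := C.quotient M hMQ
    have hker : (QuotientGroup.lift M π hMQ).ker = π.ker.map (QuotientGroup.mk' M) :=
      QuotientGroup.ker_lift M π hMQ
    intro h
    refine lift_sq_ne_one (QuotientGroup.lift M π hMQ) C'.surj C'.pgroup C'.perfect ?_ ?_
      (x := QuotientGroup.mk' M x) hx ((map_mul _ _ _).symm.trans ((QuotientGroup.eq_one_iff _).2 h))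
    · rw [hker]
      rintro _ ⟨q, hq, rfl⟩ y
      obtain ⟨y, rfl⟩ := QuotientGroup.mk'_surjective M y
      rw [← mul_inv_eq_iff_eq_mul, ← map_inv, ← map_mul, ← map_mul]
      refine QuotientGroup.eq.2 ?_
      have hyq : y * q * y⁻¹ ∈ π.ker := Subgroup.Normal.conj_mem inferInstance q hq y
      by_cases hqM : q ∈ M
      · exact mul_mem (inv_mem (Subgroup.Normal.conj_mem inferInstance q hqM y)) hqM
      · exact mem_of_index_two hMQ hcard2 hq hqM hyq fun h' => hqM (by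
          have := Subgroup.Normal.conj_mem (inferInstance : M.Normal) _ h' y⁻¹
          simpa [mul_assoc] using this)
    · rw [hker, Ne, Subgroup.map_eq_bot_iff, QuotientGroup.ker_mk']
      exact fun h => hzM (h hz)
  have hcT : c gT = 0 ∨ c gT = e0 := by
    have hq : x * x ∈ π.ker := by rw [MonoidHom.mem_ker, map_mul, hx, gT_sq]
    obtain ⟨v, hv⟩ := hmcov _ (mem_of_index_two hMQ hcard2 hq hxsq hz hzM)
    have hxx : x * x = z * m v := by rw [← hv, mul_inv_cancel_left]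
    have e : z * m v = z * (m (c gT) * m (gT.1 *ᵥ v)) := by
      calc z * m v = x * (x * x) * x⁻¹ := by rw [← hxx]; group
        _ = (x * z * x⁻¹) * (x * m v * x⁻¹) := by rw [hxx]; group
        _ = _ := by rw [hc, hmact, hx, mul_assoc]
    rw [← hmadd] at e
    have e' := hminj (mul_left_cancel e)
    have key : ∀ a b d : V3, a = b + d → b = d + a := by decide +kernel
    rw [key _ _ _ e']
    exact gT_im v
  obtain ⟨w, hw⟩ := cocycle_split c hcoc hcT
  set z' := z * m w with hz'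
  have hz'Q : z' ∈ π.ker := mul_mem hz (hMQ (hT.mem w))
  have hz'M : z' ∉ M := fun h => hzM ((Subgroup.mul_mem_cancel_right M (hT.mem w)).1 h)
  have hz'c : ∀ y, y * z' = z' * y := fun y => by
    rw [← mul_inv_eq_iff_eq_mul, hz',
      show y * (z * m w) * y⁻¹ = y * z * y⁻¹ * (y * m w * y⁻¹) by group, hc, hmact, hw, mul_assoc,
      ← hmadd]
    congr 2
    have key : ∀ a b : V3, a + b + a = b := by decide +kernel
    exact key _ _
  have hz'2 : z' * z' = 1 := by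
    have hmem : z' * z' ∈ M := by
      by_contra hn
      have := mem_of_index_two hMQ hcard2 (mul_mem hz'Q hz'Q) hn hz'Q hz'M
      rw [inv_mul_cancel_left] at this
      exact hz'M this
    obtain ⟨v, hv⟩ := hmcov _ hmem
    have hfix : ∀ y, (π y).1 *ᵥ v = v := fun y => hminj (by
      rw [← hmact, ← hv, ← mul_assoc, hz'c y, mul_assoc z' y, hz'c y, ← mul_assoc, mul_inv_cancel_right])
    obtain ⟨t, ht⟩ := C.surj gT
    obtain ⟨p, hp⟩ := C.surj gP
    have := eq_zero_of_fixed v (ht ▸ hfix t) (hp ▸ hfix p)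
    rw [hv, this, hm0]
  have hz'1 : z' ≠ 1 := fun h => hz'M (h ▸ one_mem M)
  have hZmem : ∀ q, q ∈ Subgroup.zpowers z' ↔ q = 1 ∨ q = z' := fun q => by
    refine ⟨?_, ?_⟩
    · rintro ⟨k, rfl⟩
      rcases Int.even_or_odd k with ⟨j, rfl⟩ | ⟨j, rfl⟩
      · left; show z' ^ (j + j) = 1
        rw [_root_.zpow_add, ← (Commute.refl z').mul_zpow, hz'2, _root_.one_zpow]
      · right; show z' ^ (2 * j + 1) = z'
        rw [_root_.zpow_add, _root_.zpow_one, two_mul, _root_.zpow_add, ← (Commute.refl z').mul_zpow,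
          hz'2, _root_.one_zpow, one_mul]
    · rintro (rfl | rfl)
      exacts [one_mem _, Subgroup.mem_zpowers _]
  have hZc : Nat.card (Subgroup.zpowers z') = 2 := by
    rw [Nat.card_zpowers]; exact orderOf_eq_prime (by rw [pow_two, hz'2]) hz'1
  refine ⟨Subgroup.zpowers z', hZc, fun q hq y => ?_,
    ⟨Subgroup.zpowers_le.2 hz'Q, fun v => hMQ (hT.mem v), fun p hp => ?_, fun v v' h => ?_,
      fun v v' => ?_, fun y v => ?_⟩⟩
  · rcases (hZmem q).1 hq with rfl | rfl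
    · rw [one_mul, mul_one]
    · exact hz'c y
  · by_cases hpM : p ∈ M
    · obtain ⟨v, rfl⟩ := hmcov p hpM
      exact ⟨v, by rw [inv_mul_cancel]; exact one_mem _⟩
    · obtain ⟨v, hv⟩ := hmcov _ (mem_of_index_two hMQ hcard2 hp hpM hz'Q hz'M)
      refine ⟨v, (hZmem _).2 (Or.inr ?_)⟩
      rw [show p = z' * m v by rw [← hv, mul_inv_cancel_left], ← hz'c, ← mul_assoc,
        inv_mul_cancel, one_mul]
  · rcases (hZmem _).1 h with e | e
    · exact hminj (inv_mul_eq_one.1 e)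
    · exact absurd (e ▸ mul_mem (inv_mem (hT.mem v)) (hT.mem v')) hz'M
  · rw [hmadd, inv_mul_cancel]; exact one_mem _
  · rw [hmact, inv_mul_cancel]; exact one_mem _

/-- Two natural modules: impossible. -/
theorem case_two_natural (C : Cover π) {M : Subgroup X} [M.Normal] {s : V3 → X}
    (T : Top π π.ker M s) (hMcard : Nat.card M = 8) (hM2 : ∀ u ∈ M, u * u = 1)
    (hMc : ∀ u ∈ M, ∀ q ∈ π.ker, q * u = u * q) (hsqM : ∀ q ∈ π.ker, q * q ∈ M)
    (hcomM : ∀ p ∈ π.ker, ∀ r ∈ π.ker, p * r * p⁻¹ * r⁻¹ ∈ M) : False := by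
  obtain ⟨hcomm, h | h⟩ := quad C T le_rfl hMcard hMc hM2 hsqM hcomM
  · have := card_elem_le C.rank π.ker h
    rw [T.card, hMcard] at this
    omega
  · obtain ⟨e, A, Co, hr, -⟩ := exists_coord π.ker M T hMcard hcomm hM2 hsqM h
    exact cube_contra C.rank C.surj C.perfect Co hr

/-- A central subgroup of order four under the natural module: impossible. -/
theorem case_center_four (C : Cover π) {Z M : Subgroup X} [Z.Normal] [M.Normal] {s : V3 → X}
    (T : Top π π.ker Z s) (hMZ : M ≤ Z) (hM : Nat.card M = 2) (hZ : Nat.card Z = 4)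
    (hMc : ∀ u ∈ M, ∀ x, x * u = u * x) (hZs : ∀ z ∈ Z, ∀ x, x * z * x⁻¹ * z⁻¹ ∈ M) : False := by
  haveI : Fact (Nat.Prime 2) := ⟨Nat.prime_two⟩
  have hZc : ∀ z ∈ Z, ∀ x, x * z = z * x := fun z hz => central_of_series C.perfect hMc (hZs z hz)
  have hQcard : Nat.card π.ker = 32 := by rw [T.card, hZ]
  have hMQ : M ≤ π.ker := hMZ.trans T.le
  by_cases hexp : ∀ z ∈ Z, z * z = 1
  · have := card_elem_le C.rank π.ker (ext_trivial C T hZc hexp).2
    omega
  push Not at hexp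
  obtain ⟨z₀, hz₀, hz₀2⟩ := hexp
  have hM2' : ∀ u ∈ M, u * u = 1 := fun u hu => by
    have h := pow_card_eq_one' (G := M) (x := ⟨u, hu⟩)
    rw [hM, pow_two] at h
    exact congrArg Subtype.val h
  have hZsq : ∀ z ∈ Z, z * z ∈ M := fun z hz => by
    by_cases hzM : z ∈ M
    · exact mul_mem hzM hzM
    by_contra hn
    have := mem_of_index_two hMZ (by rw [hZ, hM]) (mul_mem hz hz) hn hz hzM
    rw [inv_mul_cancel_left] at this
    exact hzM this
  set μ := z₀ * z₀ with hμ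
  have hMmem : ∀ u ∈ M, u = 1 ∨ u = μ := fun u hu => by
    by_cases hu1 : u = 1
    · exact Or.inl hu1
    · obtain ⟨w, -, hw⟩ := (Nat.card_eq_two_iff' (1 : M)).1 hM
      have h1 := hw ⟨u, hu⟩ fun h => hu1 (congrArg Subtype.val h)
      have h2 := hw ⟨μ, hZsq z₀ hz₀⟩ fun h => hz₀2 (congrArg Subtype.val h)
      exact Or.inr (congrArg Subtype.val (h1.trans h2.symm))
  -- squares and commutators lie in `M`
  obtain ⟨-, hsqM⟩ : (∀ p ∈ π.ker, ∀ r ∈ π.ker, p * r * p⁻¹ * r⁻¹ ∈ M) ∧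
      ∀ p ∈ π.ker, p * p ∈ M := by
    have hker : (QuotientGroup.lift M π hMQ).ker = π.ker.map (QuotientGroup.mk' M) :=
      QuotientGroup.ker_lift M π hMQ
    have T' := T.map M hMQ hMZ
    obtain ⟨hc, hs⟩ := ext_trivial (C.quotient M hMQ) T'
      (by rintro _ ⟨z, hz, rfl⟩ y
          obtain ⟨y, rfl⟩ := QuotientGroup.mk'_surjective M y
          rw [← map_mul, ← map_mul, hZc z hz])
      (by rintro _ ⟨z, hz, rfl⟩
          rw [← map_mul]
          exact (QuotientGroup.eq_one_iff (N := M) _).2 (hZsq z hz))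
    refine ⟨fun p hp r hr => (QuotientGroup.eq_one_iff (N := M) _).1 ?_,
      fun p hp => (QuotientGroup.eq_one_iff (N := M) _).1 ?_⟩
    · show QuotientGroup.mk' M (p * r * p⁻¹ * r⁻¹) = 1
      rw [map_mul, map_mul, map_mul, map_inv, map_inv,
        hc _ (Subgroup.mem_map_of_mem _ hp) _ (Subgroup.mem_map_of_mem _ hr), mul_inv_cancel_right,
        mul_inv_cancel]
    · show QuotientGroup.mk' M (p * p) = 1
      rw [map_mul]; exact hs _ (Subgroup.mem_map_of_mem _ hp)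
  have hcomm : ∀ p ∈ π.ker, ∀ r ∈ π.ker, p * r = r * p := ext_comm C T hZc fun p hp r hr => by
    refine hM2' _ ?_
    have e : p * r * p⁻¹ * r⁻¹ = (p * r) * (p * r) * (r⁻¹ * (p⁻¹ * p⁻¹) * r) * (r⁻¹ * r⁻¹) := by group
    rw [e]
    exact mul_mem (mul_mem (hsqM _ (mul_mem hp hr)) (by
      have := Subgroup.Normal.conj_mem (inferInstance : M.Normal) _ (hsqM _ (inv_mem hp)) r⁻¹
      simpa using this)) (hsqM _ (inv_mem hr))
  -- the involutions
  let E : Subgroup X :=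
    { carrier := {q | q ∈ π.ker ∧ q * q = 1}
      one_mem' := ⟨one_mem _, mul_one 1⟩
      mul_mem' := fun {a b} ha hb => ⟨mul_mem ha.1 hb.1, by
        rw [show a * b * (a * b) = a * (b * a) * b by group, hcomm b hb.1 a ha.1,
          show a * (a * b) * b = a * a * (b * b) by group, ha.2, hb.2, mul_one]⟩
      inv_mem' := fun {a} ha => ⟨inv_mem ha.1, by rw [← _root_.mul_inv_rev, ha.2, inv_one]⟩ }
  haveI hEn : E.Normal := ⟨fun a ha x => ⟨Subgroup.Normal.conj_mem inferInstance a ha.1 x, by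
    rw [show x * a * x⁻¹ * (x * a * x⁻¹) = x * (a * a) * x⁻¹ by group, ha.2, mul_one, mul_inv_cancel]⟩⟩
  have hEQ : E ≤ π.ker := fun q hq => hq.1
  have hsq : ∀ q ∈ π.ker, q ∈ E ∨ q * q = μ := fun q hq =>
    (hMmem _ (hsqM q hq)).imp (fun h => ⟨hq, h⟩) id
  have hz₀Q : z₀ ∈ π.ker := T.le hz₀
  have hz₀E : z₀ ∉ E := fun h => hz₀2 h.2
  have hμ2 : μ * μ = 1 := hM2' _ (hZsq z₀ hz₀)
  have hdiff : ∀ q ∈ π.ker, q ∉ E → z₀⁻¹ * q ∈ E := fun q hq hqE => by
    refine ⟨mul_mem (inv_mem hz₀Q) hq, ?_⟩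
    have h1 := (hsq q hq).resolve_left hqE
    rw [show z₀⁻¹ * q * (z₀⁻¹ * q) = z₀⁻¹ * (q * z₀⁻¹) * q by group,
      hcomm q hq _ (inv_mem hz₀Q),
      show z₀⁻¹ * (z₀⁻¹ * q) * q = μ⁻¹ * (q * q) by rw [hμ]; group, h1, inv_mul_cancel]
  have hEidx : ∀ p ∈ π.ker, p ∉ E → ∀ r ∈ π.ker, r ∉ E → p⁻¹ * r ∈ E := fun p hp hpE r hr hrE => by
    have := mul_mem (inv_mem (hdiff p hp hpE)) (hdiff r hr hrE)
    rwa [_root_.mul_inv_rev, inv_inv, mul_assoc, mul_inv_cancel_left] at this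
  -- the quotient by the involutions
  have hxsq : ∀ {x : X}, π x = gT → x * x ∉ E := by
    intro x hx h
    have C' := C.quotient E hEQ
    have hker : (QuotientGroup.lift E π hEQ).ker = π.ker.map (QuotientGroup.mk' E) :=
      QuotientGroup.ker_lift E π hEQ
    refine lift_sq_ne_one (QuotientGroup.lift E π hEQ) C'.surj C'.pgroup C'.perfect ?_ ?_
      (x := QuotientGroup.mk' E x) hx ((map_mul _ _ _).symm.trans ((QuotientGroup.eq_one_iff _).2 h))
    · rw [hker]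
      rintro _ ⟨q, hq, rfl⟩ y
      obtain ⟨y, rfl⟩ := QuotientGroup.mk'_surjective E y
      rw [← mul_inv_eq_iff_eq_mul, ← map_inv, ← map_mul, ← map_mul]
      refine QuotientGroup.eq.2 ?_
      by_cases hqE : q ∈ E
      · exact mul_mem (inv_mem (hEn.conj_mem q hqE y)) hqE
      · exact hEidx _ (Subgroup.Normal.conj_mem inferInstance q hq y) (fun h' => hqE (by
          have := hEn.conj_mem _ h' y⁻¹
          simpa [mul_assoc] using this)) q hq hqE
    · rw [hker, Ne, Subgroup.map_eq_bot_iff, QuotientGroup.ker_mk']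
      exact fun h => hz₀E (h hz₀Q)
  obtain ⟨y, hy⟩ := C.surj gS
  obtain ⟨h, hh⟩ := C.surj gH
  set x := y * y with hx
  set a := h * x * h⁻¹ with ha
  have hπx : π x = gT := by rw [hx, map_mul, hy, gS_sq]
  have hπa : π a = gT2 := by rw [ha, map_mul, map_mul, map_inv, hh, hπx, gT2]
  have hxQ : x * x ∈ π.ker := by rw [MonoidHom.mem_ker, map_mul, hπx, gT_sq]
  -- lifts of the fixed line are fixed
  have hline : ∀ p ∈ π.ker, ∀ v, (v = 0 ∨ v = e0) → (s v)⁻¹ * p ∈ Z →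
      x * p * x⁻¹ = p ∧ h * p * h⁻¹ = p := by
    intro p hp v hv hpv
    have key : ∀ g : X, (π g).1 *ᵥ v = v → ∃ ζ ∈ Z, g * p * g⁻¹ = p * ζ ∧ ζ * ζ = 1 := by
      intro g hg
      have h1 := T.act g v
      rw [hg] at h1
      have hcz : g * ((s v)⁻¹ * p) * g⁻¹ = (s v)⁻¹ * p := by
        rw [hZc _ hpv g, mul_inv_cancel_right]
      refine ⟨p⁻¹ * (g * p * g⁻¹), ?_, by group, ?_⟩
      · have e : p⁻¹ * (g * p * g⁻¹) =
            ((s v)⁻¹ * p)⁻¹ * ((s v)⁻¹ * (g * s v * g⁻¹)) * (g * ((s v)⁻¹ * p) * g⁻¹) := by group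
        rw [e, hcz]
        exact mul_mem (mul_mem (inv_mem hpv) h1) hpv
      · have hgp : g * p * g⁻¹ ∈ π.ker := Subgroup.Normal.conj_mem inferInstance p hp g
        have e1 : p⁻¹ * (g * p * g⁻¹) * (p⁻¹ * (g * p * g⁻¹)) =
            (p * p)⁻¹ * (g * (p * p) * g⁻¹) := by
          rw [show p⁻¹ * (g * p * g⁻¹) * (p⁻¹ * (g * p * g⁻¹)) =
            p⁻¹ * ((g * p * g⁻¹) * p⁻¹) * (g * p * g⁻¹) by group, hcomm _ hgp _ (inv_mem hp)]
          group
        rw [e1, hMc _ (hsqM p hp) g, mul_inv_cancel_right, inv_mul_cancel]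
    obtain ⟨hSv, hHv⟩ := line_fixed v hv
    obtain ⟨ζ, hζ, he, hζ2⟩ := key y (by rw [hy]; exact hSv)
    obtain ⟨η, hη, he', hη2⟩ := key h (by rw [hh]; exact hHv)
    constructor
    · calc x * p * x⁻¹ = y * (y * p * y⁻¹) * y⁻¹ := by rw [hx]; group
        _ = (y * p * y⁻¹) * (y * ζ * y⁻¹) := by conv_lhs => rw [he]
                                                group
        _ = p * ζ * ζ := by rw [he, hZc ζ hζ y, mul_inv_cancel_right]
        _ = p := by rw [mul_assoc, hζ2, mul_one]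
    · have h3 : h * h * h ∈ π.ker := by
        rw [MonoidHom.mem_ker, map_mul, map_mul, hh, mul_assoc, gH_cube]
      have e3 : h * h * h * p * (h * h * h)⁻¹ = p := by
        rw [hcomm _ h3 p hp, mul_inv_cancel_right]
      have e2 : h * (h * p * h⁻¹) * h⁻¹ = p := by
        rw [he', show h * (p * η) * h⁻¹ = h * p * h⁻¹ * (h * η * h⁻¹) by group, hZc η hη h,
          mul_inv_cancel_right, he', mul_assoc, hη2, mul_one]
      calc h * p * h⁻¹ = h * (h * (h * p * h⁻¹) * h⁻¹) * h⁻¹ := by rw [e2]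
        _ = h * h * h * p * (h * h * h)⁻¹ := by group
        _ = p := e3
  set r := x * x with hr
  have hrE : r ∉ E := hxsq hπx
  have hr2 : r * r = μ := (hsq r hxQ).resolve_left hrE
  obtain ⟨v, hv⟩ := T.cover r hxQ
  have hv' : v = 0 ∨ v = e0 := by
    refine gS_fix v ?_
    have h1 := T.act y v
    rw [hy] at h1
    have hzr := hZc _ hv y
    have e : y * s v * y⁻¹ = s v := by
      have e1 : y * r * y⁻¹ = r := by rw [hr, hx]; group
      calc y * s v * y⁻¹ = (y * r * y⁻¹) * (y * ((s v)⁻¹ * r) * y⁻¹)⁻¹ := by group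
        _ = r * ((s v)⁻¹ * r)⁻¹ := by rw [e1, hzr, mul_inv_cancel_right]
        _ = s v := by group
    rw [e] at h1
    exact T.sep _ _ h1
  obtain ⟨-, hhr⟩ := hline r hxQ v hv' hv
  have ha2 : a * a = r := by
    rw [ha, show h * x * h⁻¹ * (h * x * h⁻¹) = h * (x * x) * h⁻¹ by group, ← hr]; exact hhr
  have haxQ : a * x * a⁻¹ * x⁻¹ ∈ π.ker := by
    rw [MonoidHom.mem_ker, map_mul, map_mul, map_mul, map_inv, map_inv, hπx, hπa, gT2_gT,
      inv_eq_of_mul_eq_one_right gT_sq]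
    refine Units.ext ?_
    decide +kernel
  set c := a * x * a⁻¹ * x⁻¹ with hc
  have hax : π (a * x) = gT3 := by rw [map_mul, hπa, hπx, gT2_gT]
  have hax2 : a * x * (a * x) ∈ π.ker := by
    rw [MonoidHom.mem_ker, map_mul, hax]
    exact Units.ext (by decide +kernel)
  have haxE : a * x * (a * x) ∉ E := fun hE => by
    refine hxsq (x := h * (a * x) * h⁻¹) ?_ ?_
    · rw [map_mul, map_mul, map_inv, hax, hh, gH_gT3]
    · rw [show h * (a * x) * h⁻¹ * (h * (a * x) * h⁻¹) = h * (a * x * (a * x)) * h⁻¹ by group]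
      exact hEn.conj_mem _ hE h
  have har : a * r = r * a := by rw [← ha2]; group
  have hxr : x * r = r * x := by rw [hr]; group
  have hcμ : c * c = μ := by
    have e : c = a * x * (a * x) * (r⁻¹ * r⁻¹) := by
      have ea : a⁻¹ = a * r⁻¹ := by rw [← ha2]; group
      have ex : x⁻¹ = x * r⁻¹ := by rw [hr]; group
      rw [hc, ea, ex]
      calc a * x * (a * r⁻¹) * (x * r⁻¹) = a * x * a * (r⁻¹ * x) * r⁻¹ := by group
        _ = a * x * a * (x * r⁻¹) * r⁻¹ := by rw [(show Commute x r from hxr).inv_right.eq]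
        _ = _ := by group
    rw [e, ← _root_.mul_inv_rev, hr2, inv_eq_of_mul_eq_one_right hμ2]
    rw [show a * x * (a * x) * μ * (a * x * (a * x) * μ) =
      a * x * (a * x) * (μ * (a * x * (a * x))) * μ by group, hcomm μ (hMQ (hZsq z₀ hz₀)) _ hax2,
      show a * x * (a * x) * (a * x * (a * x) * μ) * μ =
        a * x * (a * x) * (a * x * (a * x)) * (μ * μ) by group, hμ2, mul_one]
    exact (hsq _ hax2).resolve_left haxE
  -- the decisive element
  have hmain : ∀ (p t : X), π p = gT ∨ π p = gT2 → p * p = r → t * p * t⁻¹ * p⁻¹ ∈ π.ker →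
      t * (p * p) * t⁻¹ = p * p → (t * p * t⁻¹ * p⁻¹) * (t * p * t⁻¹ * p⁻¹) = μ →
      (t * p * t⁻¹ * p⁻¹ * r) * (t * p * t⁻¹ * p⁻¹ * r) = 1 ∧
        (t * p * t⁻¹ * p⁻¹ * r) * (p⁻¹ * (t * p * t⁻¹ * p⁻¹ * r) * p) = μ := by
    intro p t _ hp hd hfix hd2
    refine ⟨?_, ?_⟩
    · rw [show t * p * t⁻¹ * p⁻¹ * r * (t * p * t⁻¹ * p⁻¹ * r) =
        t * p * t⁻¹ * p⁻¹ * (r * (t * p * t⁻¹ * p⁻¹)) * r by group, hcomm r hxQ _ hd,
        show t * p * t⁻¹ * p⁻¹ * (t * p * t⁻¹ * p⁻¹ * r) * r =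
          t * p * t⁻¹ * p⁻¹ * (t * p * t⁻¹ * p⁻¹) * (r * r) by group, hd2, hr2, hμ2]
    · rw [← hp]
      calc _ = (t * (p * p) * t⁻¹) * (p * p) := by group
        _ = μ := by rw [hfix, hp, hr2]
  have hclass : ∀ (p : X) (g : L3) (u : X), π p = g → u ∈ π.ker → u * u = 1 →
      u * (p⁻¹ * u * p) = μ → (∀ q ∈ π.ker, ∀ v, (v = 0 ∨ v = e0) → (s v)⁻¹ * q ∈ Z →
        p * q * p⁻¹ = q) → g * g = 1 →
      ∃ w, (s w)⁻¹ * u ∈ Z ∧ g.1 *ᵥ w = w ∧ w ≠ 0 ∧ w ≠ e0 := by
    intro p g u hp hu hu2 he hl hg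
    obtain ⟨w, hw⟩ := T.cover u hu
    have hpu : p⁻¹ * u * p = u * μ := by
      rw [← he, ← mul_assoc, ← mul_assoc, ← mul_assoc, hu2, one_mul]
    refine ⟨w, hw, ?_, ?_⟩
    · have h1 := T.act p⁻¹ w
      rw [map_inv, hp, inv_eq_of_mul_eq_one_right hg] at h1
      refine T.sep _ _ ?_
      have e : (s (g.1 *ᵥ w))⁻¹ * s w =
          (s (g.1 *ᵥ w))⁻¹ * (p⁻¹ * s w * p⁻¹⁻¹) * (p⁻¹ * ((s w)⁻¹ * u) * p) * μ⁻¹ * ((s w)⁻¹ * u)⁻¹ := by
        rw [show (s (g.1 *ᵥ w))⁻¹ * (p⁻¹ * s w * p⁻¹⁻¹) * (p⁻¹ * ((s w)⁻¹ * u) * p) =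
          (s (g.1 *ᵥ w))⁻¹ * (p⁻¹ * u * p) by group, hpu]
        group
      rw [e]
      refine mul_mem (mul_mem (mul_mem h1 ?_) (inv_mem (hMZ (hZsq z₀ hz₀)))) (inv_mem hw)
      rw [hZc _ hw p⁻¹, inv_mul_cancel_right]
      exact hw
    · have hne : ¬ (w = 0 ∨ w = e0) := fun hw0 => by
        have h1 := hl u hu w hw0 hw
        have h2 : p⁻¹ * u * p = u := by
          calc p⁻¹ * u * p = p⁻¹ * (p * u * p⁻¹) * p := by rw [h1]
            _ = u := by group
        rw [h2] at hpu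
        exact hz₀2 (left_eq_mul.1 hpu)
      push Not at hne
      exact hne
  have hxline : ∀ q ∈ π.ker, ∀ v, (v = 0 ∨ v = e0) → (s v)⁻¹ * q ∈ Z → x * q * x⁻¹ = q :=
    fun q hq v hv hqv => (hline q hq v hv hqv).1
  have haline : ∀ q ∈ π.ker, ∀ v, (v = 0 ∨ v = e0) → (s v)⁻¹ * q ∈ Z → a * q * a⁻¹ = q :=
    fun q hq v hv hqv => by
      obtain ⟨h1, h2⟩ := hline q hq v hv hqv
      calc a * q * a⁻¹ = h * (x * (h⁻¹ * q * h) * x⁻¹) * h⁻¹ := by rw [ha]; group
        _ = h * q * h⁻¹ := by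
          rw [show h⁻¹ * q * h = q by
            calc h⁻¹ * q * h = h⁻¹ * (h * q * h⁻¹) * h := by rw [h2]
              _ = q := by group, h1]
        _ = q := h2
  have hc' : x * a * x⁻¹ * a⁻¹ = c⁻¹ := by rw [hc]; group
  obtain ⟨hu2, hue⟩ := hmain x a (Or.inl hπx) rfl haxQ (by rw [← hr, har, mul_inv_cancel_right]) hcμ
  obtain ⟨hu2', hue'⟩ := hmain a x (Or.inr hπa) ha2 (hc' ▸ inv_mem haxQ)
    (by rw [ha2, hxr, mul_inv_cancel_right])
    (by rw [hc', ← _root_.mul_inv_rev, hcμ, inv_eq_of_mul_eq_one_right hμ2])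
  obtain ⟨w, hw, hwT, hw0, hw1⟩ := hclass x gT _ hπx (mul_mem haxQ hxQ) hu2 hue hxline gT_sq
  obtain ⟨w', hw', hw'T, hw'0, hw'1⟩ := hclass a gT2 _ hπa (mul_mem (hc' ▸ inv_mem haxQ) hxQ) hu2' hue'
    haline (Units.ext (by decide +kernel))
  have hww : w = w' := by
    rw [hc'] at hw'
    have hcc : c⁻¹ * r = c * r * μ := by
      calc c⁻¹ * r = c⁻¹ * c⁻¹ * (c * r) := by group
        _ = μ⁻¹ * (c * r) := by rw [← _root_.mul_inv_rev, hcμ]
        _ = μ * (c * r) := by rw [inv_eq_of_mul_eq_one_right hμ2]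
        _ = c * r * μ := hcomm _ (hMQ (hZsq z₀ hz₀)) _ (mul_mem haxQ hxQ)
    rw [hcc, ← mul_assoc] at hw'
    refine T.sep _ _ ?_
    have := mul_mem (mul_mem hw (hMZ (hZsq z₀ hz₀))) (inv_mem hw')
    rwa [show (s w)⁻¹ * (c * r) * μ * ((s w')⁻¹ * (c * r) * μ)⁻¹ = (s w)⁻¹ * s w' by group] at this
  subst hww
  rcases gT_gT2_fix w hwT hw'T with e | e
  exacts [hw0 e, hw1 e]

end Cfsg.Agent.RankFourL32
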