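import Cfsg.Agent.Lib.RankFourL32.L32
import Cfsg.Agent.Lib.RankFourL32.Section
import Mathlib.GroupTheory.Abelianization.Defs

/-!
The general linear group of degree three over two elements acting on a homocyclic group of
exponent four and rank three.
-/

set_option autoImplicit false
set_option linter.style.haveILetI false

namespace Cfsg.Agent.RankFourL32

open Matrix

abbrev V4 := Fin 3 → ZMod 4
abbrev Mat4 := Matrix (Fin 3) (Fin 3) (ZMod 4)

/-- Multiplication by two from two elements to four. -/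
def two (a : ZMod 2) : ZMod 4 := if a = 0 then 0 else 2

/-- Reduction modulo two. -/
def red (a : ZMod 4) : ZMod 2 := if a = 0 ∨ a = 2 then 0 else 1

/-- The lifts of a matrix. -/
def lift4 (g : M3) (Y : M3) : Mat4 := fun i j => (if g i j = 0 then 0 else 1) + two (Y i j)

theorem exists_lift4 (g : M3) (A : Mat4) (h : ∀ i j, red (A i j) = g i j) : ∃ Y, A = lift4 g Y := by
  have key : ∀ (a : ZMod 4), ∃ y : ZMod 2, a = (if red a = 0 then 0 else 1) + two y := by decide
  choose y hy using key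
  refine ⟨fun i j => y (A i j), ?_⟩
  funext i j
  show A i j = (if g i j = 0 then 0 else 1) + two (y (A i j))
  rw [← h]
  exact hy _

/-- The vectors congruent to a multiple of the first basis vector. -/
def inP (v : V4) : Prop := red (v 1) = 0 ∧ red (v 2) = 0

instance (v : V4) : Decidable (inP v) := by unfold inP; infer_instance

/-- The two vectors `0`, `2e₀`. -/
def inF (v : V4) : Prop := (v 0 = 0 ∨ v 0 = 2) ∧ v 1 = 0 ∧ v 2 = 0

instance (v : V4) : Decidable (inF v) := by unfold inF; infer_instance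

/-- The third basis vector. -/
def f2 : V4 := ![0, 0, 1]

set_option maxHeartbeats 1000000 in
theorem fix_S : ∀ Y : M3, (lift4 gS.1 Y).det = 1 →
    lift4 gS.1 Y * lift4 gS.1 Y * (lift4 gS.1 Y * lift4 gS.1 Y) = 1 → ∀ v : V4, lift4 gS.1 Y *ᵥ v = v → inP v →
    ∃ k : ZMod 4, inF (v + k • (f2 + lift4 gS.1 Y *ᵥ (lift4 gS.1 Y *ᵥ f2))) := by
  decide +kernel

theorem fix_S_mod : ∀ v : V4, (∀ i, red ((lift4 gS.1 0 *ᵥ v) i) = red (v i)) → inP v := by
  decide +kernel

set_option maxHeartbeats 1000000 in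
theorem act_T : ∀ Y : M3, lift4 gT.1 Y * lift4 gT.1 Y = 1 → ∀ v : V4, inP v →
    inF (lift4 gT.1 Y *ᵥ v - v) := by
  decide +kernel

theorem red_mulVec : ∀ (a b c x y z : ZMod 4),
    red (a * x + b * y + c * z) = red a * red x + red b * red y + red c * red z := by decide +kernel

theorem red_mulVec' (A : Mat4) (v : V4) :
    (fun i => red ((A *ᵥ v) i)) = (fun i j => red (A i j) : M3) *ᵥ fun i => red (v i) := by
  funext i
  simp only [Matrix.mulVec, dotProduct, Fin.sum_univ_three]
  exact red_mulVec _ _ _ _ _ _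

theorem red_S (i j : Fin 3) : red (lift4 gS.1 0 i j) = gS.1 i j := by
  have key : ∀ g y : ZMod 2, red ((if g = 0 then 0 else 1) + two y) = g := by decide
  exact key _ _

theorem red_add : ∀ a b : ZMod 4, red (a + b) = red a + red b := by decide

theorem red_two : ∀ a : ZMod 4, red (a + a) = 0 := by decide

theorem det_neg : ((-1 : Mat4)).det ≠ 1 := by decide +kernel

variable {X : Type*} [Group X] [Finite X]

/-- Conjugation on a homocyclic subgroup, in coordinates. -/
structure Coord (π : X →* L3) (e : V4 → X) (A : X → Mat4) : Prop where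
  add : ∀ v w, e (v + w) = e v * e w
  inj : Function.Injective e
  act : ∀ x v, x * e v * x⁻¹ = e (A x *ᵥ v)
  red : ∀ x, ∀ i j, RankFourL32.red (A x i j) = (π x).1 i j

variable {π : X →* L3} {e : V4 → X} {A : X → Mat4}

theorem Coord.zero (C : Coord π e A) : e 0 = 1 := by
  have h := C.add 0 0
  rw [add_zero] at h
  exact left_eq_mul.1 h

theorem Coord.eq (C : Coord π e A) {x : X} {B : Mat4} (h : ∀ v, x * e v * x⁻¹ = e (B *ᵥ v)) :
    A x = B :=
  Matrix.ext_of_mulVec_single fun i => C.inj ((C.act x _).symm.trans (h _))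

theorem Coord.mul (C : Coord π e A) (x y : X) : A (x * y) = A x * A y := C.eq fun v => by
  rw [← Matrix.mulVec_mulVec, ← C.act, ← C.act]; group

theorem Coord.one (C : Coord π e A) : A 1 = 1 := C.eq fun v => by rw [one_mulVec]; group

theorem Coord.det_eq_one (C : Coord π e A) (hperf : commutator X = ⊤) (x : X) : (A x).det = 1 := by
  let φ : X →* Mat4 := { toFun := A, map_one' := C.one, map_mul' := C.mul }
  let δ : X →* (ZMod 4)ˣ := ((Matrix.detMonoidHom).comp φ).toHomUnits
  have h : commutator X ≤ δ.ker := Abelianization.commutator_subset_ker δ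
  exact congrArg Units.val (MonoidHom.mem_ker.1 (h (hperf ▸ Subgroup.mem_top x)))

/-- No such extension has sectional two-rank four. -/
theorem cube_contra (h4 : Cfsg.SectionalPRankLE 2 4 X) (hπ : Function.Surjective π)
    (hperf : commutator X = ⊤) (C : Coord π e A) (hrange : ∀ q, q ∈ π.ker ↔ ∃ v, q = e v) : False := by
  have hcomm : ∀ v w, e v * e w = e w * e v := fun v w => by rw [← C.add, ← C.add, add_comm]
  have heQ : ∀ v, e v ∈ π.ker := fun v => (hrange _).2 ⟨v, rfl⟩
  have hAQ : ∀ q ∈ π.ker, A q = 1 := fun q hq => C.eq fun v => by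
    obtain ⟨w, rfl⟩ := (hrange q).1 hq
    rw [one_mulVec, hcomm, mul_inv_cancel_right]
  -- an element above `gT` with square in the small subgroup
  obtain ⟨y, hy⟩ := hπ gS
  have hyy : y * y * (y * y) ∈ π.ker := by
    rw [MonoidHom.mem_ker, map_mul, map_mul, hy, gS_sq, gT_sq]
  obtain ⟨v, hv⟩ := (hrange _).1 hyy
  obtain ⟨Y, hY⟩ := exists_lift4 gS.1 (A y) (fun i j => by rw [C.red, hy])
  have hfix : A y *ᵥ v = v := C.inj (by rw [← C.act, ← hv]; group)
  have hPv : inP v := fix_S_mod v fun i => by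
    have hS0 : (fun i j => RankFourL32.red (lift4 gS.1 0 i j) : M3) = gS.1 :=
      funext fun i => funext fun j => red_S i j
    have hAy : (fun i j => RankFourL32.red (A y i j) : M3) = gS.1 := by
      funext i j; rw [C.red, hy]
    rw [congrFun (red_mulVec' (lift4 gS.1 0) v) i, hS0, ← hAy, ← congrFun (red_mulVec' (A y) v) i,
      hfix]
  obtain ⟨k, hk⟩ := fix_S Y (hY ▸ C.det_eq_one hperf y)
    (by rw [← hY, ← C.mul, ← C.mul]; exact hAQ _ hyy) v (hY ▸ hfix) hPv
  set x := e (k • f2) * (y * y) with hx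
  have hπx : π x = gT := by
    rw [hx, map_mul, MonoidHom.mem_ker.1 (heQ _), one_mul, map_mul, hy, gS_sq]
  -- the subgroups
  let eh : Multiplicative V4 →* X :=
    { toFun := fun w => e w.toAdd
      map_one' := C.zero
      map_mul' := fun a b => C.add _ _ }
  have heh : Function.Injective eh := C.inj.comp Multiplicative.toAdd.injective
  let Pa : Subgroup (Multiplicative V4) :=
    { carrier := {w | inP w.toAdd}
      one_mem' := by decide
      mul_mem' := fun {a b} ha hb => by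
        simp only [Set.mem_setOf_eq, inP, toAdd_mul, Pi.add_apply, red_add] at *
        rw [ha.1, ha.2, hb.1, hb.2]; exact ⟨rfl, rfl⟩
      inv_mem' := fun {a} ha => by
        have key : ∀ t : ZMod 4, RankFourL32.red (-t) = RankFourL32.red t := by decide
        simp only [Set.mem_setOf_eq, inP, toAdd_inv, Pi.neg_apply, key] at *
        exact ha }
  let Fa : Subgroup (Multiplicative V4) :=
    { carrier := {w | inF w.toAdd}
      one_mem' := by decide
      mul_mem' := fun {a b} ha hb => by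
        simp only [Set.mem_setOf_eq, inF, toAdd_mul, Pi.add_apply] at *
        rw [ha.2.1, ha.2.2, hb.2.1, hb.2.2]
        rcases ha.1 with h | h <;> rcases hb.1 with h' | h' <;> rw [h, h'] <;> decide
      inv_mem' := fun {a} ha => by
        simp only [Set.mem_setOf_eq, inF, toAdd_inv, Pi.neg_apply] at *
        rw [ha.2.1, ha.2.2]
        rcases ha.1 with h | h <;> rw [h] <;> decide }
  set P := Pa.map eh with hP
  set F := Fa.map eh with hF
  have hmemP : ∀ w, e w ∈ P ↔ inP w := fun w => ⟨by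
    rintro ⟨u, hu, he⟩
    obtain rfl : u.toAdd = w := C.inj he
    exact hu, fun h => ⟨.ofAdd w, h, rfl⟩⟩
  have hmemF : ∀ w, e w ∈ F ↔ inF w := fun w => ⟨by
    rintro ⟨u, hu, he⟩
    obtain rfl : u.toAdd = w := C.inj he
    exact hu, fun h => ⟨.ofAdd w, h, rfl⟩⟩
  have hFP : F ≤ P := Subgroup.map_mono fun w hw => by
    obtain ⟨-, h1, h2⟩ := (hw : inF w.toAdd)
    show inP w.toAdd
    rw [inP, h1, h2]; decide
  have hPQ : P ≤ π.ker := by rintro _ ⟨u, -, rfl⟩; exact heQ _
  have hcard : Nat.card P = 8 * Nat.card F := by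
    rw [← Nat.card_congr (Pa.equivMapOfInjective eh heh).toEquiv,
      ← Nat.card_congr (Fa.equivMapOfInjective eh heh).toEquiv]
    have h1 : Nat.card Pa = Fintype.card {w : V4 // inP w} := by
      rw [← Nat.card_eq_fintype_card]
      exact Nat.card_congr (Equiv.subtypeEquiv Multiplicative.toAdd fun w => Iff.rfl)
    have h2 : Nat.card Fa = Fintype.card {w : V4 // inF w} := by
      rw [← Nat.card_eq_fintype_card]
      exact Nat.card_congr (Equiv.subtypeEquiv Multiplicative.toAdd fun w => Iff.rfl)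
    rw [h1, h2]; decide +kernel
  have hx2F : x * x ∈ F := by
    have e1 : x * x = e (k • f2) * (y * y * e (k • f2) * (y * y)⁻¹) * (y * y * (y * y)) := by
      rw [hx]
      simp only [mul_assoc, inv_mul_cancel_left, _root_.mul_inv_rev]
    rw [e1, C.act, hv, ← C.add, ← C.add, hmemF, C.mul, hY, ← mulVec_mulVec]
    have e2 : k • f2 + lift4 gS.1 Y *ᵥ (lift4 gS.1 Y *ᵥ (k • f2)) + v =
        v + k • (f2 + lift4 gS.1 Y *ᵥ (lift4 gS.1 Y *ᵥ f2)) := by
      rw [mulVec_smul, mulVec_smul, smul_add]; abel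
    rw [e2]; exact hk
  have hxA : A x * A x = 1 := by rw [← C.mul]; exact hAQ _ (hPQ (hFP hx2F))
  obtain ⟨Z, hZ⟩ := exists_lift4 gT.1 (A x) (fun i j => by rw [C.red, hπx])
  have hxP : ∀ p ∈ P, x * p * x⁻¹ * p⁻¹ ∈ F := by
    rintro _ ⟨u, hu, rfl⟩
    show x * e u.toAdd * x⁻¹ * (e u.toAdd)⁻¹ ∈ F
    have hinv : (e u.toAdd)⁻¹ = e (-u.toAdd) :=
      inv_eq_of_mul_eq_one_right (by rw [← C.add, add_neg_cancel, C.zero])
    rw [C.act, hinv, ← C.add, hmemF, ← sub_eq_add_neg, hZ]
    exact act_T Z (hZ ▸ hxA) _ hu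
  -- conjugates
  obtain ⟨h, hh⟩ := hπ gH
  have hreduce : ∀ (g : X) (w : V4),
      (fun i => RankFourL32.red ((A g *ᵥ w) i)) = (π g).1 *ᵥ fun i => RankFourL32.red (w i) :=
    fun g w => by
      rw [red_mulVec']
      congr 1
      funext i j; exact C.red g i j
  have hinP : ∀ w : V4, inP w ↔ (fun i => RankFourL32.red (w i)) = 0 ∨
      (fun i => RankFourL32.red (w i)) = e0 := by decide +kernel
  have hhP : ∀ p ∈ P, h * p * h⁻¹ ∈ P := by
    rintro _ ⟨u, hu, rfl⟩
    show h * e u.toAdd * h⁻¹ ∈ P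
    rw [C.act, hmemP, hinP, hreduce, hh]
    rcases (hinP _).1 hu with h0 | h0 <;> rw [h0]
    · exact Or.inl (mulVec_zero _)
    · exact Or.inr gH_e0
  have hhF : ∀ p ∈ F, h * p * h⁻¹ ∈ F := by
    rintro _ ⟨u, hu, rfl⟩
    obtain ⟨h0, h1, h2⟩ := (hu : inF u.toAdd)
    show h * e u.toAdd * h⁻¹ ∈ F
    have hu' : ∃ w : V4, inP w ∧ u.toAdd = w + w := by
      rcases h0 with h0 | h0
      · exact ⟨0, by decide, by funext i; fin_cases i <;> simp [h0, h1, h2]⟩
      · exact ⟨![1, 0, 0], by decide, by funext i; fin_cases i <;> simp [h0, h1, h2] <;> decide⟩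
    obtain ⟨w, hw, he⟩ := hu'
    have key : ∀ z : V4, inP z → inF (z + z) := by decide +kernel
    rw [he, C.act, hmemF, mulVec_add]
    refine key _ ((hinP _).2 ?_)
    rw [hreduce, hh]
    rcases (hinP _).1 hw with h0 | h0 <;> rw [h0]
    · exact Or.inl (mulVec_zero _)
    · exact Or.inr gH_e0
  have hback : ∀ (S : Subgroup X), (∀ p ∈ S, h * p * h⁻¹ ∈ S) → ∀ p ∈ S, h⁻¹ * p * h ∈ S := by
    intro S hS p hp
    have hmap : S.map (MulAut.conj h).toMonoidHom ≤ S := by
      rintro _ ⟨s, hs, rfl⟩; exact hS s hs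
    have heq : S.map (MulAut.conj h).toMonoidHom = S := Subgroup.eq_of_le_of_card_ge hmap
      (Nat.card_congr (S.equivMapOfInjective _ (MulAut.conj h).injective).toEquiv).le
    obtain ⟨s, hs, hsp⟩ := (heq.symm ▸ hp : p ∈ S.map (MulAut.conj h).toMonoidHom)
    rw [← hsp]
    simpa [mul_assoc] using hs
  set x₂ := h * x * h⁻¹ with hx₂
  set x₃ := h * x₂ * h⁻¹ with hx₃
  have hπ2 : π x₂ = gT2 := by rw [hx₂, map_mul, map_mul, map_inv, hh, hπx, gT2]
  have hπ3 : π x₃ = gT3 := by rw [hx₃, map_mul, map_mul, map_inv, hh, hπ2, gT3]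
  have hx2P : ∀ p ∈ P, x₂ * p * x₂⁻¹ * p⁻¹ ∈ F := fun p hp => by
    rw [show x₂ * p * x₂⁻¹ * p⁻¹ = h * (x * (h⁻¹ * p * h) * x⁻¹ * (h⁻¹ * p * h)⁻¹) * h⁻¹ by
      rw [hx₂]; group]
    exact hhF _ (hxP _ (hback P hhP p hp))
  have hx22 : x₂ * x₂ ∈ F := by
    rw [show x₂ * x₂ = h * (x * x) * h⁻¹ by rw [hx₂]; group]; exact hhF _ hx2F
  have hx32 : x₃ * x₃ ∈ F := by
    rw [show x₃ * x₃ = h * (x₂ * x₂) * h⁻¹ by rw [hx₃]; group]; exact hhF _ hx22
  have hFc : ∀ f ∈ F, x * f = f * x ∧ x₂ * f = f * x₂ ∧ ∀ p ∈ P, p * f = f * p := by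
    have hxf : ∀ f ∈ F, x * f = f * x := by
      rintro _ ⟨u, hu, rfl⟩
      rw [← mul_inv_eq_iff_eq_mul]
      show x * e u.toAdd * x⁻¹ = e u.toAdd
      rw [C.act, hZ]
      have key : ∀ (Y : M3) (w : V4), inF w → lift4 gT.1 Y *ᵥ w = w := by decide +kernel
      rw [key Z _ hu]
    intro f hf
    refine ⟨hxf f hf, ?_, fun p hp => ?_⟩
    · have h' := hxf _ (hback F hhF f hf)
      calc x₂ * f = h * (x * (h⁻¹ * f * h)) * h⁻¹ := by rw [hx₂]; group
        _ = h * (h⁻¹ * f * h * x) * h⁻¹ := by rw [h']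
        _ = f * x₂ := by rw [hx₂]; group
    · obtain ⟨u, -, rfl⟩ := hf; obtain ⟨w, -, rfl⟩ := hp; exact hcomm _ _
  have hP2 : ∀ p ∈ P, p * p ∈ F := by
    rintro _ ⟨u, hu, rfl⟩
    show e u.toAdd * e u.toAdd ∈ F
    rw [← C.add, hmemF]
    have key : ∀ z : V4, inP z → inF (z + z) := by decide +kernel
    exact key _ hu
  -- the product of the three
  have hprod : x * x₂ * x₃ ∈ P := by
    have hpQ : x * x₂ * x₃ ∈ π.ker := by
      rw [MonoidHom.mem_ker, map_mul, map_mul, hπx, hπ2, hπ3, gT_prod]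
    obtain ⟨w, hw⟩ := (hrange _).1 hpQ
    have hq : h * h * h ∈ π.ker := by
      rw [MonoidHom.mem_ker, map_mul, map_mul, hh, mul_assoc, gH_cube]
    obtain ⟨c, hc⟩ := (hrange _).1 hq
    have hconj : h * e w * h⁻¹ = x⁻¹ * e w * e c * x * (e c)⁻¹ := by
      rw [← hw, ← hc, hx₃, hx₂]; group
    have hk : (fun i => RankFourL32.red ((A h *ᵥ w) i)) =
        (fun i => RankFourL32.red ((A x⁻¹ *ᵥ (w + c) + -c) i)) := by
      have : A h *ᵥ w = A x⁻¹ *ᵥ (w + c) + -c := C.inj (by
        rw [← C.act, hconj, C.add, ← C.act, C.add,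
          show e (-c) = (e c)⁻¹ from (inv_eq_of_mul_eq_one_right
            (by rw [← C.add, add_neg_cancel, C.zero])).symm]
        group)
      rw [this]
    rw [hreduce, hh] at hk
    have e2 : (fun i => RankFourL32.red ((A x⁻¹ *ᵥ (w + c) + -c) i)) =
        gT.1 *ᵥ ((fun i => RankFourL32.red (w i)) + fun i => RankFourL32.red (c i)) +
          fun i => RankFourL32.red (c i) := by
      funext i
      have key : ∀ t : ZMod 4, RankFourL32.red (-t) = RankFourL32.red t := by decide
      simp only [Pi.add_apply, red_add, Pi.neg_apply, key]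
      congr 1
      have := congrFun (hreduce x⁻¹ (w + c)) i
      rw [this, map_inv, hπx, inv_eq_of_mul_eq_one_right gT_sq]
      congr 2
      funext j; exact red_add _ _
    rw [e2, mulVec_add] at hk
    rw [hw, hmemP, hinP]
    have key : ∀ p q : V3, gH.1 *ᵥ p = gT.1 *ᵥ p + gT.1 *ᵥ q + q → p = 0 ∨ p = e0 := by decide +kernel
    exact key _ _ hk
  refine section_contra h4 π P F hFP hcard hPQ x x₂ x₃ ?_ ?_ ?_ ?_ hFc hP2 hx2F hx22 hx32 hxP hx2P hprod
  · rw [hπx]; exact gT_ne
  · rw [hπ2]; intro h; have h' := congrArg Units.val h; revert h'; decide +kernel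
  · rw [hπx, hπ2]; intro h; have h' := congrArg Units.val h; revert h'; decide +kernel
  · rw [map_mul, hπx, hπ2]; intro h; have h' := congrArg Units.val h; revert h'; decide +kernel

end Cfsg.Agent.RankFourL32
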