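import Cfsg.Agent.Lib.GLFourTwo.Subgroups
import Mathlib.Data.Matrix.Mul
import Mathlib.Data.ZMod.Basic
import Mathlib.Tactic.NormNum
import Mathlib.Tactic.Abel

/-!
The general linear group of degree three over the field with two elements: a few elements and
their action.
-/

set_option autoImplicit false
set_option linter.style.haveILetI false

namespace Cfsg.Agent.RankFourL32

open Matrix

abbrev V3 := Fin 3 → ZMod 2
abbrev M3 := Matrix (Fin 3) (Fin 3) (ZMod 2)
abbrev L3 := GL (Fin 3) (ZMod 2)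

/-- An element given by mutually inverse matrices. -/
def mkU (A B : M3) (h1 : A * B = 1) (h2 : B * A = 1) : L3 := ⟨A, B, h1, h2⟩

/-- A transvection. -/
def gT : L3 :=
  mkU !![1, 0, 1; 0, 1, 0; 0, 0, 1] !![1, 0, 1; 0, 1, 0; 0, 0, 1] (by decide +kernel) (by decide +kernel)

/-- The cyclic permutation of the basis. -/
def gP : L3 :=
  mkU !![0, 0, 1; 1, 0, 0; 0, 1, 0] !![0, 1, 0; 0, 0, 1; 1, 0, 0] (by decide +kernel) (by decide +kernel)

/-- An element of order four with square `gT`. -/
def gS : L3 :=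
  mkU !![1, 1, 0; 0, 1, 1; 0, 0, 1] !![1, 1, 1; 0, 1, 1; 0, 0, 1] (by decide +kernel) (by decide +kernel)

/-- An element of order three fixing the first basis vector. -/
def gH : L3 :=
  mkU !![1, 0, 0; 0, 0, 1; 0, 1, 1] !![1, 0, 0; 0, 1, 1; 0, 1, 0] (by decide +kernel) (by decide +kernel)

/-- The second transvection. -/
def gT2 : L3 := gH * gT * gH⁻¹

/-- The third transvection. -/
def gT3 : L3 := gH * gT2 * gH⁻¹

/-- Two transvections generating a Sylow two-subgroup. -/
def gA : L3 :=
  mkU !![1, 1, 0; 0, 1, 0; 0, 0, 1] !![1, 1, 0; 0, 1, 0; 0, 0, 1] (by decide +kernel) (by decide +kernel)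

@[inherit_doc gA]
def gD : L3 :=
  mkU !![1, 0, 0; 0, 1, 1; 0, 0, 1] !![1, 0, 0; 0, 1, 1; 0, 0, 1] (by decide +kernel) (by decide +kernel)

theorem gT_sq : gT * gT = 1 := Units.ext (by decide +kernel)
theorem gT_ne : gT ≠ 1 := fun h => by have h' := congrArg Units.val h; revert h'; decide +kernel
theorem gP_cube : gP * (gP * gP) = 1 := Units.ext (by decide +kernel)
theorem gS_sq : gS * gS = gT := Units.ext (by decide +kernel)
theorem gH_cube : gH * (gH * gH) = 1 := Units.ext (by decide +kernel)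
theorem gT_prod : gT * gT2 * gT3 = 1 := Units.ext (by decide +kernel)
theorem gH_gT3 : gH * gT3 * gH⁻¹ = gT := Units.ext (by decide +kernel)
theorem gA_sq : gA * gA = 1 := Units.ext (by decide +kernel)
theorem gD_sq : gD * gD = 1 := Units.ext (by decide +kernel)
theorem gA_gD : (gA * gD) * (gA * gD) = gT := Units.ext (by decide +kernel)
theorem gA_gT : gA * gT = gT * gA := Units.ext (by decide +kernel)
theorem gD_gT : gD * gT = gT * gD := Units.ext (by decide +kernel)
theorem gT_gT2 : gT * gT2 = gT3 := Units.ext (by decide +kernel)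
theorem gT2_gT : gT2 * gT = gT3 := Units.ext (by decide +kernel)

theorem card_L3 : Nat.card L3 = 168 := A8Sub.gl32.2

theorem simple : IsSimpleGroup L3 := A8Sub.gl32.1

theorem not_comm : gA * gD ≠ gD * gA := fun h => by
  have h' := congrArg Units.val h; revert h'; decide +kernel

theorem gen : Subgroup.closure ({gT, gP} : Set L3) = ⊤ := by
  set H := Subgroup.closure ({gT, gP} : Set L3) with hH
  have hT : gT ∈ H := Subgroup.subset_closure (Or.inl rfl)
  have hP : gP ∈ H := Subgroup.subset_closure (Or.inr rfl)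
  haveI := simple
  haveI : Fact (Nat.Prime 2) := ⟨Nat.prime_two⟩
  haveI : Fact (Nat.Prime 3) := ⟨Nat.prime_three⟩
  haveI : Fact (Nat.Prime 7) := ⟨by norm_num⟩
  have o2 : orderOf gT = 2 := orderOf_eq_prime (by rw [pow_two, gT_sq]) gT_ne
  have o3 : orderOf gP = 3 := orderOf_eq_prime
    (by rw [pow_succ', pow_two, gP_cube]) fun h => by
      have h' := congrArg Units.val h; revert h'; decide +kernel
  have o7 : orderOf (gT * gP) = 7 := orderOf_eq_prime (Units.ext (by decide +kernel)) fun h => by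
    have h' := congrArg Units.val h; revert h'; decide +kernel
  have hd : 42 ∣ Nat.card H := by
    have h2 := Subgroup.orderOf_dvd_natCard _ hT
    rw [o2] at h2
    have h3 := Subgroup.orderOf_dvd_natCard _ hP
    rw [o3] at h3
    have h7 := Subgroup.orderOf_dvd_natCard _ (mul_mem hT hP)
    rw [o7] at h7
    omega
  have hi := Subgroup.card_mul_index H
  rw [card_L3] at hi
  have hidx : H.index ≤ 4 := by
    obtain ⟨k, hk⟩ := hd
    rw [hk] at hi
    rcases Nat.eq_zero_or_pos k with rfl | hk0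
    · omega
    · nlinarith
  rcases (inferInstance : H.normalCore.Normal).eq_bot_or_eq_top with hc | hc
  · exfalso
    have hinj : Function.Injective (MulAction.toPermHom L3 (L3 ⧸ H)) := by
      rw [← MonoidHom.ker_eq_bot_iff, ← Subgroup.normalCore_eq_ker, hc]
    have h24 := Nat.card_le_card_of_injective _ hinj
    rw [Nat.card_perm, ← Subgroup.index_eq_card, card_L3] at h24
    have := Nat.factorial_le hidx
    rw [show Nat.factorial 4 = 24 from rfl] at this
    omega
  · exact top_le_iff.1 (hc ▸ H.normalCore_le)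

theorem transitive : ∀ v w : V3, v ≠ 0 → w ≠ 0 → v = w ∨ ∃ a b : V3, b ⬝ᵥ a = 0 ∧
    v + (b ⬝ᵥ v) • a = w := by decide +kernel

/-- The transvection `v ↦ v + (b ⬝ v) a`. -/
def tv (a b : V3) (h : b ⬝ᵥ a = 0) : L3 :=
  mkU (1 + vecMulVec a b) (1 + vecMulVec a b)
    (by revert h; revert a b; decide +kernel) (by revert h; revert a b; decide +kernel)

theorem tv_mulVec (a b : V3) (h : b ⬝ᵥ a = 0) (v : V3) :
    (tv a b h).1 *ᵥ v = v + (b ⬝ᵥ v) • a := by
  show (1 + vecMulVec a b) *ᵥ v = _
  rw [add_mulVec, one_mulVec, vecMulVec_mulVec]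
  congr 1
  funext i
  simp [mul_comm]

/-- The cross product. -/
def cross (a b : V3) : V3 :=
  ![a 1 * b 2 + a 2 * b 1, a 2 * b 0 + a 0 * b 2, a 0 * b 1 + a 1 * b 0]

theorem cross_tv : ∀ x y : V3, y ⬝ᵥ x = 0 → ∀ a b : V3,
    cross (a + (y ⬝ᵥ a) • x) (b + (y ⬝ᵥ b) • x) = cross a b + (x ⬝ᵥ cross a b) • y := by
  decide +kernel

theorem cross_surj : ∀ n : V3, ∃ a b : V3, cross a b = n := by decide +kernel

/-- No non-zero vector of the dual space is fixed by the stabilizer of a non-zero vector. -/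
theorem stab_dual : ∀ v f : V3, v ≠ 0 → f ≠ 0 → ∃ x y : V3, y ⬝ᵥ x = 0 ∧ v + (y ⬝ᵥ v) • x = v ∧
    f + (x ⬝ᵥ f) • y ≠ f := by decide +kernel

/-- The stabilizer of a non-zero vector moves every coset of it outside zero. -/
theorem stab_pair : ∀ v a : V3, v ≠ 0 → a ≠ 0 → a ≠ v → ∃ x y : V3, y ⬝ᵥ x = 0 ∧
    v + (y ⬝ᵥ v) • x = v ∧ a + (y ⬝ᵥ a) • x ≠ a ∧ a + (y ⬝ᵥ a) • x ≠ a + v := by decide +kernel

set_option synthInstance.maxSize 2000 in
set_option synthInstance.maxHeartbeats 200000 in
/-- The stabilizer of a vector is transitive off its span. -/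
theorem stab_move : ∀ a b c : V3, a ≠ 0 → b ≠ 0 → b ≠ a → c ≠ 0 → c ≠ a → b = c ∨ ∃ x y : V3,
    y ⬝ᵥ x = 0 ∧ a + (y ⬝ᵥ a) • x = a ∧ b + (y ⬝ᵥ b) • x = c := by decide +kernel

/-- The first basis vector. -/
def e0 : V3 := ![1, 0, 0]

theorem gS_fix : ∀ v : V3, gS.1 *ᵥ v = v → v = 0 ∨ v = e0 := by decide +kernel
theorem gT_fix : ∀ v : V3, gT.1 *ᵥ v = v → v 2 = 0 := by decide +kernel
theorem gT_im : ∀ v : V3, gT.1 *ᵥ v + v = 0 ∨ gT.1 *ᵥ v + v = e0 := by decide +kernel
theorem gT2_im : ∀ v : V3, gT2.1 *ᵥ v + v = 0 ∨ gT2.1 *ᵥ v + v = e0 := by decide +kernel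
theorem gT3_im : ∀ v : V3, gT3.1 *ᵥ v + v = 0 ∨ gT3.1 *ᵥ v + v = e0 := by decide +kernel
theorem gH_e0 : gH.1 *ᵥ e0 = e0 := by decide +kernel
theorem gH_fpf : ∀ v : V3, gH.1 *ᵥ v + v = 0 ∨ gH.1 *ᵥ v + v = e0 → v = 0 ∨ v = e0 := by
  decide +kernel
theorem gT_gT2_fix : ∀ v : V3, gT.1 *ᵥ v = v → gT2.1 *ᵥ v = v → v = 0 ∨ v = e0 := by decide +kernel

theorem zero_one : ∀ a : ZMod 2, a = 0 ∨ a = 1 := by decide

/-- A cocycle vanishing at `gT` modulo the centre of the transvection is a coboundary. -/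
theorem cocycle_split (c : L3 → V3) (hc : ∀ g h, c (g * h) = c g + g.1 *ᵥ c h)
    (hT : c gT = 0 ∨ c gT = e0) : ∃ w : V3, ∀ g, c g = g.1 *ᵥ w + w := by
  have hc1 : c 1 = 0 := by
    have h := hc 1 1
    rw [mul_one, Units.val_one, one_mulVec] at h
    exact left_eq_add.1 h
  have hP3 : c gP + gP.1 *ᵥ (c gP + gP.1 *ᵥ c gP) = 0 := by
    rw [← hc gP gP, ← hc gP (gP * gP), gP_cube, hc1]
  obtain ⟨w, hwP, hwT⟩ : ∃ w : V3, c gP = gP.1 *ᵥ w + w ∧ c gT = gT.1 *ᵥ w + w := by
    have key : ∀ p t : V3, p + gP.1 *ᵥ (p + gP.1 *ᵥ p) = 0 → (t = 0 ∨ t = e0) →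
        ∃ w : V3, p = gP.1 *ᵥ w + w ∧ t = gT.1 *ᵥ w + w := by decide +kernel
    exact key _ _ hP3 hT
  refine ⟨w, fun g => ?_⟩
  let H : Subgroup L3 :=
    { carrier := {g | c g = g.1 *ᵥ w + w}
      one_mem' := by
        show c 1 = _
        rw [hc1, Units.val_one, one_mulVec]
        exact (funext fun i => (CharTwo.add_self_eq_zero _).symm)
      mul_mem' := fun {a b} ha hb => by
        rw [Set.mem_setOf_eq] at *
        rw [hc, ha, hb, mulVec_add, Units.val_mul, ← mulVec_mulVec]
        have : ∀ x y z : V3, x + y + (z + x) = z + y := fun x y z => by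
          funext i; simp only [Pi.add_apply]; revert x y z; intro x y z
          generalize x i = a; generalize y i = b; generalize z i = d
          revert a b d; decide
        exact this _ _ _
      inv_mem' := fun {a} ha => by
        rw [Set.mem_setOf_eq] at *
        have h := hc a⁻¹ a
        rw [inv_mul_cancel, hc1, ha, mulVec_add, mulVec_mulVec, ← Units.val_mul, inv_mul_cancel,
          Units.val_one, one_mulVec] at h
        have key : ∀ x y z : V3, (0 : V3) = x + (y + z) → x = z + y := fun x y z h => by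
          funext i
          have h' := congrFun h i
          simp only [Pi.add_apply, Pi.zero_apply] at h' ⊢
          revert h'
          generalize x i = a; generalize y i = b; generalize z i = d
          revert a b d; decide
        exact key _ _ _ h }
  exact (show Subgroup.closure ({gT, gP} : Set L3) ≤ H from (Subgroup.closure_le H).2 (by
    rintro g (rfl | rfl); exacts [hwT, hwP])) (gen ▸ Subgroup.mem_top g)

/-- The same for the dual space. -/
theorem cocycle_split_dual (c : L3 → V3) (hc : ∀ g h, c (g * h) = c g ᵥ* h.1 + c h)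
    (hT : c gT 1 = 0 ∧ c gT 0 = 0) : ∃ w : V3, ∀ g, c g = w ᵥ* g.1 + w := by
  have hc1 : c 1 = 0 := by
    have h := hc 1 1
    rw [mul_one, Units.val_one, vecMul_one] at h
    exact left_eq_add.1 h
  have hP3 : c gP ᵥ* (gP * gP).1 + (c gP ᵥ* gP.1 + c gP) = 0 := by
    rw [← hc gP gP, ← hc gP (gP * gP), gP_cube, hc1]
  obtain ⟨w, hwP, hwT⟩ : ∃ w : V3, c gP = w ᵥ* gP.1 + w ∧ c gT = w ᵥ* gT.1 + w := by
    have key : ∀ p t : V3, p ᵥ* (gP * gP).1 + (p ᵥ* gP.1 + p) = 0 → (t 1 = 0 ∧ t 0 = 0) →
        ∃ w : V3, p = w ᵥ* gP.1 + w ∧ t = w ᵥ* gT.1 + w := by decide +kernel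
    exact key _ _ hP3 hT
  refine ⟨w, fun g => ?_⟩
  let H : Subgroup L3 :=
    { carrier := {g | c g = w ᵥ* g.1 + w}
      one_mem' := by
        show c 1 = _
        rw [hc1, Units.val_one, vecMul_one]
        exact (funext fun i => (CharTwo.add_self_eq_zero _).symm)
      mul_mem' := fun {a b} ha hb => by
        rw [Set.mem_setOf_eq] at *
        rw [hc, ha, hb, add_vecMul, Units.val_mul, vecMul_vecMul]
        have : ∀ x y z : V3, x + y + (y + z) = x + z := fun x y z => by
          funext i; simp only [Pi.add_apply]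
          generalize x i = a; generalize y i = b; generalize z i = d
          revert a b d; decide
        exact this _ _ _
      inv_mem' := fun {a} ha => by
        rw [Set.mem_setOf_eq] at *
        have h := hc a a⁻¹
        rw [mul_inv_cancel, hc1, ha, add_vecMul, vecMul_vecMul, ← Units.val_mul, mul_inv_cancel,
          Units.val_one, vecMul_one] at h
        have key : ∀ x y z : V3, (0 : V3) = y + z + x → x = z + y := fun x y z h => by
          funext i
          have h' := congrFun h i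
          simp only [Pi.add_apply, Pi.zero_apply] at h' ⊢
          revert h'
          generalize x i = a; generalize y i = b; generalize z i = d
          revert a b d; decide
        exact key _ _ _ h }
  exact (show Subgroup.closure ({gT, gP} : Set L3) ≤ H from (Subgroup.closure_le H).2 (by
    rintro g (rfl | rfl); exacts [hwT, hwP])) (gen ▸ Subgroup.mem_top g)

end Cfsg.Agent.RankFourL32
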