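import Cfsg.Agent.Lib.RankFourL32.Cases
import Cfsg.Agent.Lib.RankFourA5.Setting

/-!
The natural module, a trivial module and the natural module: this series does not occur.
-/

set_option autoImplicit false
set_option linter.style.haveILetI false

namespace Cfsg.Agent.RankFourL32

open Matrix

variable {X : Type*} [Group X] [Finite X] {π : X →* L3}

/-- An element `z` above the submodule, central modulo it and in the radical, with the squares and
commutators of the radical inside the submodule. -/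
structure Setup (π : X →* L3) (Z M : Subgroup X) (s : V3 → X) (z : X) : Prop where
  top : Top π π.ker Z s
  le : M ≤ Z
  mem : z ∈ Z
  not_mem : z ∉ M
  cardM : Nat.card M = 8
  cardZ : Nat.card Z = 16
  sqM : ∀ u ∈ M, u * u = 1
  cenM : ∀ u ∈ M, ∀ q ∈ π.ker, q * u = u * q
  sq : z * z = 1
  sqQ : ∀ q ∈ π.ker, q * q ∈ M
  comQ : ∀ p ∈ π.ker, ∀ r ∈ π.ker, p * r * p⁻¹ * r⁻¹ ∈ M
  conj : ∀ x, z⁻¹ * (x * z * x⁻¹) ∈ M

variable {Z M : Subgroup X} {s : V3 → X} {z : X}

theorem Setup.split (S : Setup π Z M s z) {y : X} (hy : y ∈ Z) : y ∈ M ∨ ∃ u ∈ M, y = z * u := by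
  by_cases hyM : y ∈ M
  · exact Or.inl hyM
  · exact Or.inr ⟨_, mem_of_index_two S.le (by rw [S.cardZ, S.cardM]) hy hyM S.mem S.not_mem,
      (mul_inv_cancel_left _ _).symm⟩

theorem Setup.exists_rep (S : Setup π Z M s z) {p : X} (hp : p ∈ π.ker) :
    ∃ v, ∃ y ∈ Z, p = s v * y := by
  obtain ⟨v, hv⟩ := S.top.cover p hp
  exact ⟨v, _, hv, (mul_inv_cancel_left _ _).symm⟩

theorem Setup.commute_M (S : Setup π Z M s z) {y u : X} (hy : y ∈ Z) (hu : u ∈ M) : y * u = u * y :=
  S.cenM u hu y (S.top.le hy)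

theorem Setup.sqZ (S : Setup π Z M s z) {y : X} (hy : y ∈ Z) : y * y = 1 := by
  rcases S.split hy with h | ⟨u, hu, rfl⟩
  · exact S.sqM y h
  · rw [show z * u * (z * u) = z * (u * z) * u by group, ← S.commute_M S.mem hu,
      show z * (z * u) * u = z * z * (u * u) by group, S.sq, S.sqM u hu, mul_one]

theorem Setup.commute_Z (S : Setup π Z M s z) {y : X} (hy : y ∈ Z) : z * y = y * z := by
  rcases S.split hy with h | ⟨u, hu, rfl⟩
  · exact S.commute_M S.mem h
  · rw [mul_assoc z u, ← S.commute_M S.mem hu]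

/-- The commutator with `z`. -/
theorem Setup.exists_beta (S : Setup π Z M s z) :
    ∃ β : V3 → X, (∀ v, β v ∈ M) ∧ (∀ v w, β (v + w) = β v * β w) ∧
      (∀ x v, x * β v * x⁻¹ = β ((π x).1 *ᵥ v)) ∧
      ∀ p ∈ π.ker, ∀ v, (s v)⁻¹ * p ∈ Z → z * p * z⁻¹ * p⁻¹ = β v := by
  have hzQ : z ∈ π.ker := S.top.le S.mem
  let β : V3 → X := fun v => z * s v * z⁻¹ * (s v)⁻¹
  have hβM : ∀ v, β v ∈ M := fun v => S.comQ z hzQ _ (S.top.mem v)
  have hrep : ∀ p ∈ π.ker, ∀ v, (s v)⁻¹ * p ∈ Z → z * p * z⁻¹ * p⁻¹ = β v := by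
    intro p _ v hv
    obtain ⟨y, hy, rfl⟩ : ∃ y ∈ Z, p = s v * y := ⟨_, hv, (mul_inv_cancel_left _ _).symm⟩
    have h := S.commute_Z (inv_mem (inv_mem hy))
    rw [inv_inv] at h
    calc z * (s v * y) * z⁻¹ * (s v * y)⁻¹ = z * s v * (y * z⁻¹ * y⁻¹) * (s v)⁻¹ := by group
      _ = β v := by
        rw [show y * z⁻¹ * y⁻¹ = z⁻¹ * (z * y) * z⁻¹ * y⁻¹ by group, h]
        simp only [β]; group
  refine ⟨β, hβM, fun v w => ?_, fun x v => ?_, hrep⟩
  · rw [← hrep _ (mul_mem (S.top.mem v) (S.top.mem w)) (v + w) (S.top.add v w),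
      show z * (s v * s w) * z⁻¹ * (s v * s w)⁻¹ = β v * (s v * β w * (s v)⁻¹) by simp only [β]; group,
      S.cenM _ (hβM w) _ (S.top.mem v), mul_inv_cancel_right]
  · have hxs : x * s v * x⁻¹ ∈ π.ker := Subgroup.Normal.conj_mem inferInstance _ (S.top.mem v) x
    rw [← hrep _ hxs _ (S.top.act x v)]
    set u := z⁻¹ * (x * z * x⁻¹) with hu
    have huM : u ∈ M := S.conj x
    calc x * β v * x⁻¹ = (x * z * x⁻¹) * (x * s v * x⁻¹) * (x * z * x⁻¹)⁻¹ * (x * s v * x⁻¹)⁻¹ := by
          simp only [β]; group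
      _ = z * (u * (x * s v * x⁻¹)) * u⁻¹ * z⁻¹ * (x * s v * x⁻¹)⁻¹ := by rw [hu]; group
      _ = _ := by rw [← S.cenM u huM _ hxs]; group

/-- The case in which `z` is central in the radical. -/
theorem Setup.central_case [Z.Normal] [M.Normal] (C : Cover π) (S : Setup π Z M s z)
    (hzc : ∀ p ∈ π.ker, z * p = p * z) : False := by
  have hzQ : z ∈ π.ker := S.top.le S.mem
  have hZc : ∀ y ∈ Z, ∀ q ∈ π.ker, q * y = y * q := fun y hy q hq => by
    rcases S.split hy with h | ⟨u, hu, rfl⟩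
    · exact S.cenM y h q hq
    · rw [← mul_assoc, ← hzc q hq, mul_assoc, S.cenM u hu q hq, mul_assoc]
  have hMQ : M ≤ π.ker := S.le.trans S.top.le
  obtain ⟨hcomm, hel | hinj⟩ :=
    quad C S.top S.le S.cardM hZc (fun y hy => S.sqZ hy) S.sqQ S.comQ
  · have := card_elem_le C.rank π.ker hel
    rw [S.top.card, S.cardZ] at this
    omega
  -- the squaring map
  let m : V3 → X := fun v => s v * s v
  have hsq : ∀ p ∈ π.ker, ∀ v, (s v)⁻¹ * p ∈ Z → p * p = m v := by
    intro p _ v hv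
    obtain ⟨y, hy, rfl⟩ : ∃ y ∈ Z, p = s v * y := ⟨_, hv, (mul_inv_cancel_left _ _).symm⟩
    rw [show s v * y * (s v * y) = s v * (y * s v) * y by group, ← hZc y hy _ (S.top.mem v),
      show s v * (s v * y) * y = s v * s v * (y * y) by group, S.sqZ hy, mul_one]
  have hmadd : ∀ v w, m (v + w) = m v * m w := fun v w => by
    rw [← hsq _ (mul_mem (S.top.mem v) (S.top.mem w)) _ (S.top.add v w),
      show s v * s w * (s v * s w) = s v * (s w * s v) * s w by group,
      hcomm _ (S.top.mem w) _ (S.top.mem v)]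
    simp only [m, mul_assoc]
  have hm0 : m 0 = 1 := S.sqZ S.top.zero
  have hmact : ∀ x v, x * m v * x⁻¹ = m ((π x).1 *ᵥ v) := fun x v => by
    rw [← hsq _ (Subgroup.Normal.conj_mem inferInstance _ (S.top.mem v) x) _ (S.top.act x v)]
    simp only [m]; group
  have hminj : Function.Injective m := fun v w h => by
    have h1 : m (v + w) = 1 := by rw [hmadd, h, ← hmadd, v3_add_self, hm0]
    have h2 := hinj _ (S.top.mem (v + w)) h1
    have h3 : (v + w : V3) = 0 := (S.top.sep 0 _ (mul_mem (inv_mem S.top.zero) h2)).symm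
    have key : ∀ a b : V3, a + b = 0 → a = b := by decide +kernel
    exact key v w h3
  have hmM : ∀ v, m v ∈ M := fun v => S.sqQ _ (S.top.mem v)
  have hmcov : ∀ p ∈ M, ∃ v, p = m v := fun p hp => by
    have hbij : Function.Bijective (fun v => (⟨m v, hmM v⟩ : M)) :=
      (Nat.bijective_iff_injective_and_card _).2 ⟨fun v w h => hminj (congrArg Subtype.val h), by
        rw [S.cardM, Nat.card_fun, Nat.card_zmod, Nat.card_fin]; norm_num⟩
    obtain ⟨v, hv⟩ := hbij.2 ⟨p, hp⟩
    exact ⟨v, (congrArg Subtype.val hv).symm⟩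
  -- the cocycle of `z`
  have hcov : ∀ x, ∃ u, x * z * x⁻¹ = z * m u := fun x => by
    obtain ⟨u, hu⟩ := hmcov _ (S.conj x)
    exact ⟨u, by rw [← hu, mul_inv_cancel_left]⟩
  choose u hu using hcov
  have huq : ∀ x y, π x = π y → u x = u y := fun x y hxy => hminj (by
    have hq : x⁻¹ * y ∈ π.ker := by rw [MonoidHom.mem_ker, map_mul, map_inv, hxy, inv_mul_cancel]
    have e : y * z * y⁻¹ = x * z * x⁻¹ := by
      calc y * z * y⁻¹ = x * (x⁻¹ * y * z) * y⁻¹ := by group
        _ = x * z * x⁻¹ := by rw [hcomm _ hq z hzQ]; group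
    rw [hu, hu] at e
    exact (mul_left_cancel e).symm)
  choose lift hlift using C.surj
  let c : L3 → V3 := fun g => u (lift g)
  have hc : ∀ x, x * z * x⁻¹ = z * m (c (π x)) := fun x => by
    rw [hu]; congr 2; exact huq _ _ (hlift _).symm
  have hcoc : ∀ g h, c (g * h) = c g + g.1 *ᵥ c h := fun g h => hminj (by
    have e1 := hc (lift g * lift h)
    rw [map_mul, hlift, hlift] at e1
    have e2 : lift g * lift h * z * (lift g * lift h)⁻¹ =
        z * m (c g) * (lift g * m (c h) * (lift g)⁻¹) := by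
      calc lift g * lift h * z * (lift g * lift h)⁻¹
          = lift g * (lift h * z * (lift h)⁻¹) * (lift g)⁻¹ := by group
        _ = lift g * z * (lift g)⁻¹ * (lift g * m (c h) * (lift g)⁻¹) := by
          rw [hc, hlift]; group
        _ = _ := by rw [hc, hlift]
    rw [e2, hmact, hlift, mul_assoc, ← hmadd] at e1
    exact (mul_left_cancel e1).symm)
  have htriv : ∀ g : X, g ∈ π.ker → ∀ p ∈ π.ker, g * p * g⁻¹ = p := fun g hg p hp => by
    rw [hcomm g hg p hp, mul_inv_cancel_right]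
  -- the value at `gT`
  have hcT : c gT = 0 ∨ c gT = e0 := by
    obtain ⟨y, hy⟩ := C.surj gS
    set x := y * y with hx
    have hπx : π x = gT := by rw [hx, map_mul, hy, gS_sq]
    have hxQ : x * x ∈ π.ker := by rw [MonoidHom.mem_ker, map_mul, hπx, gT_sq]
    have hzx : x * z * x⁻¹ = z * m (c gT) := by rw [hc, hπx]
    by_cases hex : ∃ p ∈ π.ker, ∃ μ ∈ M, x * p * x⁻¹ = p * (z * μ)
    · obtain ⟨p, hp, μ, hμ, he⟩ := hex
      obtain ⟨v, rfl⟩ := hmcov μ hμ
      have hxv : x * m v * x⁻¹ = m (gT.1 *ᵥ v) := by rw [hmact, hπx]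
      have e : p = p * (z * m v * z * (m (c gT) * m (gT.1 *ᵥ v))) := by
        calc p = x * x * p * (x * x)⁻¹ := (htriv _ hxQ p hp).symm
          _ = x * (x * p * x⁻¹) * x⁻¹ := by group
          _ = (x * p * x⁻¹) * (x * z * x⁻¹) * (x * m v * x⁻¹) := by conv_lhs => rw [he]
                                                                    group
          _ = _ := by rw [he, hzx, hxv]; group
      rw [left_eq_mul, show z * m v * z = z * (m v * z) by group, ← hzc _ (hMQ (hmM v)),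
        show z * (z * m v) = z * z * m v from (mul_assoc _ _ _).symm, S.sq, one_mul, ← hmadd, ← hmadd,
        ← hm0] at e
      have e' := hminj e
      have key : ∀ a b : V3, a + (b + gT.1 *ᵥ a) = 0 → b = 0 ∨ b = e0 := by decide +kernel
      exact key v _ e'
    -- the dual cocycle
    let mk := QuotientGroup.mk' M
    have hker : ∀ {a : X}, mk a = 1 ↔ a ∈ M := fun {a} => QuotientGroup.eq_one_iff a
    let b : Fin 3 → X := fun i => s (Pi.single i 1)
    let F : V3 → X := fun v => b 0 ^ (v 0).val * b 1 ^ (v 1).val * b 2 ^ (v 2).val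
    have hbQ : ∀ i, b i ∈ π.ker := fun i => S.top.mem _
    have hFQ : ∀ v, F v ∈ π.ker := fun v =>
      mul_mem (mul_mem (pow_mem (hbQ _) _) (pow_mem (hbQ _) _)) (pow_mem (hbQ _) _)
    have hQcomm : ∀ p ∈ π.ker, ∀ r ∈ π.ker, Commute (mk p) (mk r) := fun p hp r hr => by
      show mk p * mk r = mk r * mk p
      rw [← map_mul, ← map_mul, hcomm p hp r hr]
    have hQsq : ∀ p ∈ π.ker, mk p * mk p = 1 := fun p hp => by
      rw [← map_mul]; exact hker.2 (S.sqQ p hp)
    have hpw : ∀ p ∈ π.ker, ∀ a b : ZMod 2, mk p ^ (a + b).val = mk p ^ a.val * mk p ^ b.val :=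
      fun p hp a b => by
        rw [← pow_add, ZMod.val_add, ← pow_eq_pow_mod _ (by rw [pow_two, hQsq p hp] : mk p ^ 2 = 1)]
    have hFadd : ∀ v w, mk (F (v + w)) = mk (F v) * mk (F w) := fun v w => by
      simp only [F, Pi.add_apply, map_mul, map_pow, hpw _ (hbQ _)]
      have h01 : Commute (mk (b 0) ^ (w 0).val) (mk (b 1) ^ (v 1).val) :=
        (hQcomm _ (hbQ 0) _ (hbQ 1)).pow_pow _ _
      have h02 : Commute (mk (b 0) ^ (w 0).val) (mk (b 2) ^ (v 2).val) :=
        (hQcomm _ (hbQ 0) _ (hbQ 2)).pow_pow _ _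
      have h12 : Commute (mk (b 1) ^ (w 1).val) (mk (b 2) ^ (v 2).val) :=
        (hQcomm _ (hbQ 1) _ (hbQ 2)).pow_pow _ _
      calc _ = mk (b 0) ^ (v 0).val * (mk (b 0) ^ (w 0).val * mk (b 1) ^ (v 1).val) *
            (mk (b 1) ^ (w 1).val * mk (b 2) ^ (v 2).val) * mk (b 2) ^ (w 2).val := by group
        _ = mk (b 0) ^ (v 0).val * mk (b 1) ^ (v 1).val *
            (mk (b 0) ^ (w 0).val * mk (b 2) ^ (v 2).val) * mk (b 1) ^ (w 1).val * mk (b 2) ^ (w 2).val := by
          rw [h01.eq, h12.eq]; group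
        _ = _ := by rw [h02.eq]; group
    have hFs : ∀ v, (s v)⁻¹ * F v ∈ Z := fun v => by
      have h := hom_ext3 (f := fun v => ((s v : X) : X ⧸ Z)) (g := fun v => ((F v : X) : X ⧸ Z))
        (fun v w => QuotientGroup.eq.2 (S.top.add v w))
        (fun v w => by
          refine QuotientGroup.eq.2 (S.le ?_)
          show (F (v + w))⁻¹ * (F v * F w) ∈ M
          rw [← hker, map_mul mk (F (v + w))⁻¹, map_inv mk (F (v + w)), map_mul mk (F v) (F w), ← hFadd,
            inv_mul_cancel])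
        (by simp [F, b, ZMod.val_one, show (![1, 0, 0] : V3) = Pi.single 0 1 by decide])
        (by simp [F, b, ZMod.val_one, show (![0, 1, 0] : V3) = Pi.single 1 1 by decide])
        (by simp [F, b, ZMod.val_one, show (![0, 0, 1] : V3) = Pi.single 2 1 by decide]) v
      exact QuotientGroup.eq.1 h
    clear_value F
    have hzne : mk z ≠ 1 := fun h => S.not_mem (hker.1 h)
    have hzM : ∀ g : X, mk g * mk z * (mk g)⁻¹ = mk z := fun g => by
      rw [← map_inv, ← map_mul, ← map_mul]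
      exact (QuotientGroup.eq.2 (S.conj g)).symm
    have hzinj : ∀ a b : ZMod 2, mk z ^ a.val = mk z ^ b.val → a = b := fun a b h => by
      rcases zero_one a with rfl | rfl <;> rcases zero_one b with rfl | rfl <;>
        simp [ZMod.val_one] at h ⊢
      · exact hzne h.symm
      · exact hzne h
    have hform : ∀ p ∈ π.ker, ∀ v, (s v)⁻¹ * p ∈ Z → ∃ ε : ZMod 2, mk p = mk (F v) * mk z ^ ε.val := by
      intro p _ v hv
      have hy : (F v)⁻¹ * p ∈ Z := by
        have := mul_mem (inv_mem (hFs v)) hv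
        rwa [_root_.mul_inv_rev, inv_inv, mul_assoc, mul_inv_cancel_left] at this
      rcases S.split hy with h | ⟨μ, hμ, h⟩
      · exact ⟨0, by rw [ZMod.val_zero, pow_zero, mul_one]; exact (QuotientGroup.eq.2 h).symm⟩
      · refine ⟨1, ?_⟩
        rw [ZMod.val_one, pow_one, show p = F v * (z * μ) by rw [← h, mul_inv_cancel_left], map_mul,
          map_mul, hker.2 hμ, mul_one]
    have hact : ∀ g : X, ∀ v, ∃ ε : ZMod 2,
        mk g * mk (F v) * (mk g)⁻¹ = mk (F ((π g).1 *ᵥ v)) * mk z ^ ε.val := fun g v => by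
      rw [← map_inv, ← map_mul, ← map_mul]
      refine hform _ (Subgroup.Normal.conj_mem inferInstance _ (hFQ v) g) _ ?_
      rw [show (s ((π g).1 *ᵥ v))⁻¹ * (g * F v * g⁻¹) =
        (s ((π g).1 *ᵥ v))⁻¹ * (g * s v * g⁻¹) * (g * ((s v)⁻¹ * F v) * g⁻¹) by group]
      exact mul_mem (S.top.act g v) (Subgroup.Normal.conj_mem inferInstance _ (hFs v) g)
    choose ε hε using hact
    let lam : L3 → V3 := fun g i => ε (lift g) (Pi.single i 1)
    have hpwz : ∀ a b : ZMod 2, mk z ^ (a + b).val = mk z ^ a.val * mk z ^ b.val := hpw z hzQ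
    have hlam : ∀ g v, mk (lift g) * mk (F v) * (mk (lift g))⁻¹ =
        mk (F (g.1 *ᵥ v)) * mk z ^ (lam g ⬝ᵥ v).val := fun g => by
      refine hom_ext3 (fun v w => ?_) (fun v w => ?_) ?_ ?_ ?_
      · rw [hFadd]; group
      · rw [mulVec_add, hFadd, dotProduct_add, hpwz]
        have hc1 : Commute (mk (F (g.1 *ᵥ w))) (mk z ^ (lam g ⬝ᵥ v).val) :=
          (hQcomm _ (hFQ _) _ hzQ).pow_right _
        calc _ = mk (F (g.1 *ᵥ v)) * (mk (F (g.1 *ᵥ w)) * mk z ^ (lam g ⬝ᵥ v).val) *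
              mk z ^ (lam g ⬝ᵥ w).val := by group
          _ = _ := by rw [hc1.eq]; group
      all_goals rw [hε, hlift]
      · rw [show (lam g ⬝ᵥ ![1, 0, 0]) = ε (lift g) ![1, 0, 0] by
          simp [lam, dotProduct, Fin.sum_univ_three,
            show (Pi.single (0 : Fin 3) (1 : ZMod 2) : V3) = ![1, 0, 0] by decide]]
      · rw [show (lam g ⬝ᵥ ![0, 1, 0]) = ε (lift g) ![0, 1, 0] by
          simp [lam, dotProduct, Fin.sum_univ_three,
            show (Pi.single (1 : Fin 3) (1 : ZMod 2) : V3) = ![0, 1, 0] by decide]]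
      · rw [show (lam g ⬝ᵥ ![0, 0, 1]) = ε (lift g) ![0, 0, 1] by
          simp [lam, dotProduct, Fin.sum_univ_three,
            show (Pi.single (2 : Fin 3) (1 : ZMod 2) : V3) = ![0, 0, 1] by decide]]
    have hlam' : ∀ (g : X) v, mk g * mk (F v) * (mk g)⁻¹ =
        mk (F ((π g).1 *ᵥ v)) * mk z ^ (lam (π g) ⬝ᵥ v).val := fun g v => by
      have hq : g⁻¹ * lift (π g) ∈ π.ker := by
        rw [MonoidHom.mem_ker, map_mul, map_inv, hlift, inv_mul_cancel]
      rw [← hlam]
      rw [show lift (π g) = g * (g⁻¹ * lift (π g)) by group, map_mul,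
        show mk g * mk (g⁻¹ * lift (π g)) * mk (F v) * (mk g * mk (g⁻¹ * lift (π g)))⁻¹ =
          mk g * (mk (g⁻¹ * lift (π g)) * mk (F v) * (mk (g⁻¹ * lift (π g)))⁻¹) * (mk g)⁻¹ by group,
        (hQcomm _ hq _ (hFQ v)).eq, mul_inv_cancel_right]
    have hlcoc : ∀ g h, lam (g * h) = lam g ᵥ* h.1 + lam h := fun g h => by
      have e : ∀ v, lam (g * h) ⬝ᵥ v = (lam g ᵥ* h.1 + lam h) ⬝ᵥ v := fun v => by
        refine hzinj _ _ ?_
        have e1 := hlam' (lift g * lift h) v
        rw [map_mul, map_mul, hlift, hlift,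
          show mk (lift g) * mk (lift h) * mk (F v) * (mk (lift g) * mk (lift h))⁻¹ =
            mk (lift g) * (mk (lift h) * mk (F v) * (mk (lift h))⁻¹) * (mk (lift g))⁻¹ by group,
          hlam h v, ← conj_mul, ← conj_pow, hzM, hlam, mulVec_mulVec, ← Units.val_mul, mul_assoc,
          ← hpwz, dotProduct_mulVec, ← add_dotProduct] at e1
        exact (mul_left_cancel e1).symm
      funext i
      have := e (Pi.single i 1)
      rwa [dotProduct_single, dotProduct_single, mul_one, mul_one] at this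
    have hlT : lam gT 1 = 0 ∧ lam gT 0 = 0 := by
      have h1 : lam 1 = 0 := by
        have := hlcoc 1 1
        rw [mul_one, Units.val_one, vecMul_one] at this
        exact left_eq_add.1 this
      have h2 := hlcoc gT gT
      rw [gT_sq, h1] at h2
      refine ⟨?_, ?_⟩
      · by_contra hne
        have h3 : lam gT 1 = 1 := (zero_one _).resolve_left hne
        refine hex ⟨F ![0, 1, 0], hFQ _, ?_⟩
        have e := hlam' x ![0, 1, 0]
        rw [hπx, show gT.1 *ᵥ ![0, 1, 0] = (![0, 1, 0] : V3) by decide +kernel,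
          show (lam gT ⬝ᵥ ![0, 1, 0]) = 1 by simp [dotProduct, Fin.sum_univ_three, h3],
          ZMod.val_one, pow_one, ← map_inv, ← map_mul, ← map_mul, ← map_mul] at e
        refine ⟨_, QuotientGroup.eq.1 e.symm, ?_⟩
        group
      · have key : ∀ t : V3, (0 : V3) = t ᵥ* gT.1 + t → t 0 = 0 := by decide +kernel
        exact key _ h2
    obtain ⟨w, hw⟩ := cocycle_split_dual lam hlcoc hlT
    -- the invariant complement
    let t : V3 → X := fun v => F v * z ^ (w ⬝ᵥ v).val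
    have htQ : ∀ v, t v ∈ π.ker := fun v => mul_mem (hFQ v) (pow_mem hzQ _)
    have htadd : ∀ v v', mk (t (v + v')) = mk (t v) * mk (t v') := fun v v' => by
      simp only [t, map_mul, map_pow, hFadd, dotProduct_add, hpwz]
      have hc1 : Commute (mk (F v')) (mk z ^ (w ⬝ᵥ v).val) := (hQcomm _ (hFQ _) _ hzQ).pow_right _
      calc _ = mk (F v) * (mk (F v') * mk z ^ (w ⬝ᵥ v).val) * mk z ^ (w ⬝ᵥ v').val := by group
        _ = _ := by rw [hc1.eq]; group
    have htact : ∀ (g : X) v, mk g * mk (t v) * (mk g)⁻¹ = mk (t ((π g).1 *ᵥ v)) := fun g v => by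
      simp only [t, map_mul, map_pow]
      rw [← conj_mul, ← conj_pow, hzM, hlam', mul_assoc, ← hpwz, hw, add_dotProduct, ← dotProduct_mulVec,
        add_assoc, CharTwo.add_self_eq_zero, add_zero]
    have ht0 : t 0 ∈ M := by
      have h := htadd 0 0
      rw [add_zero] at h
      exact hker.1 (left_eq_mul.1 h)
    let Y : Subgroup X := liftSub M t ht0
      (fun v v' => hker.1 (by
        rw [map_mul mk (t (v + v'))⁻¹, map_inv mk (t (v + v')), htadd, map_mul mk (t v) (t v'),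
          inv_mul_cancel]))
      (fun v u hu' => S.cenM u hu' _ (htQ v))
    have hYmem : ∀ p, p ∈ Y ↔ ∃ v, mk (t v) = mk p := fun p =>
      exists_congr fun v => ⟨fun h => QuotientGroup.eq.2 h, fun h => QuotientGroup.eq.1 h⟩
    have hYn : Y.Normal := ⟨fun p hp g => by
      obtain ⟨v, hv⟩ := (hYmem p).1 hp
      refine (hYmem _).2 ⟨(π g).1 *ᵥ v, ?_⟩
      rw [map_mul mk (g * p) g⁻¹, map_mul mk g p, map_inv mk g, ← hv, htact]⟩
    have hts : ∀ v, (s v)⁻¹ * t v ∈ Z := fun v => by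
      rw [show (s v)⁻¹ * t v = (s v)⁻¹ * F v * z ^ (w ⬝ᵥ v).val by simp only [t]; group]
      exact mul_mem (hFs v) (pow_mem S.mem _)
    have hzY : z ∉ Y := by
      rintro ⟨v, hv⟩
      have h1 : (s v)⁻¹ * z ∈ Z := by
        have := mul_mem (hts v) (S.le hv)
        rwa [mul_assoc, mul_inv_cancel_left] at this
      have h2 : v = 0 := (S.top.sep 0 v (by
        have := mul_mem (inv_mem S.top.zero) (inv_mem (mul_mem h1 (inv_mem S.mem)))
        rwa [mul_inv_cancel_right, inv_inv] at this)).symm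
      subst h2
      have := mul_mem ht0 hv
      rw [mul_inv_cancel_left] at this
      exact S.not_mem this
    have hYQ : Y ≤ π.ker := fun p ⟨v, hv⟩ => by
      have := mul_mem (htQ v) (hMQ hv)
      rwa [mul_inv_cancel_left] at this
    have hMY : M ≤ Y := fun p hp => ⟨0, mul_mem (inv_mem ht0) hp⟩
    have hQY : ∀ q ∈ π.ker, q ∈ Y ∨ z⁻¹ * q ∈ Y := fun q hq => by
      obtain ⟨v, y', hy', rfl⟩ := S.exists_rep hq
      have hy2 : (t v)⁻¹ * (s v * y') ∈ Z := by
        have := mul_mem (inv_mem (hts v)) hy'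
        rwa [_root_.mul_inv_rev, inv_inv, mul_assoc] at this
      rcases S.split hy2 with h | ⟨μ, hμ, h⟩
      · exact Or.inl ⟨v, h⟩
      · refine Or.inr ⟨v, ?_⟩
        have h' : s v * y' = t v * (z * μ) := by rw [← h, mul_inv_cancel_left]
        rw [h', ← mul_assoc (t v), hcomm _ (htQ v) z hzQ, mul_assoc z, inv_mul_cancel_left,
          inv_mul_cancel_left]
        exact hμ
    haveI := hYn
    have hxY : x * x ∉ Y := by
      have C' := C.quotient Y hYQ
      have hk : (QuotientGroup.lift Y π hYQ).ker = π.ker.map (QuotientGroup.mk' Y) :=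
        QuotientGroup.ker_lift Y π hYQ
      intro h
      refine lift_sq_ne_one (QuotientGroup.lift Y π hYQ) C'.surj C'.pgroup C'.perfect ?_ ?_
        (x := QuotientGroup.mk' Y x) hπx ((map_mul _ _ _).symm.trans ((QuotientGroup.eq_one_iff _).2 h))
      · rw [hk]
        rintro _ ⟨q, hq, rfl⟩ g
        obtain ⟨g, rfl⟩ := QuotientGroup.mk'_surjective Y g
        rw [← mul_inv_eq_iff_eq_mul, ← map_inv, ← map_mul, ← map_mul]
        refine (QuotientGroup.eq.2 ?_).symm
        rcases hQY q hq with h' | h'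
        · exact mul_mem (inv_mem h') (hYn.conj_mem _ h' g)
        · rw [show q⁻¹ * (g * q * g⁻¹) =
            (z⁻¹ * q)⁻¹ * (z⁻¹ * (g * z * g⁻¹)) * (g * (z⁻¹ * q) * g⁻¹) by group]
          exact mul_mem (mul_mem (inv_mem h') (hMY (S.conj g))) (hYn.conj_mem _ h' g)
      · rw [hk, Ne, Subgroup.map_eq_bot_iff, QuotientGroup.ker_mk']
        exact fun h => hzY (h hzQ)
    obtain ⟨v, hv⟩ := (hQY _ hxQ).resolve_left hxY
    obtain ⟨μ, hμ, hxx⟩ : ∃ μ ∈ M, x * x = z * (t v * μ) :=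
      ⟨_, hv, by rw [mul_inv_cancel_left, mul_inv_cancel_left]⟩
    have hv' : v = 0 ∨ v = e0 := by
      refine gS_fix v (S.top.sep _ _ ?_)
      have h1 := S.top.act y v
      rw [hy] at h1
      have hr : (s v)⁻¹ * (x * x) ∈ Z := by
        rw [hxx, ← mul_assoc z, ← hcomm _ (htQ v) z hzQ,
          show (s v)⁻¹ * (t v * z * μ) = (s v)⁻¹ * t v * z * μ by group]
        exact mul_mem (mul_mem (hts v) S.mem) (S.le hμ)
      rw [show (s (gS.1 *ᵥ v))⁻¹ * s v = (s (gS.1 *ᵥ v))⁻¹ * (y * s v * y⁻¹) *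
        (y * ((s v)⁻¹ * (x * x)) * y⁻¹) * ((s v)⁻¹ * (x * x))⁻¹ by rw [hx]; group]
      exact mul_mem (mul_mem h1 (Subgroup.Normal.conj_mem inferInstance _ hr y)) (inv_mem hr)
    -- a fixed lift of the line
    set p₀ := t ![0, 0, 1] * (x * t ![0, 0, 1] * x⁻¹) with hp₀
    have hxq : x * t ![0, 0, 1] * x⁻¹ ∈ π.ker := Subgroup.Normal.conj_mem inferInstance _ (htQ _) x
    have hp₀fix : x * p₀ * x⁻¹ = p₀ := by
      rw [hp₀, show x * (t ![0, 0, 1] * (x * t ![0, 0, 1] * x⁻¹)) * x⁻¹ =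
        x * t ![0, 0, 1] * x⁻¹ * (x * x * t ![0, 0, 1] * (x * x)⁻¹) by group,
        htriv _ hxQ _ (htQ _), hcomm _ hxq _ (htQ _)]
    have hp₀c : mk p₀ = mk (t e0) := by
      rw [hp₀, map_mul mk (t _), map_mul mk (x * t _), map_mul mk x, map_inv mk x, htact, hπx, ← htadd]
      congr 2; decide +kernel
    have hfix : ∃ μ' ∈ M, ∃ q₀, q₀ ∈ π.ker ∧ x * q₀ * x⁻¹ = q₀ ∧ t v * μ = q₀ * μ' := by
      rcases hv' with rfl | rfl
      · exact ⟨t 0 * μ, mul_mem ht0 hμ, 1, one_mem _, by group, (one_mul _).symm⟩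
      · exact ⟨p₀⁻¹ * t e0 * μ, mul_mem (QuotientGroup.eq.1 hp₀c) hμ, p₀,
          mul_mem (htQ _) hxq, hp₀fix, by group⟩
    obtain ⟨μ', hμ', q₀, hq₀, hq₀fix, he⟩ := hfix
    obtain ⟨u', rfl⟩ := hmcov μ' hμ'
    rw [he] at hxx
    have e : z * (q₀ * m u') = z * (m (c gT) * q₀ * m (gT.1 *ᵥ u')) := by
      calc z * (q₀ * m u') = x * (x * x) * x⁻¹ := by rw [← hxx]; group
        _ = (x * z * x⁻¹) * (x * q₀ * x⁻¹) * (x * m u' * x⁻¹) := by rw [hxx]; group
        _ = _ := by rw [hzx, hq₀fix, hmact, hπx]; group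
    rw [← S.cenM _ (hmM (c gT)) _ hq₀, mul_assoc q₀, ← hmadd] at e
    have e' := hminj (mul_left_cancel (mul_left_cancel e))
    have key : ∀ a b : V3, a = b + gT.1 *ᵥ a → b = 0 ∨ b = e0 := by decide +kernel
    exact key _ _ e'
  obtain ⟨w, hw⟩ := cocycle_split c hcoc hcT
  set z' := z * m w with hz'
  have hz'Z : z' ∈ Z := mul_mem S.mem (S.le (hmM w))
  have hz'M : z' ∉ M := fun h => S.not_mem ((Subgroup.mul_mem_cancel_right M (hmM w)).1 h)
  have hz'c : ∀ y, y * z' = z' * y := fun y => by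
    rw [← mul_inv_eq_iff_eq_mul, hz',
      show y * (z * m w) * y⁻¹ = y * z * y⁻¹ * (y * m w * y⁻¹) by group, hc, hmact, hw, mul_assoc,
      ← hmadd]
    congr 2
    have key : ∀ a b : V3, a + b + a = b := by decide +kernel
    exact key _ _
  haveI hN : (Subgroup.zpowers z').Normal := ⟨fun n hn g => by
    obtain ⟨k, rfl⟩ := hn
    show g * z' ^ k * g⁻¹ ∈ _
    rw [← conj_zpow, show g * z' * g⁻¹ = z' by rw [hz'c, mul_inv_cancel_right]]
    exact zpow_mem (Subgroup.mem_zpowers _) k⟩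
  have hNQ : Subgroup.zpowers z' ≤ π.ker := Subgroup.zpowers_le.2 (S.top.le hz'Z)
  have hNZ : Subgroup.zpowers z' ≤ Z := Subgroup.zpowers_le.2 hz'Z
  have hNcard : Nat.card (Subgroup.zpowers z') = 2 := by
    haveI : Fact (Nat.Prime 2) := ⟨Nat.prime_two⟩
    rw [Nat.card_zpowers]
    exact orderOf_eq_prime (by rw [pow_two, S.sqZ hz'Z]) fun h => hz'M (h ▸ one_mem M)
  have hcard8 : Nat.card (Z.map (QuotientGroup.mk' (Subgroup.zpowers z'))) = 8 := by
    have := RankFourA5.card_img (L := Subgroup.zpowers z') (P := Z) hNZ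
    rw [S.cardZ, hNcard, RankFourA5.img] at this
    omega
  haveI : (Z.map (QuotientGroup.mk' (Subgroup.zpowers z'))).Normal :=
    Subgroup.Normal.map inferInstance _ (QuotientGroup.mk'_surjective _)
  have hker' : (QuotientGroup.lift (Subgroup.zpowers z') π hNQ).ker =
      π.ker.map (QuotientGroup.mk' (Subgroup.zpowers z')) := QuotientGroup.ker_lift _ π hNQ
  have T' := S.top.map (Subgroup.zpowers z') hNQ hNZ
  rw [← hker'] at T'
  refine case_two_natural (C.quotient _ hNQ) T' hcard8 ?_ ?_ ?_ ?_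
  · rintro _ ⟨y, hy, rfl⟩; rw [← map_mul, S.sqZ hy, map_one]
  · rintro _ ⟨y, hy, rfl⟩ q hq
    rw [hker'] at hq
    obtain ⟨q, hq, rfl⟩ := hq
    rw [← map_mul, ← map_mul, hZc y hy q hq]
  · intro q hq
    rw [hker'] at hq
    obtain ⟨q, hq, rfl⟩ := hq
    rw [← map_mul]
    exact Subgroup.mem_map_of_mem _ (S.le (S.sqQ q hq))
  · intro p hp r hr
    rw [hker'] at hp hr
    obtain ⟨p, hp, rfl⟩ := hp
    obtain ⟨r, hr, rfl⟩ := hr
    rw [← map_inv, ← map_inv, ← map_mul, ← map_mul, ← map_mul]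
    exact Subgroup.mem_map_of_mem _ (S.le (S.comQ p hp r hr))

/-- The case in which `z` inverts a homocyclic subgroup. -/
theorem Setup.inverting_case [M.Normal] (C : Cover π) (S : Setup π Z M s z) {β : V3 → X}
    (hβM : ∀ v, β v ∈ M) (hβadd : ∀ v w, β (v + w) = β v * β w)
    (hβact : ∀ x v, x * β v * x⁻¹ = β ((π x).1 *ᵥ v))
    (hβ : ∀ p ∈ π.ker, ∀ v, (s v)⁻¹ * p ∈ Z → z * p * z⁻¹ * p⁻¹ = β v)
    (hne : ∃ v, β v ≠ 1) : False := by
  classical
  have hzQ : z ∈ π.ker := S.top.le S.mem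
  have hMQ : M ≤ π.ker := S.le.trans S.top.le
  have hβ0 : β 0 = 1 := by have := hβadd 0 0; rw [add_zero] at this; exact left_eq_mul.1 this
  have hβinj : Function.Injective β := fun v w h => by
    by_contra hvw
    obtain ⟨u, hu⟩ := hne
    have h1 : β (v + w) = 1 := by rw [hβadd, h, S.sqM _ (hβM w)]
    have h2 : v + w ≠ 0 := fun h0 => hvw (by
      have key : ∀ a b : V3, a + b = 0 → a = b := by decide +kernel
      exact key v w h0)
    refine hu ?_
    by_cases hu0 : u = 0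
    · rw [hu0, hβ0]
    rcases transitive _ u h2 hu0 with e | ⟨a, b, hab, e⟩
    · rw [← e, h1]
    · obtain ⟨g, hg⟩ := C.surj (tv a b hab)
      rw [← e, show v + w + (b ⬝ᵥ (v + w)) • a = (π g).1 *ᵥ (v + w) by rw [hg, tv_mulVec],
        ← hβact, h1, mul_one, mul_inv_cancel]
  have hβcov : ∀ p ∈ M, ∃ v, p = β v := fun p hp => by
    have hbij : Function.Bijective (fun v => (⟨β v, hβM v⟩ : M)) :=
      (Nat.bijective_iff_injective_and_card _).2 ⟨fun v w h => hβinj (congrArg Subtype.val h), by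
        rw [S.cardM, Nat.card_fun, Nat.card_zmod, Nat.card_fin]; norm_num⟩
    obtain ⟨v, hv⟩ := hbij.2 ⟨p, hp⟩
    exact ⟨v, (congrArg Subtype.val hv).symm⟩
  have hMsq : ∀ p ∈ π.ker, ∀ u ∈ M, (p * u) * (p * u) = p * p := fun p hp u hu => by
    rw [show p * u * (p * u) = p * (u * p) * u by group, ← S.cenM u hu p hp,
      show p * (p * u) * u = p * p * (u * u) by group, S.sqM u hu, mul_one]
  have hpz : ∀ p ∈ π.ker, ∀ v, (s v)⁻¹ * p ∈ Z → (p * z) * (p * z) = p * p * β v := fun p hp v hv => by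
    have e := hβ p hp v hv
    have hz' : z⁻¹ = z := inv_eq_of_mul_eq_one_right S.sq
    calc (p * z) * (p * z) = p * (z * p * z⁻¹ * p⁻¹) * p * (z * z) := by group
      _ = p * (β v * p) * (z * z) := by rw [e]; group
      _ = p * p * β v := by rw [← S.cenM _ (hβM v) p hp, S.sq, mul_one, mul_assoc]
  have hclassY : ∀ p ∈ π.ker, ∀ v, (s v)⁻¹ * p ∈ Z → p * p = s v * s v ∨ p * p = s v * s v * β v := by
    intro p _ v hv
    obtain ⟨y, hy, rfl⟩ : ∃ y ∈ Z, p = s v * y := ⟨_, hv, (mul_inv_cancel_left _ _).symm⟩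
    rcases S.split hy with h | ⟨u, hu, rfl⟩
    · exact Or.inl (hMsq _ (S.top.mem v) y h)
    · rw [← mul_assoc (s v) z u, hMsq _ (mul_mem (S.top.mem v) hzQ) u hu,
        hpz _ (S.top.mem v) v (by rw [inv_mul_cancel]; exact one_mem _)]
      exact Or.inr rfl
  have hval : ∀ v, s v * s v = 1 ∨ s v * s v = β v := fun v => by
    obtain ⟨f, hf⟩ := hβcov _ (S.sqQ _ (S.top.mem v))
    rw [hf]
    by_cases hf0 : f = 0
    · exact Or.inl (by rw [hf0, hβ0])
    by_cases hfv : f = v
    · exact Or.inr (by rw [hfv])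
    exfalso
    by_cases hv : v = 0
    · subst hv
      exact hf0 (hβinj (by rw [← hf, S.sqZ S.top.zero, hβ0]))
    obtain ⟨x, y, hxy, hfix, hm1, hm2⟩ := stab_pair v f hv hf0 hfv
    obtain ⟨g, hg⟩ := C.surj (tv x y hxy)
    have hB := tv_act S.top hxy hg v
    rw [hfix] at hB
    have e : g * s v * g⁻¹ * (g * s v * g⁻¹) = β (f + (y ⬝ᵥ f) • x) := by
      rw [show g * s v * g⁻¹ * (g * s v * g⁻¹) = g * (s v * s v) * g⁻¹ by group, hf, hβact, hg, tv_mulVec]
    rcases hclassY _ (Subgroup.Normal.conj_mem inferInstance _ (S.top.mem v) g) v hB with h | h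
    · rw [e, hf] at h; exact hm1 (hβinj h)
    · rw [e, hf, ← hβadd] at h; exact hm2 (hβinj h)
  -- the distinguished lifts
  let t : V3 → X := fun v => if v = 0 then 1 else if s v * s v = β v then s v else s v * z
  have htQ : ∀ v, t v ∈ π.ker := fun v => by
    simp only [t]; split_ifs
    exacts [one_mem _, S.top.mem v, mul_mem (S.top.mem v) hzQ]
  have hts : ∀ v, (s v)⁻¹ * t v ∈ Z := fun v => by
    simp only [t]; split_ifs with h h'
    · subst h; rw [mul_one]; exact inv_mem S.top.zero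
    · rw [inv_mul_cancel]; exact one_mem _
    · rw [inv_mul_cancel_left]; exact S.mem
  have htt : ∀ v, t v * t v = β v := fun v => by
    simp only [t]; split_ifs with h h'
    · rw [h, hβ0, mul_one]
    · exact h'
    · rw [hpz _ (S.top.mem v) v (by rw [inv_mul_cancel]; exact one_mem _),
        (hval v).resolve_right h', one_mul]
  have ht0 : t 0 = 1 := if_pos rfl
  have hnf : ∀ p ∈ π.ker, ∀ v, (s v)⁻¹ * p ∈ Z →
      (p * p = β v ∧ (t v)⁻¹ * p ∈ M) ∨ (p * p = 1 ∧ (t v * z)⁻¹ * p ∈ M) := by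
    intro p _ v hv
    have hy : (t v)⁻¹ * p ∈ Z := by
      have := mul_mem (inv_mem (hts v)) hv
      rwa [_root_.mul_inv_rev, inv_inv, mul_assoc, mul_inv_cancel_left] at this
    obtain ⟨y, hy', rfl⟩ : ∃ y ∈ Z, p = t v * y := ⟨_, hy, (mul_inv_cancel_left _ _).symm⟩
    rcases S.split hy' with h | ⟨u, hu, rfl⟩
    · exact Or.inl ⟨by rw [hMsq _ (htQ v) y h, htt], by rwa [inv_mul_cancel_left]⟩
    · refine Or.inr ⟨?_, by rwa [show (t v * z)⁻¹ * (t v * (z * u)) = u by group]⟩
      rw [← mul_assoc (t v) z u, hMsq _ (mul_mem (htQ v) hzQ) u hu, hpz _ (htQ v) v (hts v), htt, S.sqM _ (hβM v)]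
  have hβne : ∀ v, v ≠ 0 → β v ≠ 1 := fun v hv h => hv (hβinj (h.trans hβ0.symm))
  have huniq : ∀ p ∈ π.ker, ∀ v, v ≠ 0 → (s v)⁻¹ * p ∈ Z →
      (p * p = β v → (t v)⁻¹ * p ∈ M) ∧ (p * p = 1 → (t v * z)⁻¹ * p ∈ M) := fun p hp v hv hpv => by
    rcases hnf p hp v hpv with ⟨h1, h2⟩ | ⟨h1, h2⟩
    · exact ⟨fun _ => h2, fun h => absurd (h1.symm.trans h) (hβne v hv)⟩
    · exact ⟨fun h => absurd (h.symm.trans h1) (hβne v hv), fun _ => h2⟩
  have hmulclass : ∀ a b : V3, ∀ p ∈ π.ker, ∀ r ∈ π.ker, (s a)⁻¹ * p ∈ Z → (s b)⁻¹ * r ∈ Z →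
      (s (a + b))⁻¹ * (p * r) ∈ Z := by
    intro a b p hp r hr hpa hrb
    have hconjZ : (s b)⁻¹ * ((s a)⁻¹ * p) * s b ∈ Z := by
      rcases S.split hpa with h | ⟨u, hu, h⟩
      · rw [mul_assoc, ← S.cenM _ h _ (S.top.mem b), inv_mul_cancel_left]; exact S.le h
      · rw [h, show (s b)⁻¹ * (z * u) * s b = (s b)⁻¹ * (z * (u * s b)) by group,
          ← S.cenM u hu _ (S.top.mem b),
          show (s b)⁻¹ * (z * (s b * u)) = ((s b)⁻¹ * z * s b * z⁻¹) * (z * u) by group]
        refine mul_mem (S.le ?_) (mul_mem S.mem (S.le hu))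
        have := S.comQ (s b)⁻¹ (inv_mem (S.top.mem b)) z hzQ
        simpa using this
    rw [show (s (a + b))⁻¹ * (p * r) = (s (a + b))⁻¹ * (s a * s b) *
      ((s b)⁻¹ * ((s a)⁻¹ * p) * s b) * ((s b)⁻¹ * r) by group]
    exact mul_mem (mul_mem (S.top.add a b) hconjZ) hrb
  have hsymm : ∀ a b, (t a * t b * (t a * t b) = β (a + b)) = (t b * t a * (t b * t a) = β (b + a)) := by
    intro a b
    have hQ : t a * t b ∈ π.ker := mul_mem (htQ a) (htQ b)
    have h := S.cenM _ (S.sqQ _ hQ) _ (inv_mem (htQ a))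
    have e : t b * t a * (t b * t a) = t a * t b * (t a * t b) := by
      calc t b * t a * (t b * t a) = (t a)⁻¹ * (t a * t b * (t a * t b)) * t a := by group
        _ = _ := by rw [h, inv_mul_cancel_right]
    rw [e, add_comm b a]
  have hinv : ∀ x y : V3, y ⬝ᵥ x = 0 → ∀ a b,
      (t (a + (y ⬝ᵥ a) • x) * t (b + (y ⬝ᵥ b) • x) * (t (a + (y ⬝ᵥ a) • x) * t (b + (y ⬝ᵥ b) • x)) =
        β (a + (y ⬝ᵥ a) • x + (b + (y ⬝ᵥ b) • x))) =
      (t a * t b * (t a * t b) = β (a + b)) := by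
    intro x y hxy a b
    obtain ⟨g, hg⟩ := C.surj (tv x y hxy)
    have hgv : ∀ v, (π g).1 *ᵥ v = v + (y ⬝ᵥ v) • x := fun v => by rw [hg, tv_mulVec]
    have key : ∀ v, (t ((π g).1 *ᵥ v))⁻¹ * (g * t v * g⁻¹) ∈ M := fun v => by
      by_cases hv : v = 0
      · subst hv; rw [mulVec_zero, ht0]; simp
      · refine (huniq _ (Subgroup.Normal.conj_mem inferInstance _ (htQ v) g) _ ?_ ?_).1 ?_
        · intro h0
          exact hv (hβinj (by
            have := hβact g v
            rw [h0, hβ0, conj_eq_one_iff] at this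
            rw [this, hβ0]))
        · rw [show (s ((π g).1 *ᵥ v))⁻¹ * (g * t v * g⁻¹) =
            (s ((π g).1 *ᵥ v))⁻¹ * (g * s v * g⁻¹) * (g * ((s v)⁻¹ * t v) * g⁻¹) by group]
          refine mul_mem (S.top.act g v) ?_
          rcases S.split (hts v) with h | ⟨u, hu, h⟩
          · exact S.le (Subgroup.Normal.conj_mem inferInstance _ h g)
          · rw [h, show g * (z * u) * g⁻¹ = z * (z⁻¹ * (g * z * g⁻¹)) * (g * u * g⁻¹) by group]
            exact mul_mem (mul_mem S.mem (S.le (S.conj g))) (S.le (Subgroup.Normal.conj_mem inferInstance _ hu g))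
        · rw [show g * t v * g⁻¹ * (g * t v * g⁻¹) = g * (t v * t v) * g⁻¹ by group, htt, hβact]
    rw [← hgv, ← hgv, ← mulVec_add, ← hβact]
    have hQ := mul_mem (htQ ((π g).1 *ᵥ a)) (htQ ((π g).1 *ᵥ b))
    set A := t ((π g).1 *ᵥ a) with hA
    set B := t ((π g).1 *ᵥ b) with hB
    have e : g * (t a * t b * (t a * t b)) * g⁻¹ = A * B * (A * B) := by
      obtain ⟨μ, hμ, eA⟩ : ∃ μ ∈ M, g * t a * g⁻¹ = A * μ := ⟨_, key a, (mul_inv_cancel_left _ _).symm⟩
      obtain ⟨ν, hν, eB⟩ : ∃ ν ∈ M, g * t b * g⁻¹ = B * ν := ⟨_, key b, (mul_inv_cancel_left _ _).symm⟩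
      calc g * (t a * t b * (t a * t b)) * g⁻¹
          = (g * t a * g⁻¹) * (g * t b * g⁻¹) * ((g * t a * g⁻¹) * (g * t b * g⁻¹)) := by group
        _ = A * (μ * B) * ν * (A * (μ * B) * ν) := by rw [eA, eB]; group
        _ = A * B * (μ * ν) * (A * B * (μ * ν)) := by rw [← S.cenM μ hμ B (htQ _)]; group
        _ = _ := hMsq _ hQ _ (mul_mem hμ hν)
    rw [← e]
    exact propext ⟨fun h => mul_left_cancel (mul_right_cancel h), fun h => by rw [h]⟩
  by_cases hP : ∀ a b : V3, a ≠ 0 → b ≠ 0 → b ≠ a → t a * t b * (t a * t b) = β (a + b)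
  · -- homocyclic, inverted by `z`
    have hind : ∀ a b : V3, a ≠ 0 → b ≠ 0 → b ≠ a → a + b ≠ 0 := by decide +kernel
    have hclose : ∀ a b, (t (a + b))⁻¹ * (t a * t b) ∈ M := fun a b => by
      by_cases ha : a = 0
      · subst ha; rw [zero_add, ht0, one_mul, inv_mul_cancel]; exact one_mem _
      by_cases hb : b = 0
      · subst hb; rw [add_zero, ht0, mul_one, inv_mul_cancel]; exact one_mem _
      by_cases hba : b = a
      · subst hba; rw [v3_add_self, ht0, inv_one, one_mul, htt]; exact hβM _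
      exact (huniq _ (mul_mem (htQ a) (htQ b)) _ (hind a b ha hb hba)
        (hmulclass a b _ (htQ a) _ (htQ b) (hts a) (hts b))).1 (hP a b ha hb hba)
    let Y : Subgroup X := liftSub M t (ht0 ▸ one_mem M) hclose (fun v u hu => S.cenM u hu _ (htQ v))
    have hYQ : Y ≤ π.ker := fun p ⟨v, hv⟩ => by
      have := mul_mem (htQ v) (hMQ hv)
      rwa [mul_inv_cancel_left] at this
    have hclassY' : ∀ p ∈ Y, ∃ v, ∃ u ∈ M, p = t v * u := fun p ⟨v, hv⟩ =>
      ⟨v, _, hv, (mul_inv_cancel_left _ _).symm⟩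
    have hact : ∀ (g : X) v, (t ((π g).1 *ᵥ v))⁻¹ * (g * t v * g⁻¹) ∈ M := fun g v => by
      by_cases hv : v = 0
      · subst hv; rw [mulVec_zero, ht0]; simp
      · refine (huniq _ (Subgroup.Normal.conj_mem inferInstance _ (htQ v) g) _ ?_ ?_).1 ?_
        · intro h0
          exact hv (hβinj (by
            have := hβact g v
            rw [h0, hβ0, conj_eq_one_iff] at this
            rw [this, hβ0]))
        · rw [show (s ((π g).1 *ᵥ v))⁻¹ * (g * t v * g⁻¹) =
            (s ((π g).1 *ᵥ v))⁻¹ * (g * s v * g⁻¹) * (g * ((s v)⁻¹ * t v) * g⁻¹) by group]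
          refine mul_mem (S.top.act g v) ?_
          rcases S.split (hts v) with h | ⟨u, hu, h⟩
          · exact S.le (Subgroup.Normal.conj_mem inferInstance _ h g)
          · rw [h, show g * (z * u) * g⁻¹ = z * (z⁻¹ * (g * z * g⁻¹)) * (g * u * g⁻¹) by group]
            exact mul_mem (mul_mem S.mem (S.le (S.conj g))) (S.le (Subgroup.Normal.conj_mem inferInstance _ hu g))
        · rw [show g * t v * g⁻¹ * (g * t v * g⁻¹) = g * (t v * t v) * g⁻¹ by group, htt, hβact]
    haveI hYn : Y.Normal := ⟨fun p hp g => by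
      obtain ⟨v, u, hu, rfl⟩ := hclassY' p hp
      refine ⟨(π g).1 *ᵥ v, ?_⟩
      rw [show (t ((π g).1 *ᵥ v))⁻¹ * (g * (t v * u) * g⁻¹) =
        (t ((π g).1 *ᵥ v))⁻¹ * (g * t v * g⁻¹) * (g * u * g⁻¹) by group]
      exact mul_mem (hact g v) (Subgroup.Normal.conj_mem inferInstance _ hu g)⟩
    have hsep : ∀ v w, (t v)⁻¹ * t w ∈ M → v = w := fun v w h => S.top.sep v w (by
      have := mul_mem (mul_mem (hts v) (S.le h)) (inv_mem (hts w))
      rwa [show (s v)⁻¹ * t v * ((t v)⁻¹ * t w) * ((s w)⁻¹ * t w)⁻¹ = (s v)⁻¹ * s w by group] at this)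
    have hTop : Top π Y M t :=
      ⟨fun p hp => ⟨0, by rw [ht0, inv_one, one_mul]; exact hp⟩,
        fun v => ⟨v, by rw [inv_mul_cancel]; exact one_mem _⟩, fun p hp => hp, hsep, hclose, hact⟩
    have htcomm : ∀ a b, t a * t b = t b * t a := by
      intro a b
      by_cases ha : a = 0
      · subst ha; rw [ht0, one_mul, mul_one]
      by_cases hb : b = 0
      · subst hb; rw [ht0, one_mul, mul_one]
      by_cases hba : b = a
      · subst hba; rfl
      have hk := S.comQ _ (htQ b) _ (htQ a)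
      set k := t b * t a * (t b)⁻¹ * (t a)⁻¹ with hkdef
      have h1 := hP a b ha hb hba
      have e : t a * t b * (t a * t b) = k * (t a * t a) * (t b * t b) := by
        calc t a * t b * (t a * t b) = t a * k * t a * (t b * t b) := by rw [hkdef]; group
          _ = _ := by rw [S.cenM k hk _ (htQ a)]; group
      rw [e, htt, htt, hβadd, mul_assoc, mul_eq_right] at h1
      have h1' : t b * t a * (t b)⁻¹ * (t a)⁻¹ = 1 := h1
      exact (mul_inv_eq_iff_eq_mul.1 (mul_inv_eq_one.1 h1')).symm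
    have hY : ∀ p ∈ Y, ∀ r ∈ Y, p * r = r * p := by
      intro p hp r hr
      obtain ⟨a, u, hu, rfl⟩ := hclassY' p hp
      obtain ⟨b, w, hw, rfl⟩ := hclassY' r hr
      calc t a * u * (t b * w) = t a * (u * t b) * w := by group
        _ = t a * t b * (u * w) := by rw [← S.cenM u hu _ (htQ b)]; group
        _ = t b * t a * (w * u) := by rw [htcomm, S.cenM w hw u (hMQ hu)]
        _ = t b * (w * t a) * u := by rw [← S.cenM w hw _ (htQ a)]; group
        _ = t b * w * (t a * u) := by group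
    have hsqY : ∀ v, ∀ u ∈ M, (t v * u) * (t v * u) = β v := fun v u hu => by
      rw [hMsq _ (htQ v) u hu, htt]
    obtain ⟨e, A, Co, -, hred⟩ := exists_coord Y M hTop S.cardM hY S.sqM
      (fun p hp => S.sqQ p (hYQ hp)) (fun p hp hp1 => by
        obtain ⟨v, u, hu, rfl⟩ := hclassY' p hp
        rw [hsqY v u hu] at hp1
        have hv : v = 0 := hβinj (hp1.trans hβ0.symm)
        subst hv; rw [ht0, one_mul]; exact hu)
    have hAz : A z = -1 := Co.eq fun v => by
      obtain ⟨u, hu, hev⟩ : ∃ u ∈ M, e v = t (fun i => red (v i)) * u :=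
        ⟨_, hred v, (mul_inv_cancel_left _ _).symm⟩
      set r := fun i => red (v i)
      have hQe : e v ∈ π.ker := hev ▸ mul_mem (htQ r) (hMQ hu)
      have hz := hβ _ hQe r (by rw [hev, ← mul_assoc]; exact mul_mem (hts r) (S.le hu))
      have hsq : e v * e v = β r := by rw [hev, hsqY r u hu]
      have h3 : (-1 : Mat4) *ᵥ v = v + v + v := by
        rw [neg_mulVec, one_mulVec]
        funext i
        have key : ∀ a : ZMod 4, -a = a + a + a := by decide
        exact key _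
      rw [h3, Co.add, Co.add, hsq, ← hz]
      group
    have := Co.det_eq_one C.perfect z
    rw [hAz] at this
    exact det_neg this
  · -- elementary
    push Not at hP
    obtain ⟨a₀, b₀, ha₀, hb₀, hba₀, hP₀⟩ := hP
    have hno : ∀ a b : V3, a ≠ 0 → b ≠ 0 → b ≠ a → t a * t b * (t a * t b) = 1 := by
      intro a b ha hb hba
      have hc := invariant_pair_const (fun a b => (t a * t b * (t a * t b) = β (a + b))) hsymm hinv
        a b a₀ b₀ ha hb hba ha₀ hb₀ hba₀
      rcases hnf _ (mul_mem (htQ a) (htQ b)) _ (hmulclass a b _ (htQ a) _ (htQ b) (hts a) (hts b)) with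
        ⟨h1, -⟩ | ⟨h1, -⟩
      · exact absurd (cast hc h1) hP₀
      · exact h1
    let u : V3 → X := fun v => if v = 0 then 1 else t v * z
    have huQ : ∀ v, u v ∈ π.ker := fun v => by
      simp only [u]; split_ifs; exacts [one_mem _, mul_mem (htQ v) hzQ]
    have hus : ∀ v, (s v)⁻¹ * u v ∈ Z := fun v => by
      simp only [u]; split_ifs with h
      · subst h; rw [mul_one]; exact inv_mem S.top.zero
      · rw [← mul_assoc]; exact mul_mem (hts v) S.mem
    have hu2 : ∀ v, u v * u v = 1 := fun v => by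
      simp only [u]; split_ifs
      · exact mul_one 1
      · rw [hpz _ (htQ v) v (hts v), htt, S.sqM _ (hβM v)]
    have hu0 : u 0 = 1 := if_pos rfl
    have hind : ∀ a b : V3, a ≠ 0 → b ≠ 0 → b ≠ a → a + b ≠ 0 := by decide +kernel
    have hclose : ∀ a b, (u (a + b))⁻¹ * (u a * u b) ∈ M := fun a b => by
      by_cases ha : a = 0
      · subst ha; rw [zero_add, hu0, one_mul, inv_mul_cancel]; exact one_mem _
      by_cases hb : b = 0
      · subst hb; rw [add_zero, hu0, mul_one, inv_mul_cancel]; exact one_mem _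
      by_cases hba : b = a
      · subst hba; rw [v3_add_self, hu0, inv_one, one_mul, hu2]; exact one_mem _
      have hab := hind a b ha hb hba
      rw [show u (a + b) = t (a + b) * z from if_neg hab]
      refine (huniq _ (mul_mem (huQ a) (huQ b)) _ hab
        (hmulclass a b _ (huQ a) _ (huQ b) (hus a) (hus b))).2 ?_
      rw [show u a = t a * z from if_neg ha, show u b = t b * z from if_neg hb]
      have hk := hβ _ (htQ b) b (hts b)
      have e : t a * z * (t b * z) = t a * t b * β b := by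
        calc t a * z * (t b * z) = t a * (z * t b * z⁻¹ * (t b)⁻¹) * t b * (z * z) := by group
          _ = t a * (β b * t b) * (z * z) := by rw [hk]; group
          _ = _ := by rw [← S.cenM _ (hβM b) _ (htQ b), S.sq, mul_one, mul_assoc]
      rw [e, hMsq _ (mul_mem (htQ a) (htQ b)) _ (hβM b), hno a b ha hb hba]
    let D : Subgroup X := liftSub M u (hu0 ▸ one_mem M) hclose (fun v w hw => S.cenM w hw _ (huQ v))
    have hDsq : ∀ p ∈ D, p * p = 1 := by
      rintro p ⟨v, hv⟩
      rw [show p = u v * ((u v)⁻¹ * p) by group, hMsq _ (huQ v) _ hv, hu2]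
    have hcard : 8 * Nat.card M ≤ Nat.card D := by
      have h8 : Nat.card (V3 × M) = 8 * Nat.card M := by
        rw [Nat.card_prod, Nat.card_fun, Nat.card_zmod, Nat.card_fin]; norm_num
      rw [← h8]
      refine Nat.card_le_card_of_injective
        (fun w : V3 × M => (⟨u w.1 * w.2.1, w.1, by rw [inv_mul_cancel_left]; exact w.2.2⟩ : D)) ?_
      rintro ⟨v, a⟩ ⟨v', a'⟩ h
      have h' : u v * a.1 = u v' * a'.1 := congrArg Subtype.val h
      have hm : (u v)⁻¹ * u v' ∈ M := by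
        rw [show (u v)⁻¹ * u v' = a.1 * a'.1⁻¹ by
          rw [show u v' = u v * a.1 * a'.1⁻¹ by rw [h']; group]; group]
        exact mul_mem a.2 (inv_mem a'.2)
      have hvv : v = v' := S.top.sep v v' (by
        have := mul_mem (mul_mem (hus v) (S.le hm)) (inv_mem (hus v'))
        rwa [show (s v)⁻¹ * u v * ((u v)⁻¹ * u v') * ((s v')⁻¹ * u v')⁻¹ = (s v)⁻¹ * s v' by group] at this)
      subst hvv
      exact Prod.ext rfl (Subtype.ext (mul_left_cancel h'))
    have := card_elem_le C.rank D hDsq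
    rw [S.cardM] at hcard
    omega

/-- The series natural, trivial, natural does not occur. -/
theorem case_mixed (C : Cover π) {Z M : Subgroup X} [Z.Normal] [M.Normal] {s : V3 → X}
    (T : Top π π.ker Z s) (hMZ : M ≤ Z) (hM : Nat.card M = 8) (hZ : Nat.card Z = 16)
    (hM2 : ∀ u ∈ M, u * u = 1) (hMc : ∀ u ∈ M, ∀ q ∈ π.ker, q * u = u * q)
    (hfix : ∀ u ∈ M, (∀ x, x * u = u * x) → u = 1)
    (hZs : ∀ z ∈ Z, ∀ x, x * z * x⁻¹ * z⁻¹ ∈ M) : False := by
  obtain ⟨z, hz, hzM⟩ : ∃ z ∈ Z, z ∉ M := by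
    by_contra hc
    push Not at hc
    have := Subgroup.card_le_of_le hc
    omega
  have hMQ : M ≤ π.ker := hMZ.trans T.le
  have hconj : ∀ x, z⁻¹ * (x * z * x⁻¹) ∈ M := fun x => by
    have h := hZs z hz x
    have := Subgroup.Normal.conj_mem (inferInstance : M.Normal) _ h z⁻¹
    simpa [mul_assoc] using this
  have hz2M : z * z ∈ M := by
    by_contra hn
    have := mem_of_index_two hMZ (by rw [hZ, hM]) (mul_mem hz hz) hn hz hzM
    rw [inv_mul_cancel_left] at this
    exact hzM this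
  have hz2 : z * z = 1 := hfix _ hz2M fun x => by
    have hu := hconj x
    set u := z⁻¹ * (x * z * x⁻¹)
    have e : x * (z * z) * x⁻¹ = z * z := by
      calc x * (z * z) * x⁻¹ = z * u * (z * u) := by simp only [u]; group
        _ = z * (u * z) * u := by group
        _ = z * (z * u) * u := by rw [← hMc u hu z (T.le hz)]
        _ = z * z * (u * u) := by group
        _ = z * z := by rw [hM2 u hu, mul_one]
    exact mul_inv_eq_iff_eq_mul.1 e
  have hsplit : ∀ y ∈ Z, y ∈ M ∨ z⁻¹ * y ∈ M := fun y hy => by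
    by_cases hyM : y ∈ M
    · exact Or.inl hyM
    · exact Or.inr (mem_of_index_two hMZ (by rw [hZ, hM]) hy hyM hz hzM)
  obtain ⟨hc, hs⟩ := ext_trivial (C.quotient M hMQ) (T.map M hMQ hMZ)
    (by rintro _ ⟨y, hy, rfl⟩ g
        obtain ⟨g, rfl⟩ := QuotientGroup.mk'_surjective M g
        rw [← map_mul, ← map_mul]
        refine QuotientGroup.eq.2 ?_
        have := Subgroup.Normal.conj_mem (inferInstance : M.Normal) _ (hZs y hy g) (g * y)⁻¹
        have e : (g * y)⁻¹ * (y * g) = (g * y)⁻¹ * (g * y * g⁻¹ * y⁻¹)⁻¹ * (g * y) := by group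
        rw [e]
        have h2 := Subgroup.Normal.conj_mem (inferInstance : M.Normal) _ (inv_mem (hZs y hy g)) (g * y)⁻¹
        simpa using h2)
    (by rintro _ ⟨y, hy, rfl⟩
        rw [← map_mul]
        refine (QuotientGroup.eq_one_iff (N := M) _).2 ?_
        rcases hsplit y hy with h | h
        · exact mul_mem h h
        · obtain ⟨u, hu, rfl⟩ : ∃ u ∈ M, y = z * u := ⟨_, h, (mul_inv_cancel_left _ _).symm⟩
          rw [show z * u * (z * u) = z * (u * z) * u by group, ← hMc u hu z (T.le hz),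
            show z * (z * u) * u = z * z * (u * u) by group, hz2, one_mul]
          exact mul_mem hu hu)
  have S : Setup π Z M s z :=
    ⟨T, hMZ, hz, hzM, hM, hZ, hM2, hMc, hz2,
      fun q hq => (QuotientGroup.eq_one_iff (N := M) _).1 (by
        show QuotientGroup.mk' M (q * q) = 1
        rw [map_mul]; exact hs _ (Subgroup.mem_map_of_mem _ hq)),
      fun p hp r hr => (QuotientGroup.eq_one_iff (N := M) _).1 (by
        show QuotientGroup.mk' M (p * r * p⁻¹ * r⁻¹) = 1
        rw [map_mul, map_mul, map_mul, map_inv, map_inv,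
          hc _ (Subgroup.mem_map_of_mem _ hp) _ (Subgroup.mem_map_of_mem _ hr), mul_inv_cancel_right,
          mul_inv_cancel]), hconj⟩
  obtain ⟨β, hβM, hβadd, hβact, hβ⟩ := S.exists_beta
  by_cases hne : ∃ v, β v ≠ 1
  · exact S.inverting_case C hβM hβadd hβact hβ hne
  push Not at hne
  refine S.central_case C fun p hp => ?_
  obtain ⟨v, hv⟩ := T.cover p hp
  have h := hβ p hp v hv
  rw [hne v] at h
  exact mul_inv_eq_iff_eq_mul.1 (mul_inv_eq_one.1 h)

end Cfsg.Agent.RankFourL32
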