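import Cfsg.Agent.Lib.RankFourL32.L32
import Cfsg.Agent.Lib.TwoGroups.Lifts
import Mathlib.GroupTheory.Transfer
import Mathlib.GroupTheory.PGroup
import Mathlib.GroupTheory.Abelianization.Defs

/-!
Perfect central two-extensions of the general linear group of degree three over two elements.
-/

set_option autoImplicit false
set_option linter.style.haveILetI false

namespace Cfsg.Agent.RankFourL32

/-- Conjugating elements carrying `gT` to `gA` and `gD`. -/
def gU : L3 :=
  mkU !![1, 0, 0; 0, 0, 1; 0, 1, 0] !![1, 0, 0; 0, 0, 1; 0, 1, 0] (by decide +kernel) (by decide +kernel)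

@[inherit_doc gU]
def gW : L3 :=
  mkU !![0, 1, 0; 1, 0, 0; 0, 0, 1] !![0, 1, 0; 1, 0, 0; 0, 0, 1] (by decide +kernel) (by decide +kernel)

theorem gU_gT : gU * gT * gU⁻¹ = gA := Units.ext (by decide +kernel)
theorem gW_gT : gW * gT * gW⁻¹ = gD := Units.ext (by decide +kernel)

theorem card_sylow : Nat.card (Subgroup.closure ({gA * gD, gA} : Set L3)) = 8 := by
  haveI : Fact (Nat.Prime 2) := ⟨Nat.prime_two⟩
  have h4 : orderOf (gA * gD) = 4 := by
    have h := orderOf_eq_prime_pow (x := gA * gD) (p := 2) (n := 1)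
      (by rw [pow_one, pow_two, gA_gD]; exact gT_ne)
      (by rw [show 2 ^ (1 + 1) = 2 + 2 from rfl, pow_add, pow_two, gA_gD, gT_sq])
    rw [h]; rfl
  have hinv : gA * (gA * gD) * gA⁻¹ = (gA * gD)⁻¹ := Units.ext (by decide +kernel)
  have hmem : gA ∉ Subgroup.zpowers (gA * gD) := by
    rintro ⟨k, hk⟩
    refine not_comm ?_
    have e : (gA * gD) ^ k * (gA * gD) = gA * gD * (gA * gD) ^ k := (Commute.zpow_self _ k).eq
    simp only at hk
    rw [hk, mul_assoc gA gD gA] at e
    exact mul_left_cancel e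
  obtain ⟨e⟩ := TwoLift.dihedral_equiv h4 gA_sq hinv hmem rfl
  rw [Nat.card_congr e.toEquiv, DihedralGroup.nat_card]

variable {X : Type*} [Group X] [Finite X]

/-- A perfect central extension with two-group kernel has kernel inside the squares of any
commutator of lifts of `gA` and `gD`. -/
theorem kernel_le (π : X →* L3) (hπ : Function.Surjective π) (hQ : IsPGroup 2 π.ker)
    (hperf : commutator X = ⊤) (hcen : ∀ q ∈ π.ker, ∀ x, x * q = q * x) {a d : X}
    (ha : π a = gA) (hd : π d = gD) :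
    π.ker ≤ Subgroup.zpowers ((a * d * a⁻¹ * d⁻¹) * (a * d * a⁻¹ * d⁻¹)) ∧
      (a * d * a⁻¹ * d⁻¹) * (a * d * a⁻¹ * d⁻¹) * ((a * d * a⁻¹ * d⁻¹) * (a * d * a⁻¹ * d⁻¹)) = 1 := by
  have hsqQ : ∀ {g : X}, π g * π g = 1 → g * g ∈ π.ker := fun {g} h => by
    rw [MonoidHom.mem_ker, map_mul, h]
  have ha2 : ∀ x, x * (a * a) = a * a * x := hcen _ (hsqQ (by rw [ha, gA_sq]))
  have hd2 : ∀ x, x * (d * d) = d * d * x := hcen _ (hsqQ (by rw [hd, gD_sq]))
  set c := a * d * a⁻¹ * d⁻¹ with hc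
  have hπc : π c = gT := by
    rw [hc, map_mul, map_mul, map_mul, map_inv, map_inv, ha, hd,
      inv_eq_of_mul_eq_one_right gA_sq, inv_eq_of_mul_eq_one_right gD_sq, mul_assoc (gA * gD)]
    exact gA_gD
  have hac : a * c * a⁻¹ = c⁻¹ := by
    rw [hc, show a * (a * d * a⁻¹ * d⁻¹) * a⁻¹ = a * a * d * (a⁻¹ * d⁻¹ * a⁻¹) by group, ← ha2 d]
    group
  have hdc : d * c * d⁻¹ = c⁻¹ := by
    rw [hc, show d * (a * d * a⁻¹ * d⁻¹) * d⁻¹ = d * a * d * (a⁻¹ * (d * d)⁻¹) by group,
      show a⁻¹ * (d * d)⁻¹ = (d * d)⁻¹ * a⁻¹ by rw [← _root_.mul_inv_rev, ← _root_.mul_inv_rev, hd2 a]]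
    group
  have hc2 : c * c ∈ π.ker := hsqQ (by rw [hπc, gT_sq])
  have hc4 : c * c * (c * c) = 1 := by
    have h := hcen _ hc2 a
    have e : a * (c * c) * a⁻¹ = c⁻¹ * c⁻¹ := by rw [← hac]; group
    rw [h, mul_inv_cancel_right] at e
    calc c * c * (c * c) = c⁻¹ * c⁻¹ * (c * c) := by rw [← e]
      _ = 1 := by group
  refine ⟨?_, hc4⟩
  set S := Subgroup.closure ({gA * gD, gA} : Set L3) with hS
  set H := S.comap π with hH
  have hidx : H.index = 21 := by
    rw [hH, Subgroup.index_comap_of_surjective S hπ]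
    have h := Subgroup.card_mul_index S
    rw [card_L3, hS, card_sylow] at h
    rw [hS]
    omega
  have haH : a ∈ H := by
    rw [hH, Subgroup.mem_comap, ha]
    exact Subgroup.subset_closure (Or.inr rfl)
  have hdH : d ∈ H := by
    rw [hH, Subgroup.mem_comap, hd, show gD = gA * (gA * gD) by rw [← mul_assoc, gA_sq, one_mul]]
    exact mul_mem (Subgroup.subset_closure (Or.inr rfl)) (Subgroup.subset_closure (Or.inl rfl))
  have hgen : ∀ g ∈ H, g ∈ Subgroup.closure (({a, d} : Set X) ∪ (π.ker : Set X)) := by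
    intro g hg
    set G := Subgroup.closure (({a, d} : Set X) ∪ (π.ker : Set X)) with hG
    have haG : a ∈ G := Subgroup.subset_closure (Or.inl (Or.inl rfl))
    have hdG : d ∈ G := Subgroup.subset_closure (Or.inl (Or.inr rfl))
    obtain ⟨y, hy, hyg⟩ : π g ∈ G.map π := by
      have : S ≤ G.map π := (Subgroup.closure_le _).2 (by
        rintro s (rfl | rfl)
        · exact ⟨a * d, mul_mem haG hdG, by rw [map_mul, ha, hd]⟩
        · exact ⟨a, haG, ha⟩)
      exact this hg
    have hk : y⁻¹ * g ∈ π.ker := by rw [MonoidHom.mem_ker, map_mul, map_inv, hyg, inv_mul_cancel]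
    have := mul_mem hy (Subgroup.subset_closure (Or.inr hk) : y⁻¹ * g ∈ G)
    rwa [mul_inv_cancel_left] at this
  have hcH : c ∈ H := mul_mem (mul_mem (mul_mem haH hdH) (inv_mem haH)) (inv_mem hdH)
  -- commutators of `H` lie in the cyclic group generated by `c`
  have hnorm : ∀ g ∈ H, g ∈ Subgroup.normalizer (Subgroup.zpowers c : Set X) := by
    intro g hg
    have hconj : ∀ {u : X}, u * c * u⁻¹ = c⁻¹ → ∀ n ∈ Subgroup.zpowers c,
        u * n * u⁻¹ ∈ Subgroup.zpowers c := fun {u} hu n hn => by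
      obtain ⟨k, rfl⟩ := hn
      simp only [← conj_zpow, hu]
      exact zpow_mem (inv_mem (Subgroup.mem_zpowers c)) k
    refine (Subgroup.closure_le _).2 ?_ (hgen g hg)
    have hmk : ∀ u : X, (∀ n ∈ Subgroup.zpowers c, u * n * u⁻¹ ∈ Subgroup.zpowers c) →
        u ∈ Subgroup.normalizer (Subgroup.zpowers c : Set X) := fun u h => by
      rw [Subgroup.mem_normalizer_iff]
      intro n
      refine ⟨h n, fun hn => ?_⟩
      haveI : Finite (Subgroup.zpowers c : Set X) := inferInstance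
      have hbij : Set.MapsTo (fun n => u * n * u⁻¹) (Subgroup.zpowers c : Set X) (Subgroup.zpowers c) := h
      obtain ⟨m, hm, hmn⟩ := (Set.toFinite _).surjOn_iff_bijOn_of_mapsTo hbij |>.2
        ((Set.toFinite _).injOn_iff_bijOn_of_mapsTo hbij |>.1 (fun p _ q _ hpq => by
          simpa using hpq)) |>.trans_eq rfl hn
      have : m = n := by simpa using hmn
      exact this ▸ hm
    rintro u ((rfl | rfl) | hu)
    · exact hmk _ (hconj hac)
    · exact hmk _ (hconj hdc)
    · refine hmk _ fun n hn => ?_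
      rw [← hcen u hu n, mul_inv_cancel_right]
      exact hn
  set C := (Subgroup.zpowers c).subgroupOf H with hC
  haveI : C.Normal := ⟨fun n hn g => Subgroup.mem_subgroupOf.2 (by
    simpa using (Subgroup.mem_normalizer_iff.1 (hnorm g g.2) n.1).1 hn)⟩
  have hcomm : ∀ p q : H ⧸ C, p * q = q * p := by
    have hgens : ∀ u ∈ (({a, d} : Set X) ∪ (π.ker : Set X)), ∀ v ∈ (({a, d} : Set X) ∪ (π.ker : Set X)),
        u * v * u⁻¹ * v⁻¹ ∈ Subgroup.zpowers c := by
      have hcc := Subgroup.mem_zpowers c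
      rintro u ((rfl | rfl) | hu) v ((rfl | rfl) | hv)
      · group; exact one_mem _
      · exact hcc
      · rw [hcen v hv]; group; exact one_mem _
      · rw [show u * v * u⁻¹ * v⁻¹ = c⁻¹ by rw [hc]; group]; exact inv_mem hcc
      · group; exact one_mem _
      · rw [hcen v hv]; group; exact one_mem _
      · rw [← hcen u hu]; group; exact one_mem _
      · rw [← hcen u hu]; group; exact one_mem _
      · rw [← hcen u hu]; group; exact one_mem _
    intro p q
    obtain ⟨p, rfl⟩ := QuotientGroup.mk_surjective p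
    obtain ⟨q, rfl⟩ := QuotientGroup.mk_surjective q
    have hGH : Subgroup.closure (({a, d} : Set X) ∪ (π.ker : Set X)) ≤ H := (Subgroup.closure_le _).2 (by
      rintro u ((rfl | rfl) | hu)
      exacts [haH, hdH, by rw [hH, SetLike.mem_coe, Subgroup.mem_comap, MonoidHom.mem_ker.1 hu]; exact one_mem _])
    have key : ∀ g : X, g ∈ Subgroup.closure (({a, d} : Set X) ∪ (π.ker : Set X)) → ∀ (hg : g ∈ H),
        ∀ v : H, v.1 ∈ (({a, d} : Set X) ∪ (π.ker : Set X)) →
          ((⟨g, hg⟩ : H) : H ⧸ C) * v = v * (⟨g, hg⟩ : H) := by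
      intro g hgG
      induction hgG using Subgroup.closure_induction with
      | mem u hu =>
        intro hg v hv
        rw [← QuotientGroup.mk_mul, ← QuotientGroup.mk_mul, ← mul_inv_eq_one, ← QuotientGroup.mk_inv,
          ← QuotientGroup.mk_mul, QuotientGroup.eq_one_iff, Subgroup.mem_subgroupOf]
        simpa [mul_assoc] using hgens u hu v hv
      | one => intro hg v _; rw [show (⟨1, hg⟩ : H) = 1 from rfl, QuotientGroup.mk_one, one_mul, mul_one]
      | mul u w hu hw ihu ihw =>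
        intro hg v hv
        rw [show (⟨u * w, hg⟩ : H) = ⟨u, hGH hu⟩ * ⟨w, hGH hw⟩ from rfl, QuotientGroup.mk_mul, mul_assoc,
          ihw _ v hv, ← mul_assoc, ihu _ v hv, mul_assoc]
      | inv u hu ih =>
        intro hg v hv
        rw [show (⟨u⁻¹, hg⟩ : H) = (⟨u, hGH hu⟩ : H)⁻¹ from rfl, QuotientGroup.mk_inv]
        exact (show Commute _ _ from ih _ v hv).inv_left.eq
    have key2 : ∀ g : X, g ∈ Subgroup.closure (({a, d} : Set X) ∪ (π.ker : Set X)) → ∀ (hg : g ∈ H),
        ((⟨g, hg⟩ : H) : H ⧸ C) * p = p * (⟨g, hg⟩ : H) := by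
      intro g hgG
      induction hgG using Subgroup.closure_induction with
      | mem u hu =>
        intro hg
        exact (key p.1 (hgen _ p.2) p.2 ⟨u, hg⟩ hu).symm
      | one => intro hg; rw [show (⟨1, hg⟩ : H) = 1 from rfl, QuotientGroup.mk_one, one_mul, mul_one]
      | mul u w hu hw ihu ihw =>
        intro hg
        rw [show (⟨u * w, hg⟩ : H) = ⟨u, hGH hu⟩ * ⟨w, hGH hw⟩ from rfl, QuotientGroup.mk_mul, mul_assoc,
          ihw, ← mul_assoc, ihu, mul_assoc]
      | inv u hu ih =>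
        intro hg
        rw [show (⟨u⁻¹, hg⟩ : H) = (⟨u, hGH hu⟩ : H)⁻¹ from rfl, QuotientGroup.mk_inv]
        exact (show Commute _ _ from ih _).inv_left.eq
    exact (key2 q.1 (hgen _ q.2) q.2).symm
  letI : CommGroup (H ⧸ C) := { (inferInstance : Group (H ⧸ C)) with mul_comm := hcomm }
  haveI : H.FiniteIndex := ⟨by rw [hidx]; norm_num⟩
  intro z hz
  let τ : X →* H ⧸ C := MonoidHom.transfer (QuotientGroup.mk' C)
  have hτ : τ z = 1 := by
    have : commutator X ≤ τ.ker := Abelianization.commutator_subset_ker τ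
    exact this (hperf ▸ Subgroup.mem_top z)
  have hkey : ∀ (k : ℕ) (g₀ : X), g₀⁻¹ * z ^ k * g₀ ∈ H → g₀⁻¹ * z ^ k * g₀ = z ^ k := fun k g₀ _ => by
    rw [mul_assoc, ← hcen _ (pow_mem hz k) g₀, inv_mul_cancel_left]
  have hmem : z ^ H.index ∈ Subgroup.zpowers c := by
    have h := MonoidHom.transfer_eq_pow (QuotientGroup.mk' C) z hkey
    rw [show MonoidHom.transfer (QuotientGroup.mk' C) z = 1 from hτ] at h
    exact Subgroup.mem_subgroupOf.1 ((QuotientGroup.eq_one_iff (N := C) _).1 h.symm)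
  rw [hidx] at hmem
  have heven : z ^ 21 ∈ Subgroup.zpowers (c * c) := by
    obtain ⟨k, hk⟩ := hmem
    simp only at hk
    have h1 : gT ^ k = 1 := by
      rw [← hπc, ← map_zpow, hk, map_pow, MonoidHom.mem_ker.1 hz, one_pow]
    haveI : Fact (Nat.Prime 2) := ⟨Nat.prime_two⟩
    rw [← orderOf_dvd_iff_zpow_eq_one, orderOf_eq_prime (by rw [pow_two, gT_sq]) gT_ne] at h1
    obtain ⟨m, rfl⟩ := h1
    refine ⟨m, ?_⟩
    show (c * c) ^ m = z ^ 21
    rw [← hk, zpow_mul, show c ^ ((2 : ℕ) : ℤ) = c * c by rw [zpow_natCast, pow_two]]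
  obtain ⟨m, hm⟩ := hQ ⟨z, hz⟩
  have hzm : z ^ (2 ^ m) = 1 := congrArg Subtype.val hm
  have hcop : Nat.Coprime 21 (2 ^ m) := Nat.Coprime.pow_right _ (by norm_num)
  obtain ⟨u, hu⟩ : ∃ u : ℤ, z = (z ^ 21) ^ u := by
    refine ⟨Nat.gcdA 21 (2 ^ m), ?_⟩
    have hb := Nat.gcd_eq_gcd_ab 21 (2 ^ m)
    rw [hcop] at hb
    conv_lhs => rw [← zpow_one z, show (1 : ℤ) = ((1 : ℕ) : ℤ) from rfl, hb]
    rw [zpow_add, zpow_mul, zpow_mul, zpow_natCast, zpow_natCast, hzm, one_zpow, mul_one]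
  rw [hu]
  exact zpow_mem heven u

/-- The kernel of a perfect central two-extension has order at most two. -/
theorem card_kernel_le (π : X →* L3) (hπ : Function.Surjective π) (hQ : IsPGroup 2 π.ker)
    (hperf : commutator X = ⊤) (hcen : ∀ q ∈ π.ker, ∀ x, x * q = q * x) : Nat.card π.ker ≤ 2 := by
  obtain ⟨a, ha⟩ := hπ gA
  obtain ⟨d, hd⟩ := hπ gD
  obtain ⟨hle, h4⟩ := kernel_le π hπ hQ hperf hcen ha hd
  refine (Subgroup.card_le_of_le hle).trans ?_
  rw [Nat.card_zpowers]
  exact orderOf_le_of_pow_eq_one two_pos (by rw [pow_two, h4])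

/-- In a proper perfect central two-extension no lift of `gT` is an involution. -/
theorem lift_sq_ne_one (π : X →* L3) (hπ : Function.Surjective π) (hQ : IsPGroup 2 π.ker)
    (hperf : commutator X = ⊤) (hcen : ∀ q ∈ π.ker, ∀ x, x * q = q * x) (hne : π.ker ≠ ⊥)
    {x : X} (hx : π x = gT) : x * x ≠ 1 := by
  intro hx2
  have h2 := card_kernel_le π hπ hQ hperf hcen
  have hq : ∀ q ∈ π.ker, q * q = 1 := fun q hq => by
    have hpos : 0 < orderOf (⟨q, hq⟩ : π.ker) := orderOf_pos _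
    have hle : orderOf (⟨q, hq⟩ : π.ker) ≤ 2 := orderOf_le_card.trans h2
    have h := pow_orderOf_eq_one (⟨q, hq⟩ : π.ker)
    interval_cases orderOf (⟨q, hq⟩ : π.ker)
    · rw [pow_one] at h
      have := congrArg Subtype.val h
      simp only [OneMemClass.coe_one] at this
      rw [this, mul_one]
    · rw [pow_two] at h
      exact congrArg Subtype.val h
  have hall : ∀ y, π y = gT → y * y = 1 := fun y hy => by
    obtain ⟨q, hqk, rfl⟩ : ∃ q ∈ π.ker, y = q * x :=
      ⟨y * x⁻¹, by rw [MonoidHom.mem_ker, map_mul, map_inv, hx, hy, mul_inv_cancel], by group⟩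
    rw [mul_assoc, ← mul_assoc x, hcen q hqk, mul_assoc q x x, hx2, mul_one, hq q hqk]
  have hconj : ∀ (g : L3) (y : X), π y = g * gT * g⁻¹ → y * y = 1 := fun g y hy => by
    obtain ⟨w, hw⟩ := hπ g
    have h := hall (w⁻¹ * y * w) (by rw [map_mul, map_mul, map_inv, hw, hy]; group)
    calc y * y = w * ((w⁻¹ * y * w) * (w⁻¹ * y * w)) * w⁻¹ := by group
      _ = 1 := by rw [h, mul_one, mul_inv_cancel]
  obtain ⟨a, ha⟩ := hπ gA
  obtain ⟨d, hd⟩ := hπ gD
  obtain ⟨hle, -⟩ := kernel_le π hπ hQ hperf hcen ha hd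
  have hc : π (a * d * a⁻¹ * d⁻¹) = gT := by
    rw [map_mul, map_mul, map_mul, map_inv, map_inv, ha, hd, inv_eq_of_mul_eq_one_right gA_sq,
      inv_eq_of_mul_eq_one_right gD_sq, mul_assoc (gA * gD)]
    exact gA_gD
  rw [hall _ hc] at hle
  exact hne (le_bot_iff.1 (hle.trans (Subgroup.zpowers_one_eq_bot).le))

end Cfsg.Agent.RankFourL32
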