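import Cfsg.Agent.Lib.RankFourL32.L32
import Cfsg.Agent.Lib.RankFourL32.Cube
import Cfsg.Agent.Lib.RankFourL32.Transfer
import Cfsg.Agent.Lib.GLFourTwo.RankFive
import Mathlib.LinearAlgebra.Dimension.Finrank
import Mathlib.Algebra.Module.ZMod

/-!
Natural modules as sections of a group over the general linear group of degree three over two
elements.
-/

set_option autoImplicit false
set_option linter.style.haveILetI false

namespace Cfsg.Agent.RankFourL32

open Matrix

variable {X : Type*} [Group X] [Finite X] {π : X →* L3}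

/-- Representatives of a section isomorphic to the natural module. -/
structure Top (π : X →* L3) (P B : Subgroup X) (s : V3 → X) : Prop where
  le : B ≤ P
  mem : ∀ v, s v ∈ P
  cover : ∀ p ∈ P, ∃ v, (s v)⁻¹ * p ∈ B
  sep : ∀ v w, (s v)⁻¹ * s w ∈ B → v = w
  add : ∀ v w, (s (v + w))⁻¹ * (s v * s w) ∈ B
  act : ∀ x v, (s ((π x).1 *ᵥ v))⁻¹ * (x * s v * x⁻¹) ∈ B

theorem Top.zero {P B : Subgroup X} {s : V3 → X} (T : Top π P B s) : s 0 ∈ B := by
  have h := T.add 0 0
  rwa [add_zero, inv_mul_cancel_left] at h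

theorem Top.card {P B : Subgroup X} {s : V3 → X} (T : Top π P B s) :
    Nat.card P = 8 * Nat.card B := by
  have hbij : Function.Bijective
      (fun w : V3 × B => (⟨s w.1 * w.2.1, mul_mem (T.mem _) (T.le w.2.2)⟩ : P)) := by
    constructor
    · rintro ⟨v, b⟩ ⟨w, c⟩ h
      have h' : s v * b.1 = s w * c.1 := congrArg Subtype.val h
      obtain rfl := T.sep v w (by
        rw [show (s v)⁻¹ * s w = b.1 * c.1⁻¹ by
          rw [show s w = s v * b.1 * c.1⁻¹ by rw [h']; group]; group]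
        exact mul_mem b.2 (inv_mem c.2))
      exact Prod.ext rfl (Subtype.ext (mul_left_cancel h'))
    · rintro ⟨p, hp⟩
      obtain ⟨v, hv⟩ := T.cover p hp
      exact ⟨⟨v, ⟨_, hv⟩⟩, Subtype.ext (mul_inv_cancel_left _ _)⟩
  rw [← Nat.card_eq_of_bijective _ hbij, Nat.card_prod, Nat.card_fun, Nat.card_zmod, Nat.card_fin]
  norm_num

/-- The general properties of a perfect group over `L3` of sectional rank four. -/
structure Cover (π : X →* L3) : Prop where
  surj : Function.Surjective π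
  pgroup : IsPGroup 2 π.ker
  perfect : commutator X = ⊤
  rank : Cfsg.SectionalPRankLE 2 4 X

theorem Cover.quotient (C : Cover π) (N : Subgroup X) [N.Normal] (hN : N ≤ π.ker) :
    Cover (QuotientGroup.lift N π hN) := by
  have hs := QuotientGroup.mk'_surjective N
  refine ⟨fun g => ?_, ?_, ?_, RankFive.rank_of_surjective C.rank _ hs⟩
  · obtain ⟨x, hx⟩ := C.surj g
    exact ⟨x, hx⟩
  · rw [QuotientGroup.ker_lift]
    exact C.pgroup.map _
  · have h := Subgroup.map_commutator (⊤ : Subgroup X) ⊤ (QuotientGroup.mk' N)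
    rw [Subgroup.map_top_of_surjective _ hs] at h
    show commutator (X ⧸ N) = ⊤
    rw [commutator_def, ← h, ← commutator_def, C.perfect, Subgroup.map_top_of_surjective _ hs]

theorem Top.map {P B : Subgroup X} {s : V3 → X} (T : Top π P B s) (N : Subgroup X) [N.Normal]
    (hN : N ≤ π.ker) (hNB : N ≤ B) :
    Top (QuotientGroup.lift N π hN) (P.map (QuotientGroup.mk' N)) (B.map (QuotientGroup.mk' N))
      (fun v => QuotientGroup.mk' N (s v)) := by
  have hback : ∀ u : X, QuotientGroup.mk' N u ∈ B.map (QuotientGroup.mk' N) → u ∈ B := by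
    rintro u ⟨b, hb, hbu⟩
    have := mul_mem hb (hNB (QuotientGroup.eq.1 hbu))
    rwa [mul_inv_cancel_left] at this
  refine ⟨Subgroup.map_mono T.le, fun v => Subgroup.mem_map_of_mem _ (T.mem v), ?_, ?_, ?_, ?_⟩
  · rintro _ ⟨p, hp, rfl⟩
    obtain ⟨v, hv⟩ := T.cover p hp
    exact ⟨v, by rw [← map_inv, ← map_mul]; exact Subgroup.mem_map_of_mem _ hv⟩
  · intro v w h
    rw [← map_inv, ← map_mul] at h
    exact T.sep v w (hback _ h)
  · intro v w
    simp only [← map_mul, ← map_inv]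
    exact Subgroup.mem_map_of_mem _ (T.add v w)
  · intro x v
    obtain ⟨x, rfl⟩ := QuotientGroup.mk'_surjective N x
    simp only [← map_mul, ← map_inv]
    exact Subgroup.mem_map_of_mem _ (T.act x v)

theorem Top.comap {N : Subgroup X} [N.Normal] {ρ : X ⧸ N →* L3} {P B : Subgroup (X ⧸ N)}
    {s : V3 → X ⧸ N} (T : Top ρ P B s) :
    Top (ρ.comp (QuotientGroup.mk' N)) (P.comap (QuotientGroup.mk' N))
      (B.comap (QuotientGroup.mk' N)) (fun v => (s v).out) := by
  have h : ∀ y : X ⧸ N, QuotientGroup.mk' N y.out = y := fun y => QuotientGroup.out_eq' y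
  refine ⟨Subgroup.comap_mono T.le, fun v => ?_, fun p hp => ?_, fun v w hvw => ?_, fun v w => ?_,
    fun x v => ?_⟩
  · rw [Subgroup.mem_comap, h]; exact T.mem v
  · obtain ⟨v, hv⟩ := T.cover _ hp
    exact ⟨v, by rw [Subgroup.mem_comap, map_mul, map_inv, h]; exact hv⟩
  · rw [Subgroup.mem_comap, map_mul, map_inv, h, h] at hvw
    exact T.sep v w hvw
  · simp only [Subgroup.mem_comap, map_mul, map_inv, h]
    exact T.add v w
  · simp only [Subgroup.mem_comap, map_mul, map_inv, h, MonoidHom.comp_apply]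
    exact T.act _ v

theorem eq_zero_of_fixed : ∀ v : V3, gT.1 *ᵥ v = v → gP.1 *ᵥ v = v → v = 0 := by decide +kernel

/-- An element commuting modulo a central subgroup with everything is central. -/
theorem central_of_series (hperf : commutator X = ⊤) {M : Subgroup X}
    (hM : ∀ m ∈ M, ∀ x : X, x * m = m * x) {q : X} (hq : ∀ x, x * q * x⁻¹ * q⁻¹ ∈ M) :
    ∀ x, x * q = q * x := by
  letI : CommGroup M := { (inferInstance : Group M) with
    mul_comm := fun a b => Subtype.ext (hM b b.2 a) }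
  let f : X →* M :=
    { toFun := fun x => ⟨x * q * x⁻¹ * q⁻¹, hq x⟩
      map_one' := Subtype.ext (by simp)
      map_mul' := fun x y => Subtype.ext (by
        show x * y * q * (x * y)⁻¹ * q⁻¹ = x * q * x⁻¹ * q⁻¹ * (y * q * y⁻¹ * q⁻¹)
        rw [show x * y * q * (x * y)⁻¹ * q⁻¹ = x * (y * q * y⁻¹ * q⁻¹) * q * x⁻¹ * q⁻¹ by group,
          hM _ (hq y) x]
        have := hM _ (hq y) (x * q * x⁻¹ * q⁻¹)
        rw [this]; group) }
  intro x
  have h : x ∈ f.ker := (Abelianization.commutator_subset_ker f) (hperf ▸ Subgroup.mem_top x)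
  have h' : x * q * x⁻¹ * q⁻¹ = 1 := congrArg Subtype.val (MonoidHom.mem_ker.1 h)
  exact mul_inv_eq_iff_eq_mul.1 (mul_inv_eq_one.1 h')

/-- Two homomorphisms on `V3` agreeing on a basis agree. -/
theorem hom_ext3 {G : Type*} [Group G] {f g : V3 → G} (hf : ∀ v w, f (v + w) = f v * f w)
    (hg : ∀ v w, g (v + w) = g v * g w) (h0 : f ![1, 0, 0] = g ![1, 0, 0])
    (h1 : f ![0, 1, 0] = g ![0, 1, 0]) (h2 : f ![0, 0, 1] = g ![0, 0, 1]) : ∀ v, f v = g v := by
  have key : ∀ v : V3, v = 0 ∨ v = ![1, 0, 0] ∨ v = ![0, 1, 0] ∨ v = ![0, 0, 1] ∨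
      v = ![1, 0, 0] + ![0, 1, 0] ∨ v = ![1, 0, 0] + ![0, 0, 1] ∨ v = ![0, 1, 0] + ![0, 0, 1] ∨
      v = ![1, 0, 0] + ![0, 1, 0] + ![0, 0, 1] := by decide +kernel
  intro v
  rcases key v with rfl | rfl | rfl | rfl | rfl | rfl | rfl | rfl
  · have a := hf 0 0; have b := hg 0 0
    rw [add_zero] at a b
    rw [left_eq_mul.1 a, left_eq_mul.1 b]
  all_goals simp only [hf, hg, h0, h1, h2]

/-- An invariant linear map with fixed values is trivial. -/
theorem invariant_linear_trivial {G : Type*} [Group G] (f : V3 → G)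
    (hadd : ∀ v w, f (v + w) = f v * f w)
    (hinv : ∀ x y : V3, y ⬝ᵥ x = 0 → ∀ v, f (v + (y ⬝ᵥ v) • x) = f v) : ∀ v, f v = 1 := by
  have hsame : ∀ v w, v ≠ 0 → w ≠ 0 → f v = f w := fun v w hv hw => by
    rcases transitive v w hv hw with rfl | ⟨a, b, hab, rfl⟩
    · rfl
    · exact (hinv a b hab v).symm
  have h1 : f e0 = 1 := by
    have h := hadd e0 ![0, 1, 0]
    rw [hsame (e0 + ![0, 1, 0]) e0 (by decide) (by decide),
      hsame ![0, 1, 0] e0 (by decide) (by decide)] at h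
    exact left_eq_mul.1 h
  intro v
  by_cases hv : v = 0
  · subst hv
    have h := hadd 0 0
    rw [add_zero] at h
    exact left_eq_mul.1 h
  · rw [hsame v e0 hv (by decide), h1]

theorem indep_third : ∀ a c : V3, a ≠ 0 → c ≠ 0 → ∃ d : V3, d ≠ 0 ∧ d ≠ a ∧ d ≠ c := by
  decide +kernel

/-- An invariant symmetric function on independent pairs is constant. -/
theorem invariant_pair_const {α : Type*} (c : V3 → V3 → α) (hsymm : ∀ a b, c a b = c b a)
    (hinv : ∀ x y : V3, y ⬝ᵥ x = 0 → ∀ a b,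
      c (a + (y ⬝ᵥ a) • x) (b + (y ⬝ᵥ b) • x) = c a b) :
    ∀ a b c' d, a ≠ 0 → b ≠ 0 → b ≠ a → c' ≠ 0 → d ≠ 0 → d ≠ c' → c a b = c c' d := by
  have hmove : ∀ a b b', a ≠ 0 → b ≠ 0 → b ≠ a → b' ≠ 0 → b' ≠ a → c a b = c a b' :=
    fun a b b' ha hb hba hb' hb'a => by
      rcases stab_move a b b' ha hb hba hb' hb'a with rfl | ⟨x, y, hxy, hfa, hfb⟩
      · rfl
      · have := hinv x y hxy a b
        rw [hfa, hfb] at this
        exact this.symm
  intro a b c' d ha hb hba hc hd hdc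
  obtain ⟨u, hu, hua, huc⟩ := indep_third a c' ha hc
  by_cases hac : a = c'
  · subst hac; exact hmove a b d ha hb hba hd hdc
  · calc c a b = c a u := hmove a b u ha hb hba hu hua
      _ = c u a := hsymm _ _
      _ = c u c' := hmove u a c' hu ha (Ne.symm hua) hc (Ne.symm huc)
      _ = c c' u := hsymm _ _
      _ = c c' d := hmove c' u d hc hu huc hd hdc

theorem tv_act {P B : Subgroup X} {s : V3 → X} (T : Top π P B s) {a b : V3} (hab : b ⬝ᵥ a = 0)
    {x : X} (hx : π x = tv a b hab) (v : V3) :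
    (s (v + (b ⬝ᵥ v) • a))⁻¹ * (x * s v * x⁻¹) ∈ B := by
  have h := T.act x v
  rwa [hx, tv_mulVec] at h

/-- An extension of the natural module by a central subgroup is abelian when its commutators
square to one. -/
theorem ext_comm (C : Cover π) {P B : Subgroup X} {s : V3 → X} (T : Top π P B s)
    (hB : ∀ b ∈ B, ∀ x : X, x * b = b * x)
    (hc2 : ∀ p ∈ P, ∀ r ∈ P, p * r * p⁻¹ * r⁻¹ * (p * r * p⁻¹ * r⁻¹) = 1) :
    ∀ p ∈ P, ∀ r ∈ P, p * r = r * p := by
  have hnf : ∀ p ∈ P, ∃ v, ∃ b ∈ B, p = s v * b := fun p hp => by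
    obtain ⟨v, hv⟩ := T.cover p hp
    exact ⟨v, _, hv, (mul_inv_cancel_left _ _).symm⟩
  let c : V3 → V3 → X := fun a b => s a * s b * (s a)⁻¹ * (s b)⁻¹
  have hc : ∀ a b, ∀ y ∈ B, ∀ z ∈ B, (s a * y) * (s b * z) * (s a * y)⁻¹ * (s b * z)⁻¹ = c a b :=
    fun a b y hy z hz => by
      have h1 : y * (s b * z) = s b * z * y := (hB y hy _).symm
      have h2 := hB z hz
      calc (s a * y) * (s b * z) * (s a * y)⁻¹ * (s b * z)⁻¹
          = s a * (y * (s b * z)) * y⁻¹ * (s a)⁻¹ * (s b * z)⁻¹ := by group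
        _ = s a * s b * (z * (s a)⁻¹) * z⁻¹ * (s b)⁻¹ := by rw [h1]; group
        _ = c a b := by rw [← h2 (s a)⁻¹]; simp only [c]; group
  have hcB : ∀ a b, c a b ∈ B := fun a b => by
    have h1 := T.add a b
    have h2 := T.add b a
    rw [add_comm b a] at h2
    have e : (s (a + b))⁻¹ * (s a * s b) * ((s (a + b))⁻¹ * (s b * s a))⁻¹ =
        (s (a + b))⁻¹ * c a b * s (a + b) := by simp only [c]; group
    have h3 : (s (a + b))⁻¹ * c a b * s (a + b) ∈ B := e ▸ mul_mem h1 (inv_mem h2)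
    have h4 := hB _ h3 (s (a + b))
    have h5 : c a b = (s (a + b))⁻¹ * c a b * s (a + b) := by
      calc c a b = s (a + b) * ((s (a + b))⁻¹ * c a b * s (a + b)) * (s (a + b))⁻¹ := by group
        _ = _ := by rw [h4]; group
    rw [h5]; exact h3
  have hsymm : ∀ a b, c a b = c b a := fun a b => by
    have e : (c a b)⁻¹ = c b a := by simp only [c]; group
    rw [← e, inv_eq_of_mul_eq_one_right (hc2 _ (T.mem a) _ (T.mem b))]
  have hadd : ∀ a b d, c a (b + d) = c a b * c a d := fun a b d => by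
    have hw : ∃ w ∈ B, s b * s d = s (b + d) * w := ⟨_, T.add b d, (mul_inv_cancel_left _ _).symm⟩
    obtain ⟨w, hw, e⟩ := hw
    have h0 := hc a (b + d) 1 (one_mem _) w hw
    rw [mul_one, ← e] at h0
    rw [← h0]
    calc s a * (s b * s d) * (s a)⁻¹ * (s b * s d)⁻¹ = c a b * (s b * c a d * (s b)⁻¹) := by
          simp only [c]; group
      _ = c a b * c a d := by rw [hB _ (hcB a d) (s b), mul_inv_cancel_right]
  have hinv : ∀ x y : V3, y ⬝ᵥ x = 0 → ∀ a b,
      c (a + (y ⬝ᵥ a) • x) (b + (y ⬝ᵥ b) • x) = c a b := fun x y hxy a b => by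
    obtain ⟨g, hg⟩ := C.surj (tv x y hxy)
    have ha := tv_act T hxy hg a
    have hb := tv_act T hxy hg b
    rw [← hc _ _ _ ha _ hb, mul_inv_cancel_left, mul_inv_cancel_left,
      show g * s a * g⁻¹ * (g * s b * g⁻¹) * (g * s a * g⁻¹)⁻¹ * (g * s b * g⁻¹)⁻¹ = g * c a b * g⁻¹ by
        simp only [c]; group, hB _ (hcB a b) g, mul_inv_cancel_right]
  have hc1 : ∀ a b, c a b = 1 := fun a b => by
    by_cases ha : a = 0
    · subst ha; rw [hsymm]
      have h := hadd b 0 0
      rw [add_zero] at h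
      exact left_eq_mul.1 h
    by_cases hb : b = 0
    · subst hb
      have h := hadd a 0 0
      rw [add_zero] at h
      exact left_eq_mul.1 h
    by_cases hba : b = a
    · subst hba; simp [c]
    obtain ⟨d, hd, hda, hdb⟩ := indep_third a b ha hb
    have key : ∀ a b d : V3, d ≠ b → b ≠ a → d ≠ a → b + d ≠ 0 := by decide +kernel
    by_cases hbd : b + d = a
    · have h := hadd a b d
      rw [hbd, show c a a = 1 by simp [c]] at h
      have e := invariant_pair_const c hsymm hinv a b a d ha hb hba ha hd hda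
      have key2 : ∀ a b : V3, a ≠ 0 → b ≠ 0 → b ≠ a → ∃ d : V3, d ≠ 0 ∧ d ≠ a ∧ d ≠ b ∧ b + d ≠ a := by
        decide +kernel
      obtain ⟨d', hd', hd'a, hd'b, hbd'⟩ := key2 a b ha hb hba
      have h' := hadd a b d'
      rw [invariant_pair_const c hsymm hinv a (b + d') a b ha (key a b d' hd'b hba hd'a) hbd' ha hb hba,
        invariant_pair_const c hsymm hinv a d' a b ha hd' hd'a ha hb hba] at h'
      exact left_eq_mul.1 h'
    · have h := hadd a b d
      rw [invariant_pair_const c hsymm hinv a (b + d) a b ha (key a b d hdb hba hda) hbd ha hb hba,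
        invariant_pair_const c hsymm hinv a d a b ha hd hda ha hb hba] at h
      exact left_eq_mul.1 h
  have hcomm : ∀ p ∈ P, ∀ r ∈ P, p * r = r * p := fun p hp r hr => by
    obtain ⟨v, y, hy, rfl⟩ := hnf p hp
    obtain ⟨w, z, hz, rfl⟩ := hnf r hr
    exact mul_inv_eq_iff_eq_mul.1 (mul_inv_eq_one.1 ((hc v w y hy z hz).trans (hc1 v w)))
  exact hcomm

/-- An extension of the natural module by a central subgroup of exponent two is elementary
abelian. -/
theorem ext_trivial (C : Cover π) {P B : Subgroup X} {s : V3 → X} (T : Top π P B s)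
    (hB : ∀ b ∈ B, ∀ x : X, x * b = b * x) (hB2 : ∀ b ∈ B, b * b = 1) :
    (∀ p ∈ P, ∀ r ∈ P, p * r = r * p) ∧ ∀ p ∈ P, p * p = 1 := by
  have hnf : ∀ p ∈ P, ∃ v, ∃ b ∈ B, p = s v * b := fun p hp => by
    obtain ⟨v, hv⟩ := T.cover p hp
    exact ⟨v, _, hv, (mul_inv_cancel_left _ _).symm⟩
  have hcomm : ∀ p ∈ P, ∀ r ∈ P, p * r = r * p := ext_comm C T hB fun p hp r hr => by
    refine hB2 _ ?_
    obtain ⟨v, y, hy, rfl⟩ := hnf p hp
    obtain ⟨w, z, hz, rfl⟩ := hnf r hr
    have h1 := T.add v w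
    have h2 := T.add w v
    rw [add_comm w v] at h2
    have h3 : (s (v + w))⁻¹ * (s v * s w * (s v)⁻¹ * (s w)⁻¹) * s (v + w) ∈ B := by
      have := mul_mem h1 (inv_mem h2)
      have e : (s (v + w))⁻¹ * (s v * s w * (s v)⁻¹ * (s w)⁻¹) * s (v + w) =
          (s (v + w))⁻¹ * (s v * s w) * ((s (v + w))⁻¹ * (s w * s v))⁻¹ := by group
      rw [e]; exact this
    have h4 := hB _ h3 (s (v + w))
    have h5 : s v * s w * (s v)⁻¹ * (s w)⁻¹ ∈ B := by
      have e : s v * s w * (s v)⁻¹ * (s w)⁻¹ = (s (v + w))⁻¹ * (s v * s w * (s v)⁻¹ * (s w)⁻¹) * s (v + w) := by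
        calc _ = s (v + w) * ((s (v + w))⁻¹ * (s v * s w * (s v)⁻¹ * (s w)⁻¹) * s (v + w)) *
              (s (v + w))⁻¹ := by group
          _ = _ := by rw [h4]; group
      rw [e]; exact h3
    have h6 := hB z hz (s v)⁻¹
    have h7 := hB y hy (s w * z)
    have e : (s v * y) * (s w * z) * (s v * y)⁻¹ * (s w * z)⁻¹ = s v * s w * (s v)⁻¹ * (s w)⁻¹ := by
      calc _ = s v * (y * (s w * z)) * y⁻¹ * (s v)⁻¹ * (s w * z)⁻¹ := by group
        _ = s v * s w * (z * (s v)⁻¹) * z⁻¹ * (s w)⁻¹ := by rw [← h7]; group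
        _ = _ := by rw [← h6]; group
    rw [e]; exact h5
  refine ⟨hcomm, ?_⟩
  have hsq : ∀ a, ∀ y ∈ B, (s a * y) * (s a * y) = s a * s a := fun a y hy => by
    rw [show (s a * y) * (s a * y) = s a * (y * s a) * y by group, ← hB y hy,
      show s a * (s a * y) * y = s a * s a * (y * y) by group, hB2 y hy, mul_one]
  have hlin := invariant_linear_trivial (fun a => s a * s a)
    (fun v w => by
      show s (v + w) * s (v + w) = s v * s v * (s w * s w)
      have := hsq (v + w) _ (T.add v w)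
      rw [mul_inv_cancel_left] at this
      rw [← this, mul_assoc, ← mul_assoc (s w), hcomm _ (T.mem w) _ (T.mem v)]
      simp only [mul_assoc])
    (fun x y hxy v => by
      show s (v + (y ⬝ᵥ v) • x) * s (v + (y ⬝ᵥ v) • x) = s v * s v
      obtain ⟨g, hg⟩ := C.surj (tv x y hxy)
      have := hsq (v + (y ⬝ᵥ v) • x) _ (tv_act T hxy hg v)
      rw [mul_inv_cancel_left] at this
      rw [← this]
      have hv : s v * s v ∈ B := by
        have h := T.add v v
        rw [show v + v = 0 by funext i; exact CharTwo.add_self_eq_zero _] at h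
        have := mul_mem T.zero h
        rwa [mul_inv_cancel_left] at this
      calc g * s v * g⁻¹ * (g * s v * g⁻¹) = g * (s v * s v) * g⁻¹ := by group
        _ = s v * s v := by rw [hB _ hv g, mul_inv_cancel_right])
  intro p hp
  obtain ⟨v, y, hy, rfl⟩ := hnf p hp
  rw [hsq v y hy]
  exact hlin v

/-- Two ranks: an elementary abelian subgroup has order at most sixteen. -/
theorem card_elem_le (h4 : Cfsg.SectionalPRankLE 2 4 X) (P : Subgroup X)
    (hP : ∀ p ∈ P, p * p = 1) : Nat.card P ≤ 16 := by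
  have := RankFourA5.card_section_le h4 P ⊥ bot_le
    (fun m _ f hf => by rw [Subgroup.mem_bot.1 hf, mul_one, mul_inv_cancel]; exact one_mem _)
    (fun m hm => by rw [hP m hm]; exact one_mem _)
  rwa [Subgroup.card_bot, mul_one] at this

/-- Commutators and squares from the natural module into a module of order eight. -/
theorem quad (C : Cover π) {Z M : Subgroup X} {s : V3 → X} (T : Top π π.ker Z s) (hMZ : M ≤ Z)
    [M.Normal] (hMcard : Nat.card M = 8) (hZc : ∀ z ∈ Z, ∀ q ∈ π.ker, q * z = z * q)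
    (hZ2 : ∀ z ∈ Z, z * z = 1) (hsqM : ∀ q ∈ π.ker, q * q ∈ M)
    (hcomM : ∀ p ∈ π.ker, ∀ r ∈ π.ker, p * r * p⁻¹ * r⁻¹ ∈ M) :
    (∀ p ∈ π.ker, ∀ r ∈ π.ker, p * r = r * p) ∧
      ((∀ p ∈ π.ker, p * p = 1) ∨ ∀ p ∈ π.ker, p * p = 1 → p ∈ Z) := by
  have hM2 : ∀ m ∈ M, m * m = 1 := fun m hm => hZ2 m (hMZ hm)
  have hMc : ∀ m ∈ M, ∀ q ∈ π.ker, q * m = m * q := fun m hm => hZc m (hMZ hm)
  have hMQ : M ≤ π.ker := hMZ.trans T.le
  have hnf : ∀ p ∈ π.ker, ∃ v, ∃ b ∈ Z, p = s v * b := fun p hp => by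
    obtain ⟨v, hv⟩ := T.cover p hp
    exact ⟨v, _, hv, (mul_inv_cancel_left _ _).symm⟩
  let c : V3 → V3 → X := fun a b => s a * s b * (s a)⁻¹ * (s b)⁻¹
  have hcmem : ∀ a b, c a b ∈ M := fun a b => hcomM _ (T.mem a) _ (T.mem b)
  have hc : ∀ a b, ∀ y ∈ Z, ∀ z ∈ Z, (s a * y) * (s b * z) * (s a * y)⁻¹ * (s b * z)⁻¹ = c a b :=
    fun a b y hy z hz => by
      have h1 : y * (s b * z) = s b * z * y := (hZc y hy _ (mul_mem (T.mem b) (T.le hz))).symm
      have h2 := hZc z hz _ (inv_mem (T.mem a))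
      calc (s a * y) * (s b * z) * (s a * y)⁻¹ * (s b * z)⁻¹
          = s a * (y * (s b * z)) * y⁻¹ * (s a)⁻¹ * (s b * z)⁻¹ := by group
        _ = s a * s b * (z * (s a)⁻¹) * z⁻¹ * (s b)⁻¹ := by rw [h1]; group
        _ = c a b := by rw [← h2]; simp only [c]; group
  have hsymm : ∀ a b, c a b = c b a := fun a b => by
    have e : (c a b)⁻¹ = c b a := by simp only [c]; group
    rw [← e, inv_eq_of_mul_eq_one_right (hM2 _ (hcmem a b))]
  have hadd : ∀ a b d, c a (b + d) = c a b * c a d := fun a b d => by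
    have h0 := hc a (b + d) 1 (one_mem _) _ (T.add b d)
    rw [mul_one, mul_inv_cancel_left] at h0
    rw [← h0]
    calc s a * (s b * s d) * (s a)⁻¹ * (s b * s d)⁻¹ = c a b * (s b * c a d * (s b)⁻¹) := by
          simp only [c]; group
      _ = c a b * c a d := by rw [hMc _ (hcmem a d) _ (T.mem b), mul_inv_cancel_right]
  have hMcomm : ∀ u ∈ M, ∀ w ∈ M, u * w = w * u := fun u hu w hw => hMc w hw u (hMQ hu)
  have hinvc : ∀ (x : X) (a b : V3), c ((π x).1 *ᵥ a) ((π x).1 *ᵥ b) = x * c a b * x⁻¹ := fun x a b => by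
    rw [← hc _ _ _ (T.act x a) _ (T.act x b), mul_inv_cancel_left, mul_inv_cancel_left]
    simp only [c]; group
  -- the induced map on the cross product
  let Φ : V3 → X := fun n => c ![0, 1, 0] ![0, 0, 1] ^ (n 0).val * c ![0, 0, 1] ![1, 0, 0] ^ (n 1).val *
    c ![1, 0, 0] ![0, 1, 0] ^ (n 2).val
  have hΦM : ∀ n, Φ n ∈ M := fun n =>
    mul_mem (mul_mem (pow_mem (hcmem _ _) _) (pow_mem (hcmem _ _) _)) (pow_mem (hcmem _ _) _)
  have hpw : ∀ u ∈ M, ∀ a b : ZMod 2, u ^ (a + b).val = u ^ a.val * u ^ b.val := fun u hu a b => by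
    rw [← pow_add, ZMod.val_add, ← pow_eq_pow_mod _ (by rw [pow_two, hM2 u hu] : u ^ 2 = 1)]
  have hΦadd : ∀ n m, Φ (n + m) = Φ n * Φ m := fun n m => by
    simp only [Φ, Pi.add_apply, hpw _ (hcmem _ _)]
    letI : CommGroup M := { (inferInstance : Group M) with
      mul_comm := fun a b => Subtype.ext (hMcomm a a.2 b b.2) }
    have := congrArg Subtype.val (show
      (⟨_, hcmem ![0, 1, 0] ![0, 0, 1]⟩ : M) ^ (n 0).val * ⟨_, hcmem ![0, 1, 0] ![0, 0, 1]⟩ ^ (m 0).val *
      (⟨_, hcmem ![0, 0, 1] ![1, 0, 0]⟩ ^ (n 1).val * ⟨_, hcmem ![0, 0, 1] ![1, 0, 0]⟩ ^ (m 1).val) *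
      (⟨_, hcmem ![1, 0, 0] ![0, 1, 0]⟩ ^ (n 2).val * ⟨_, hcmem ![1, 0, 0] ![0, 1, 0]⟩ ^ (m 2).val) =
      ⟨_, hcmem ![0, 1, 0] ![0, 0, 1]⟩ ^ (n 0).val * ⟨_, hcmem ![0, 0, 1] ![1, 0, 0]⟩ ^ (n 1).val *
      ⟨_, hcmem ![1, 0, 0] ![0, 1, 0]⟩ ^ (n 2).val *
      ((⟨_, hcmem ![0, 1, 0] ![0, 0, 1]⟩ : M) ^ (m 0).val * ⟨_, hcmem ![0, 0, 1] ![1, 0, 0]⟩ ^ (m 1).val *
      ⟨_, hcmem ![1, 0, 0] ![0, 1, 0]⟩ ^ (m 2).val) by ac_rfl)
    simpa using this
  have hself : ∀ a, c a a = 1 := fun a => by simp [c]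
  have hΦc : ∀ a b, c a b = Φ (cross a b) := by
    have hcr : ∀ a b d, cross a (b + d) = cross a b + cross a d := by decide +kernel
    have hcr' : ∀ a b, cross a b = cross b a := by decide +kernel
    have hright : ∀ a, (∀ j : Fin 3, c a (Pi.single j 1) = Φ (cross a (Pi.single j 1))) →
        ∀ b, c a b = Φ (cross a b) := fun a h =>
      hom_ext3 (hadd a) (fun v w => by rw [hcr, hΦadd])
        (by rw [show (![1, 0, 0] : V3) = Pi.single 0 1 by decide]; exact h 0)
        (by rw [show (![0, 1, 0] : V3) = Pi.single 1 1 by decide]; exact h 1)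
        (by rw [show (![0, 0, 1] : V3) = Pi.single 2 1 by decide]; exact h 2)
    have hbase : ∀ i j : Fin 3, c (Pi.single i 1) (Pi.single j 1) =
        Φ (cross (Pi.single i 1) (Pi.single j 1)) := by
      intro i j
      have hz : Φ 0 = 1 := by simp [Φ]
      fin_cases i <;> fin_cases j
      case «0».«0» => rw [hself, show cross _ _ = (0 : V3) from by decide, hz]
      case «1».«1» => rw [hself, show cross _ _ = (0 : V3) from by decide, hz]
      case «2».«2» => rw [hself, show cross _ _ = (0 : V3) from by decide, hz]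
      case «0».«1» =>
        rw [show cross _ _ = (![0, 0, 1] : V3) from by decide]
        simp [Φ, ZMod.val_one, show (Pi.single (0 : Fin 3) (1 : ZMod 2) : V3) = ![1, 0, 0] by decide,
          show (Pi.single (1 : Fin 3) (1 : ZMod 2) : V3) = ![0, 1, 0] by decide]
      case «1».«0» =>
        rw [show cross _ _ = (![0, 0, 1] : V3) from by decide, hsymm]
        simp [Φ, ZMod.val_one, show (Pi.single (0 : Fin 3) (1 : ZMod 2) : V3) = ![1, 0, 0] by decide,
          show (Pi.single (1 : Fin 3) (1 : ZMod 2) : V3) = ![0, 1, 0] by decide]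
      case «1».«2» =>
        rw [show cross _ _ = (![1, 0, 0] : V3) from by decide]
        simp [Φ, ZMod.val_one, show (Pi.single (1 : Fin 3) (1 : ZMod 2) : V3) = ![0, 1, 0] by decide,
          show (Pi.single (2 : Fin 3) (1 : ZMod 2) : V3) = ![0, 0, 1] by decide]
      case «2».«1» =>
        rw [show cross _ _ = (![1, 0, 0] : V3) from by decide, hsymm]
        simp [Φ, ZMod.val_one, show (Pi.single (1 : Fin 3) (1 : ZMod 2) : V3) = ![0, 1, 0] by decide,
          show (Pi.single (2 : Fin 3) (1 : ZMod 2) : V3) = ![0, 0, 1] by decide]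
      case «2».«0» =>
        rw [show cross _ _ = (![0, 1, 0] : V3) from by decide]
        simp [Φ, ZMod.val_one, show (Pi.single (0 : Fin 3) (1 : ZMod 2) : V3) = ![1, 0, 0] by decide,
          show (Pi.single (2 : Fin 3) (1 : ZMod 2) : V3) = ![0, 0, 1] by decide]
      case «0».«2» =>
        rw [show cross _ _ = (![0, 1, 0] : V3) from by decide, hsymm]
        simp [Φ, ZMod.val_one, show (Pi.single (0 : Fin 3) (1 : ZMod 2) : V3) = ![1, 0, 0] by decide,
          show (Pi.single (2 : Fin 3) (1 : ZMod 2) : V3) = ![0, 0, 1] by decide]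
    intro a b
    refine hright a (fun j => ?_) b
    rw [hsymm, hcr']
    exact hright _ (fun i => hbase j i) a
  have hΦinv : ∀ x y : V3, y ⬝ᵥ x = 0 → ∃ g : X, π g = (1 : L3) * π g ∧ (∀ v, (π g).1 *ᵥ v = v + (y ⬝ᵥ v) • x) ∧
      ∀ n, Φ (n + (x ⬝ᵥ n) • y) = g * Φ n * g⁻¹ := fun x y hxy => by
    obtain ⟨g, hg⟩ := C.surj (tv x y hxy)
    refine ⟨g, (one_mul _).symm, fun v => by rw [hg, tv_mulVec], fun n => ?_⟩
    obtain ⟨a, b, rfl⟩ := cross_surj n
    rw [← cross_tv x y hxy, ← hΦc, ← hΦc, ← hinvc, hg, tv_mulVec, tv_mulVec]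
  have hΦ1 : ∀ n, Φ n = 1 := by
    by_contra hne
    push Not at hne
    obtain ⟨n₀, hn₀⟩ := hne
    have hz : Φ 0 = 1 := by simp [Φ]
    have hinj : ∀ n, Φ n = 1 → n = 0 := fun n hn => by
      by_contra hn0
      refine hn₀ ?_
      by_cases h0 : n₀ = 0
      · rw [h0, hz]
      rcases transitive n n₀ hn0 h0 with rfl | ⟨a, b, hab, rfl⟩
      · exact hn
      · obtain ⟨g, -, -, hg⟩ := hΦinv b a (by rw [dotProduct_comm]; exact hab)
        rw [hg, hn, mul_one, mul_inv_cancel]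
    have hbij : Function.Bijective (fun n => (⟨Φ n, hΦM n⟩ : M)) := by
      refine (Nat.bijective_iff_injective_and_card _).2 ⟨fun n m h => ?_, by
        rw [hMcard, Nat.card_fun, Nat.card_zmod, Nat.card_fin]; norm_num⟩
      have h' : Φ n = Φ m := congrArg Subtype.val h
      have e := hinj (n + m) (by rw [hΦadd, h', hM2 _ (hΦM m)])
      have key : ∀ n m : V3, n + m = 0 → n = m := by decide +kernel
      exact key n m e
    have hsq : ∀ v, s v * s v = 1 := fun v => by
      by_cases hv : v = 0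
      · subst hv; exact hZ2 _ T.zero
      obtain ⟨f, hf⟩ := hbij.2 ⟨_, hsqM _ (T.mem v)⟩
      have hf' : Φ f = s v * s v := congrArg Subtype.val hf
      by_cases hf0 : f = 0
      · rw [← hf', hf0, hz]
      exfalso
      obtain ⟨x, y, hxy, hfix, hmove⟩ := stab_dual v f hv hf0
      obtain ⟨g, -, hgv, hg⟩ := hΦinv x y hxy
      refine hmove ?_
      have hB := T.act g v
      rw [hgv, hfix] at hB
      have e : g * (s v * s v) * g⁻¹ = s v * s v := by
        have e1 : g * s v * g⁻¹ = s v * ((s v)⁻¹ * (g * s v * g⁻¹)) := (mul_inv_cancel_left _ _).symm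
        have hz' := hZc _ hB _ (T.mem v)
        calc g * (s v * s v) * g⁻¹ = (g * s v * g⁻¹) * (g * s v * g⁻¹) := by group
          _ = s v * (((s v)⁻¹ * (g * s v * g⁻¹)) * s v) * ((s v)⁻¹ * (g * s v * g⁻¹)) := by
            rw [e1]; group
          _ = s v * s v * (((s v)⁻¹ * (g * s v * g⁻¹)) * ((s v)⁻¹ * (g * s v * g⁻¹))) := by
            rw [← hz']; group
          _ = s v * s v := by rw [hZ2 _ hB, mul_one]
      rw [← hf', ← hg] at e
      exact congrArg id (hbij.1 (Subtype.ext (e.trans rfl) : (⟨_, hΦM _⟩ : M) = ⟨_, hΦM _⟩))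
    refine hn₀ ?_
    obtain ⟨a, b, rfl⟩ := cross_surj n₀
    rw [← hΦc]
    show s a * s b * (s a)⁻¹ * (s b)⁻¹ = 1
    rw [inv_eq_of_mul_eq_one_right (hsq a), inv_eq_of_mul_eq_one_right (hsq b)]
    have hab : (s (a + b))⁻¹ * (s a * s b) ∈ Z := T.add a b
    have hz' := hZc _ hab _ (T.mem (a + b))
    calc s a * s b * s a * s b = s (a + b) * (((s (a + b))⁻¹ * (s a * s b)) * s (a + b)) *
          ((s (a + b))⁻¹ * (s a * s b)) := by group
      _ = s (a + b) * s (a + b) * (((s (a + b))⁻¹ * (s a * s b)) * ((s (a + b))⁻¹ * (s a * s b))) := by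
          rw [← hz']; group
      _ = 1 := by rw [hsq, one_mul, hZ2 _ hab]
  have hcomm : ∀ p ∈ π.ker, ∀ r ∈ π.ker, p * r = r * p := fun p hp r hr => by
    obtain ⟨v, y, hy, rfl⟩ := hnf p hp
    obtain ⟨w, z, hz, rfl⟩ := hnf r hr
    exact mul_inv_eq_iff_eq_mul.1
      (mul_inv_eq_one.1 ((hc v w y hy z hz).trans ((hΦc v w).trans (hΦ1 _))))
  refine ⟨hcomm, ?_⟩
  have hsqz : ∀ v, ∀ y ∈ Z, (s v * y) * (s v * y) = s v * s v := fun v y hy => by
    rw [show (s v * y) * (s v * y) = s v * (y * s v) * y by group, ← hZc y hy _ (T.mem v),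
      show s v * (s v * y) * y = s v * s v * (y * y) by group, hZ2 y hy, mul_one]
  by_cases hk : ∃ v ≠ 0, s v * s v = 1
  · left
    obtain ⟨v, hv, hv1⟩ := hk
    have hall : ∀ w, s w * s w = 1 := fun w => by
      by_cases hw : w = 0
      · subst hw; exact hZ2 _ T.zero
      rcases transitive v w hv hw with rfl | ⟨a, b, hab, rfl⟩
      · exact hv1
      · obtain ⟨g, hg⟩ := C.surj (tv a b hab)
        have h := hsqz (v + (b ⬝ᵥ v) • a) _ (tv_act T hab hg v)
        rw [mul_inv_cancel_left] at h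
        rw [← h, show g * s v * g⁻¹ * (g * s v * g⁻¹) = g * (s v * s v) * g⁻¹ by group, hv1, mul_one,
          mul_inv_cancel]
    intro p hp
    obtain ⟨w, y, hy, rfl⟩ := hnf p hp
    rw [hsqz w y hy, hall]
  · right
    intro p hp hp1
    obtain ⟨w, y, hy, rfl⟩ := hnf p hp
    rw [hsqz w y hy] at hp1
    by_cases hw : w = 0
    · subst hw; exact mul_mem T.zero hy
    · exact absurd ⟨w, hw, hp1⟩ hk

/-- Coordinates on a homocyclic section above the natural module. -/
theorem exists_coord (Y M : Subgroup X) [Y.Normal] {s : V3 → X} (T : Top π Y M s)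
    (hMcard : Nat.card M = 8) (hY : ∀ p ∈ Y, ∀ r ∈ Y, p * r = r * p) (hM2 : ∀ m ∈ M, m * m = 1)
    (hsqM : ∀ p ∈ Y, p * p ∈ M) (hinj : ∀ p ∈ Y, p * p = 1 → p ∈ M) :
    ∃ (e : V4 → X) (A : X → Mat4), Coord π e A ∧ (∀ q, q ∈ Y ↔ ∃ v, q = e v) ∧
      ∀ v, (s (fun i => red (v i)))⁻¹ * e v ∈ M := by
  let b : Fin 3 → X := fun i => s (Pi.single i 1)
  have hb4 : ∀ i, b i ^ 4 = 1 := fun i => by
    rw [show b i ^ 4 = b i * b i * (b i * b i) by simp [pow_succ, mul_assoc]]
    exact hM2 _ (hsqM _ (T.mem _))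
  let e : V4 → X := fun v => b 0 ^ (v 0).val * b 1 ^ (v 1).val * b 2 ^ (v 2).val
  have hbY : ∀ i, b i ∈ Y := fun i => T.mem _
  have heY : ∀ v, e v ∈ Y := fun v =>
    mul_mem (mul_mem (pow_mem (hbY _) _) (pow_mem (hbY _) _)) (pow_mem (hbY _) _)
  letI : CommGroup Y := { (inferInstance : Group Y) with
    mul_comm := fun a b => Subtype.ext (hY a a.2 b b.2) }
  have hpow : ∀ i (a c : ZMod 4), b i ^ (a + c).val = b i ^ a.val * b i ^ c.val := fun i a c => by
    rw [← pow_add, ZMod.val_add, ← pow_eq_pow_mod _ (hb4 i)]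
  have hadd : ∀ v w, e (v + w) = e v * e w := fun v w => by
    simp only [e, Pi.add_apply, hpow]
    have := congrArg Subtype.val (show
      (⟨b 0, hbY 0⟩ : Y) ^ (v 0).val * ⟨b 0, hbY 0⟩ ^ (w 0).val *
        (⟨b 1, hbY 1⟩ ^ (v 1).val * ⟨b 1, hbY 1⟩ ^ (w 1).val) *
        (⟨b 2, hbY 2⟩ ^ (v 2).val * ⟨b 2, hbY 2⟩ ^ (w 2).val) =
      ⟨b 0, hbY 0⟩ ^ (v 0).val * ⟨b 1, hbY 1⟩ ^ (v 1).val * ⟨b 2, hbY 2⟩ ^ (v 2).val *
        ((⟨b 0, hbY 0⟩ : Y) ^ (w 0).val * ⟨b 1, hbY 1⟩ ^ (w 1).val * ⟨b 2, hbY 2⟩ ^ (w 2).val) by ac_rfl)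
    simpa using this
  have he0 : e 0 = 1 := by simp [e]
  -- `e` agrees with `s` modulo `M`
  have hMn : ∀ p ∈ Y, ∀ m ∈ M, p * m = m * p := fun p hp m hm => hY p hp m (T.le hm)
  let mk : V4 → Prop := fun v => (s (fun i => red (v i)))⁻¹ * e v ∈ M
  have hred : ∀ v w, mk v → mk w → mk (v + w) := fun v w hv hw => by
    have hr : (fun i => red ((v + w) i)) = (fun i => red (v i)) + fun i => red (w i) :=
      funext fun i => red_add _ _
    show (s _)⁻¹ * e (v + w) ∈ M
    rw [hr, hadd]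
    set p := fun i => red (v i)
    set r := fun i => red (w i)
    have := mul_mem (mul_mem (T.add p r) hv) hw
    rw [show (s (p + r))⁻¹ * (s p * s r) * ((s p)⁻¹ * e v) * ((s r)⁻¹ * e w) =
        (s (p + r))⁻¹ * s p * (s r * ((s p)⁻¹ * e v)) * ((s r)⁻¹ * e w) by group,
      hMn _ (T.mem r) _ hv] at this
    rw [show (s (p + r))⁻¹ * (e v * e w) =
        (s (p + r))⁻¹ * s p * ((s p)⁻¹ * e v * s r) * ((s r)⁻¹ * e w) by group]
    exact this
  have hmk : ∀ v, mk v := by
    have hbase : ∀ i, mk (Pi.single i 1) := fun i => by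
      show (s _)⁻¹ * e _ ∈ M
      have hr : (fun j => red ((Pi.single i 1 : V4) j)) = (Pi.single i 1 : V3) := by
        revert i; decide
      rw [hr, show e (Pi.single i 1) = b i by fin_cases i <;> simp [e, show ((1 : ZMod 4)).val = 1 from rfl],
        inv_mul_cancel]
      exact one_mem _
    have hzero : mk 0 := by
      show (s _)⁻¹ * e 0 ∈ M
      rw [he0, mul_one, show (fun i => red ((0 : V4) i)) = (0 : V3) by decide]
      exact inv_mem T.zero
    have hmul : ∀ (i : Fin 3) (n : ℕ), mk (n • Pi.single i 1) := fun i n => by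
      induction n with
      | zero => rw [zero_smul]; exact hzero
      | succ n ih => rw [succ_nsmul]; exact hred _ _ ih (hbase i)
    intro v
    have hv : v = (v 0).val • Pi.single 0 1 + (v 1).val • Pi.single 1 1 + (v 2).val • Pi.single 2 1 := by
      have key : ∀ a : ZMod 4, a.val • (1 : ZMod 4) = a := by decide
      funext j
      simp only [Pi.add_apply, Pi.smul_apply, Pi.single_apply]
      fin_cases j <;> simp [key, -nsmul_eq_mul]
    rw [hv]
    exact hred _ _ (hred _ _ (hmul _ _) (hmul _ _)) (hmul _ _)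
  have hker : ∀ v, e v = 1 → v = 0 := by
    intro v hv
    have hr : (fun i => red (v i)) = 0 := (T.sep 0 _ (by
      have h1 := hmk v
      simp only [mk, hv, mul_one] at h1
      exact mul_mem (inv_mem T.zero) (inv_mem_iff.1 h1))).symm
    obtain ⟨w, rfl⟩ : ∃ w, v = w + w := by
      have key : ∀ a : ZMod 4, ∃ c, red a = 0 → a = c + c := by decide
      choose c hc using key
      exact ⟨fun i => c (v i), funext fun i => hc _ (congrFun hr i)⟩
    rw [hadd] at hv
    have hw := hinj _ (heY w) hv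
    have hrw : (fun i => red (w i)) = 0 := (T.sep 0 _ (by
      refine mul_mem (inv_mem T.zero) ?_
      have := mul_mem hw (inv_mem (hmk w))
      rwa [_root_.mul_inv_rev, inv_inv, mul_inv_cancel_left] at this)).symm
    funext i
    have key : ∀ a : ZMod 4, red a = 0 → a + a = 0 := by decide
    exact key _ (congrFun hrw i)
  have heinj : Function.Injective e := fun v w h => by
    have h' := hker (v + -w) (by rw [hadd, h, ← hadd, add_neg_cancel, he0])
    exact add_neg_eq_zero.1 h'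
  have hbij : Function.Bijective (fun v => (⟨e v, heY v⟩ : Y)) :=
    (Nat.bijective_iff_injective_and_card _).2
      ⟨fun v w h => heinj (congrArg Subtype.val h), by
        rw [T.card, hMcard, Nat.card_fun, Nat.card_zmod, Nat.card_fin]; norm_num⟩
  have hrange : ∀ q, q ∈ Y ↔ ∃ v, q = e v := fun q => ⟨fun hq => by
    obtain ⟨v, hv⟩ := hbij.2 ⟨q, hq⟩
    exact ⟨v, (congrArg Subtype.val hv).symm⟩, by rintro ⟨v, rfl⟩; exact heY v⟩
  have hcol : ∀ (x : X) (j : Fin 3), ∃ u : V4, x * b j * x⁻¹ = e u := fun x j =>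
    (hrange _).1 (Subgroup.Normal.conj_mem inferInstance _ (hbY j) x)
  choose u hu using hcol
  let A : X → Mat4 := fun x => fun i j => u x j i
  have hact : ∀ x v, x * e v * x⁻¹ = e (A x *ᵥ v) := by
    intro x v
    have hsmul : ∀ (n : ℕ) (w : V4), e (n • w) = e w ^ n := fun n w => by
      induction n with
      | zero => rw [zero_smul, he0, pow_zero]
      | succ n ih => rw [succ_nsmul, hadd, ih, pow_succ]
    have hA : A x *ᵥ v = (v 0).val • u x 0 + (v 1).val • u x 1 + (v 2).val • u x 2 := by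
      funext i
      simp only [A, Matrix.mulVec, dotProduct, Fin.sum_univ_three, Pi.add_apply, Pi.smul_apply]
      have key : ∀ a b : ZMod 4, a.val • b = b * a := by decide
      simp only [key]
    rw [hA, hadd, hadd, hsmul, hsmul, hsmul, ← hu, ← hu, ← hu, conj_pow, conj_pow, conj_pow]
    simp only [e]; group
  refine ⟨e, A, ⟨hadd, heinj, hact, fun x i j => ?_⟩, hrange, hmk⟩
  have h1 : (s ((π x).1 *ᵥ Pi.single j 1))⁻¹ * (x * b j * x⁻¹) ∈ M := T.act x _
  rw [hu] at h1
  have h2 := hmk (u x j)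
  have h3 : (π x).1 *ᵥ Pi.single j 1 = fun i => red (u x j i) := T.sep _ _ (by
    have := mul_mem h1 (inv_mem h2)
    rwa [_root_.mul_inv_rev, inv_inv, mul_assoc, mul_inv_cancel_left] at this)
  have := congrFun h3 i
  rw [Matrix.mulVec_single_one] at this
  exact this.symm

end Cfsg.Agent.RankFourL32
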