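import Cfsg.Agent.Lib.RankFourL32.Mixed
import Cfsg.Agent.Lib.RankFourL32.Minimal

/-!
The kernel of a perfect cover of the general linear group of degree three over two elements, of
sectional rank four.
-/

set_option autoImplicit false
set_option linter.style.haveILetI false

namespace Cfsg.Agent.RankFourL32

open Matrix

universe u

variable {X : Type u} [Group X] [Finite X] {π : X →* L3}

/-- The possible kernels: trivial, of order two, the natural module, the natural module above a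
central subgroup of order two. -/
def Shape (π : X →* L3) : Prop :=
  π.ker = ⊥ ∨ Nat.card π.ker = 2 ∨
    (∃ (ψ : X →* L3) (s : V3 → X), ψ.ker = π.ker ∧ Function.Surjective ψ ∧ Top ψ ψ.ker ⊥ s) ∨
    ∃ Z : Subgroup X, Nat.card Z = 2 ∧ (∀ z ∈ Z, ∀ x, x * z = z * x) ∧
      ∃ (ψ : X →* L3) (s : V3 → X), ψ.ker = π.ker ∧ Function.Surjective ψ ∧ Top ψ ψ.ker Z s

theorem Cover.congr (C : Cover π) {ψ : X →* L3} (hk : ψ.ker = π.ker)
    (hs : Function.Surjective ψ) : Cover ψ :=
  ⟨hs, by rw [hk]; exact C.pgroup, C.perfect, C.rank⟩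

theorem central_of_card_two {G : Type*} [Group G] (N : Subgroup G) [hN : N.Normal]
    (h2 : Nat.card N = 2) : ∀ n ∈ N, ∀ g, g * n = n * g := by
  intro n hn g
  obtain ⟨a, -, hu⟩ := (Nat.card_eq_two_iff' (1 : N)).1 h2
  by_cases h1 : n = 1
  · subst h1; rw [mul_one, one_mul]
  have hc := hN.conj_mem n hn g
  have hne : g * n * g⁻¹ ≠ 1 := fun h => h1 (conj_eq_one_iff.1 h)
  have e1 := hu ⟨n, hn⟩ fun h => h1 (congrArg Subtype.val h)
  have e2 := hu ⟨_, hc⟩ fun h => hne (congrArg Subtype.val h)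
  exact mul_inv_eq_iff_eq_mul.1 (congrArg Subtype.val (e2.trans e1.symm))

theorem normal_of_central {G : Type*} [Group G] (N : Subgroup G)
    (hc : ∀ n ∈ N, ∀ g, g * n = n * g) : N.Normal :=
  ⟨fun n hn g => by rw [hc n hn g, mul_inv_cancel_right]; exact hn⟩

/-- The central elements of the natural module are trivial. -/
theorem Top.eq_one_of_central {ψ : X →* L3} (hψ : Function.Surjective ψ) {M : Subgroup X}
    {m : V3 → X} (T : Top ψ M ⊥ m) : ∀ u ∈ M, (∀ x, x * u = u * x) → u = 1 := by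
  obtain ⟨hadd, hact, hcov, hinj⟩ := T.bot_eq
  intro u hu hc
  obtain ⟨v, rfl⟩ := hcov u hu
  have hfix : ∀ g : L3, g.1 *ᵥ v = v := fun g => by
    obtain ⟨x, rfl⟩ := hψ g
    exact hinj (by rw [← hact, hc x, mul_inv_cancel_right])
  rw [eq_zero_of_fixed v (hfix gT) (hfix gP)]
  exact (Subgroup.mem_bot.1 T.zero)

/-- The kernel of a perfect cover has one of four shapes. -/
theorem shape (C : Cover π) : Shape π := by
  obtain ⟨n, hn⟩ : ∃ n, Nat.card X = n := ⟨_, rfl⟩
  induction n using Nat.strong_induction_on generalizing X with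
  | _ n IH =>
  by_cases hker : π.ker = ⊥
  · exact Or.inl hker
  obtain ⟨M, ⟨hMn, hMQ, hMne⟩, hMmin⟩ := wellFounded_lt.has_min
    {N : Subgroup X | N.Normal ∧ N ≤ π.ker ∧ N ≠ ⊥} ⟨π.ker, inferInstance, le_rfl, hker⟩
  haveI : M.Normal := hMn
  obtain ⟨hM2, hMc, hMt⟩ := minimal_type C M hMQ hMne fun N hN hle hne =>
    hle.eq_of_not_lt (hMmin N ⟨hN, hle.trans hMQ, hne⟩)
  have hlt : Nat.card (X ⧸ M) < n := by
    rw [← hn, Subgroup.card_eq_card_quotient_mul_card_subgroup M]
    exact lt_mul_of_one_lt_right Nat.card_pos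
      ((Subgroup.one_lt_card_iff_ne_bot M).2 hMne)
  set mk := QuotientGroup.mk' M with hmk
  set πb := QuotientGroup.lift M π hMQ with hπb
  have hkb : πb.ker = π.ker.map mk := QuotientGroup.ker_lift M π hMQ
  have hcardQ : Nat.card π.ker = Nat.card πb.ker * Nat.card M := by
    rw [hkb]; exact RankFourA5.card_img hMQ
  have hmemb : ∀ q ∈ π.ker, mk q ∈ πb.ker := fun q hq => hkb ▸ Subgroup.mem_map_of_mem _ hq
  have hM1 : ∀ q, mk q = 1 → q ∈ M := fun q => (QuotientGroup.eq_one_iff q).1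
  rcases IH _ hlt (C.quotient M hMQ) rfl with hb | hb | ⟨ψb, sb, hψk, hψs, Tb⟩ |
    ⟨Zb, hZb, hZbc, ψb, sb, hψk, hψs, Tb⟩
  · -- the kernel is minimal
    have hQM : π.ker = M := le_antisymm (fun q hq => hM1 q (Subgroup.mem_bot.1 (hb ▸ hmemb q hq))) hMQ
    rcases hMt with ⟨h2, -⟩ | ⟨-, ψ, s, hk, hs, T⟩
    · exact Or.inr (Or.inl (hQM ▸ h2))
    · refine Or.inr (Or.inr (Or.inl ⟨ψ, s, hk, hs, ?_⟩))
      rw [hk, hQM]; exact T
  · -- two above `M`
    have hcen : ∀ q ∈ π.ker, ∀ x, x * q * x⁻¹ * q⁻¹ ∈ M := fun q hq x => hM1 _ (by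
      rw [map_mul, map_mul, map_mul, map_inv, map_inv,
        central_of_card_two πb.ker hb _ (hmemb q hq) (mk x), mul_inv_cancel_right, mul_inv_cancel])
    rcases hMt with ⟨h2, hMx⟩ | ⟨h8, ψ, s, hk, hs, T⟩
    · have hQc : ∀ q ∈ π.ker, ∀ x, x * q = q * x := fun q hq =>
        central_of_series C.perfect hMx (hcen q hq)
      have := card_kernel_le π C.surj C.pgroup C.perfect hQc
      rw [hcardQ, hb, h2] at this
      omega
    · obtain ⟨Z, hZ, hZc, T'⟩ := case_two_top (C.congr hk hs) T (hk ▸ hMQ) (hk ▸ hMc)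
        (by rw [hk, hcardQ, hb, h8])
      exact Or.inr (Or.inr (Or.inr ⟨Z, hZ, hZc, ψ, s, hk, hs, T'⟩))
  all_goals
    set ψ := ψb.comp mk with hψ
    have hk : ψ.ker = π.ker := by
      rw [hψ, ← MonoidHom.comap_ker, hψk]
      show Subgroup.comap mk πb.ker = π.ker
      rw [hkb]
      exact Subgroup.comap_map_eq_self (by rw [hmk, QuotientGroup.ker_mk']; exact hMQ)
    have hs : Function.Surjective ψ := hψs.comp (QuotientGroup.mk'_surjective M)
    have hcom : ψb.ker.comap mk = ψ.ker := MonoidHom.comap_ker _ _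
  · -- natural above `M`
    have hbot : (⊥ : Subgroup (X ⧸ M)).comap mk = M := by
      rw [MonoidHom.comap_bot, hmk, QuotientGroup.ker_mk']
    have T := Tb.comap
    rw [hbot, hcom] at T
    rcases hMt with ⟨h2, hMx⟩ | ⟨h8, -⟩
    · exact Or.inr (Or.inr (Or.inr ⟨M, h2, hMx, ψ, _, hk, hs, T⟩))
    · obtain ⟨hc1, hs1⟩ := ext_trivial ((C.quotient M hMQ).congr hψk hψs) Tb
        (fun b hb x => by rw [Subgroup.mem_bot.1 hb, mul_one, one_mul])
        (fun b hb => by rw [Subgroup.mem_bot.1 hb, mul_one])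
      have hmemψ : ∀ q ∈ ψ.ker, mk q ∈ ψb.ker := fun q hq => by rw [hψk]; exact hmemb q (hk ▸ hq)
      exact (case_two_natural (C.congr hk hs) T h8 hM2 (hk ▸ hMc)
        (fun q hq => hM1 _ (by rw [map_mul, hs1 _ (hmemψ q hq)]))
        (fun p hp r hr => hM1 _ (by
          rw [map_mul, map_mul, map_mul, map_inv, map_inv, hc1 _ (hmemψ p hp) _ (hmemψ r hr),
            mul_inv_cancel_right, mul_inv_cancel]))).elim
  · -- natural above two above `M`
    haveI := normal_of_central Zb hZbc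
    set Z := Zb.comap mk with hZ
    have T := Tb.comap
    rw [hcom] at T
    have hMZ : M ≤ Z := fun u hu => by
      rw [hZ, Subgroup.mem_comap, show mk u = 1 from (QuotientGroup.eq_one_iff u).2 hu]
      exact one_mem _
    have hcardZ : Nat.card Z = 2 * Nat.card M := by
      rw [← hZb, ← Subgroup.map_comap_eq_self_of_surjective (QuotientGroup.mk'_surjective M) Zb]
      exact RankFourA5.card_img hMZ
    have hZs : ∀ z ∈ Z, ∀ x, x * z * x⁻¹ * z⁻¹ ∈ M := fun z hz x => hM1 _ (by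
      rw [map_mul, map_mul, map_mul, map_inv, map_inv, hZbc _ hz (mk x), mul_inv_cancel_right,
        mul_inv_cancel])
    rcases hMt with ⟨h2, hMx⟩ | ⟨h8, ψ₀, m, hk₀, hs₀, T₀⟩
    · exact (case_center_four (C.congr hk hs) T hMZ h2 (by rw [hcardZ, h2]) hMx hZs).elim
    · exact (case_mixed (C.congr hk hs) T hMZ h8 (by rw [hcardZ, h8]) hM2 (hk ▸ hMc)
        (T₀.eq_one_of_central hs₀) hZs).elim

end Cfsg.Agent.RankFourL32
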