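import Cfsg.Agent.Lib.RankFourL32.Assemble
import Cfsg.Prelude.Def_Transfer

/-!
A normal two-subgroup above the natural module over a centre of order two.
-/

set_option autoImplicit false
set_option linter.style.haveILetI false

namespace Cfsg.Agent.RankFourL32

open Matrix

variable {X : Type*} [Group X]

/-- An isomorphism with the product of a cyclic group of order four and one of exponent two. -/
theorem iso_four_eight (Q : Subgroup X) (q : X) (b : Fin 3 → X) (hq : q ∈ Q) (hb : ∀ i, b i ∈ Q)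
    (hcomm : ∀ p ∈ Q, ∀ r ∈ Q, p * r = r * p) (hq4 : q ^ 4 = 1) (hb2 : ∀ i, b i ^ 2 = 1)
    (hcard : Nat.card Q = 32)
    (hgen : ∀ p ∈ Q, ∃ (k : ℕ) (v : V3),
      p = q ^ k * (b 0 ^ (v 0).val * b 1 ^ (v 1).val * b 2 ^ (v 2).val)) :
    Nonempty (Q ≃* Multiplicative (ZMod 4) × (Fin 3 → Multiplicative (ZMod 2))) := by
  letI : CommGroup Q := { (inferInstance : Group Q) with
    mul_comm := fun a b => Subtype.ext (hcomm a a.2 b b.2) }
  set q' : Q := ⟨q, hq⟩
  set b' : Fin 3 → Q := fun i => ⟨b i, hb i⟩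
  have e4 : q' ^ 4 = 1 := Subtype.ext hq4
  have e2 : ∀ i, b' i ^ 2 = 1 := fun i => Subtype.ext (hb2 i)
  let f : Multiplicative (ZMod 4) × (Fin 3 → Multiplicative (ZMod 2)) →* Q :=
    { toFun := fun p => q' ^ p.1.toAdd.val *
        (b' 0 ^ (p.2 0).toAdd.val * b' 1 ^ (p.2 1).toAdd.val * b' 2 ^ (p.2 2).toAdd.val)
      map_one' := by simp
      map_mul' := fun p r => by
        have h4 : ∀ a c : ZMod 4, q' ^ (a + c).val = q' ^ a.val * q' ^ c.val := fun a c => by
          rw [← pow_add, ZMod.val_add, ← pow_eq_pow_mod _ e4]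
        have h2 : ∀ i, ∀ a c : ZMod 2, b' i ^ (a + c).val = b' i ^ a.val * b' i ^ c.val := fun i a c => by
          rw [← pow_add, ZMod.val_add, ← pow_eq_pow_mod _ (e2 i)]
        simp only [Prod.fst_mul, Prod.snd_mul, Pi.mul_apply, toAdd_mul, h4, h2]
        ac_rfl }
  have hsurj : Function.Surjective f := fun ⟨p, hp⟩ => by
    obtain ⟨k, v, rfl⟩ := hgen p hp
    refine ⟨(Multiplicative.ofAdd (k : ZMod 4), fun i => Multiplicative.ofAdd (v i)), Subtype.ext ?_⟩
    show q ^ (k : ZMod 4).val * _ = _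
    rw [ZMod.val_natCast, ← pow_eq_pow_mod _ hq4]
    rfl
  have hc : Nat.card (Multiplicative (ZMod 4) × (Fin 3 → Multiplicative (ZMod 2))) = Nat.card Q := by
    rw [hcard, Nat.card_prod, Nat.card_fun, Nat.card_congr Multiplicative.toAdd,
      Nat.card_congr Multiplicative.toAdd, Nat.card_zmod, Nat.card_zmod, Nat.card_fin]
    norm_num
  haveI : Finite Q := Nat.finite_of_card_ne_zero (by rw [hcard]; norm_num)
  exact ⟨(MulEquiv.ofBijective f ((Nat.bijective_iff_surjective_and_card f).2 ⟨hsurj, hc⟩)).symm⟩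

variable [Finite X]

/-- A radical above the natural module over a centre of order two. -/
theorem upper_case {Q D : Subgroup X} [Q.Normal] [D.Normal] (hQ2 : IsPGroup 2 Q)
    (h4 : Cfsg.SectionalPRankLE 2 4 X) {ψ : D →* L3} (C : Cover ψ)
    (hψ : ∀ d, ψ d = 1 ↔ (d : X) ∈ Q) {Zd : Subgroup D} (hZ2 : Nat.card Zd = 2)
    (hZc : ∀ z ∈ Zd, ∀ d, d * z = z * d) {s : V3 → D} (T : Top ψ ψ.ker Zd s) :
    ((∀ p ∈ Q, ∀ r ∈ Q, p * r = r * p) ∧ (∀ p ∈ Q, p * p = 1) ∧ Nat.card Q = 16) ∨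
      Nonempty (Q ≃* Multiplicative (ZMod 4) × (Fin 3 → Multiplicative (ZMod 2))) := by
  have hz2 : ∀ z ∈ Zd, z * z = 1 := fun z hz => by
    have h := pow_card_eq_one' (G := Zd) (x := ⟨z, hz⟩)
    rw [hZ2, pow_two] at h
    exact congrArg Subtype.val h
  obtain ⟨hRc, hR2⟩ := ext_trivial C T hZc hz2
  have hRQ : ∀ d : D, d ∈ ψ.ker → (d : X) ∈ Q := fun d hd => (hψ d).1 hd
  have hRmem : ∀ d : D, (d : X) ∈ Q → d ∈ ψ.ker := fun d hd => (hψ d).2 hd
  set Z := Zd.map D.subtype with hZdef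
  have hZmem : ∀ z, z ∈ Z → ∃ d ∈ Zd, (d : X) = z := fun z hz => Subgroup.mem_map.1 hz
  have hZQ : Z ≤ Q := fun z hz => by
    obtain ⟨d, hd, rfl⟩ := hZmem z hz
    exact hRQ d (T.le hd)
  have hZchar : ∀ r : D, r ∈ ψ.ker → (∀ d, d * r = r * d) → r ∈ Zd := fun r hr hc => by
    obtain ⟨v, hv⟩ := T.cover r hr
    obtain ⟨z, hz, rfl⟩ : ∃ z ∈ Zd, r = s v * z := ⟨_, hv, (mul_inv_cancel_left _ _).symm⟩
    have hfix : ∀ g : L3, g.1 *ᵥ v = v := fun g => by
      obtain ⟨d, rfl⟩ := C.surj g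
      refine T.sep _ _ ?_
      have h := T.act d v
      have e : d * s v * d⁻¹ = s v := by
        have := hc d
        rw [← mul_assoc, mul_assoc (s v), ← hZc z hz d, ← mul_assoc] at this
        rw [mul_right_cancel this, mul_inv_cancel_right]
      rwa [e] at h
    rw [eq_zero_of_fixed v (hfix gT) (hfix gP)]
    exact mul_mem T.zero hz
  haveI hZn : Z.Normal := ⟨fun z hz g => by
    obtain ⟨d, hd, rfl⟩ := hZmem z hz
    refine ⟨⟨_, (inferInstance : D.Normal).conj_mem _ d.2 g⟩, ?_, rfl⟩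
    refine hZchar _ (hRmem _ ((inferInstance : Q.Normal).conj_mem _ (hRQ d (T.le hd)) g)) fun x => ?_
    apply Subtype.ext
    show (x : X) * (g * d * g⁻¹) = g * d * g⁻¹ * x
    have hy := congrArg Subtype.val
      (hZc d hd ⟨g⁻¹ * x * g, by simpa using (inferInstance : D.Normal).conj_mem _ x.2 g⁻¹⟩)
    have hy' : g⁻¹ * (x : X) * g * d = d * (g⁻¹ * x * g) := hy
    calc (x : X) * (g * d * g⁻¹) = g * (g⁻¹ * x * g * d) * g⁻¹ := by group
      _ = _ := by rw [hy']; group⟩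
  have hZcard : Nat.card Z = 2 := by
    rw [hZdef, ← Nat.card_congr (Zd.equivMapOfInjective _ D.subtype_injective).toEquiv, hZ2]
  have hZX := central_of_card_two Z hZcard
  -- the natural module in the quotient
  set mk := QuotientGroup.mk' Z with hmk
  have hmem : ∀ p : X, mk p ∈ Q.map mk ↔ p ∈ Q := fun p => by
    rw [← Subgroup.mem_comap, Subgroup.comap_map_eq_self (by rw [hmk, QuotientGroup.ker_mk']; exact hZQ)]
  haveI : (Q.map mk).Normal := Subgroup.Normal.map inferInstance _ (QuotientGroup.mk'_surjective Z)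
  let ι : D →* X ⧸ Z := mk.comp D.subtype
  have hι : ∀ d : D, d ∈ Zd → ι d = 1 := fun d hd =>
    (QuotientGroup.eq_one_iff _).2 (Subgroup.mem_map_of_mem _ hd)
  have hι' : ∀ d : D, ι d = 1 → d ∈ Zd := fun d hd => by
    obtain ⟨d', hd', e⟩ := hZmem _ ((QuotientGroup.eq_one_iff _).1 hd)
    rwa [← Subtype.ext e]
  have hclass : ∀ a b : D, a⁻¹ * b ∈ Zd → ι a = ι b := fun a b h => by
    have := hι _ h
    rwa [map_mul, map_inv, inv_mul_eq_one] at this
  have N : Natural (Q.map mk) ι ψ (fun v => ι (s v)) := by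
    refine ⟨C.surj, fun d => (hψ d).trans (hmem d).symm, fun v => (hmem _).2 (hRQ _ (T.mem v)),
      fun v => ⟨_, rfl⟩, fun v w => ?_, fun v w h => ?_, fun d hd => ?_, fun d v => ?_, ?_⟩
    · exact (hclass _ _ (T.add v w)).trans (map_mul ι _ _)
    · exact T.sep v w (hι' _ (by rw [map_mul, map_inv, h, inv_mul_cancel]))
    · obtain ⟨v, hv⟩ := T.cover d (hRmem d ((hmem _).1 hd))
      exact ⟨v, (hclass _ _ hv).symm⟩
    · exact ((hclass _ _ (T.act d v)).trans (by rw [map_mul, map_mul, map_inv])).symm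
    · rw [show ι.range = D.map mk from by rw [MonoidHom.range_comp, Subgroup.range_subtype]]
      exact Subgroup.Normal.map inferInstance _ (QuotientGroup.mk'_surjective Z)
  obtain ⟨hQsq, hQcard⟩ := N.bound (hQ2.map _) (RankFive.rank_of_surjective h4 mk
    (QuotientGroup.mk'_surjective Z))
  have hcQ : Nat.card Q = Nat.card (Q.map mk) * 2 := by
    rw [← hZcard]; exact RankFourA5.card_img hZQ
  have hsqZ : ∀ p ∈ Q, p * p ∈ Z := fun p hp =>
    (QuotientGroup.eq_one_iff _).1 ((map_mul mk p p).trans (hQsq _ ((hmem p).2 hp)))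
  -- the part inside `D`
  have hRcard : Nat.card ψ.ker = 16 := by rw [T.card, hZ2]
  let R := ψ.ker.map D.subtype
  have hRleQ : R ≤ Q := by rintro _ ⟨d, hd, rfl⟩; exact hRQ d hd
  have hRcard' : Nat.card R = 16 := by
    rw [← Nat.card_congr (ψ.ker.equivMapOfInjective _ D.subtype_injective).toEquiv, hRcard]
  by_cases hQ16 : Nat.card Q = 16
  · left
    have hQR : R = Q := Subgroup.eq_of_le_of_card_ge hRleQ (by rw [hQ16, hRcard'])
    refine ⟨fun p hp r hr => ?_, fun p hp => ?_, hQ16⟩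
    · obtain ⟨p', hp', rfl⟩ := Subgroup.mem_map.1 (hQR.ge hp)
      obtain ⟨r', hr', rfl⟩ := Subgroup.mem_map.1 (hQR.ge hr)
      exact congrArg Subtype.val (hRc p' hp' r' hr')
    · obtain ⟨p', hp', rfl⟩ := Subgroup.mem_map.1 (hQR.ge hp)
      exact congrArg Subtype.val (hR2 p' hp')
  right
  have hQ32 : Nat.card Q = 32 := by omega
  obtain ⟨q, hq, hqR⟩ : ∃ q ∈ Q, q ∉ R := by
    by_contra hc
    push Not at hc
    have := Subgroup.card_le_of_le hc
    omega
  have hsplit : ∀ p ∈ Q, p ∈ R ∨ q⁻¹ * p ∈ R := fun p hp => by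
    by_cases hpR : p ∈ R
    · exact Or.inl hpR
    · exact Or.inr (mem_of_index_two hRleQ (by rw [hQ32, hRcard']) hp hpR hq hqR)
  -- `q` centralizes the part inside `D`
  have hcommZ : ∀ p ∈ Q, ∀ r ∈ Q, p * r * p⁻¹ * r⁻¹ ∈ Z := fun p hp r hr =>
    (QuotientGroup.eq_one_iff _).1 (by
      have h1 := hQsq _ ((hmem _).2 (mul_mem hp hr))
      have h2 := hQsq _ ((hmem p).2 hp)
      have h3 := hQsq _ ((hmem r).2 hr)
      show mk (p * r * p⁻¹ * r⁻¹) = 1
      rw [map_mul mk p r] at h1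
      rw [map_mul, map_mul, map_mul, map_inv, map_inv, inv_eq_of_mul_eq_one_right h2,
        inv_eq_of_mul_eq_one_right h3]
      rwa [mul_assoc (mk p * mk r)])
  set f : V3 → X := fun v => q * (s v : X) * q⁻¹ * (s v : X)⁻¹ with hf
  have hfZ : ∀ v, f v ∈ Z := fun v => hcommZ q hq _ (hRQ _ (T.mem v))
  have hfz : ∀ v, ∀ z ∈ Z, q * ((s v : X) * z) * q⁻¹ * ((s v : X) * z)⁻¹ = f v := fun v z hz => by
    rw [show q * ((s v : X) * z) * q⁻¹ * ((s v : X) * z)⁻¹ =
      q * (s v : X) * (z * q⁻¹) * z⁻¹ * (s v : X)⁻¹ by group, ← hZX z hz q⁻¹]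
    simp only [hf]; group
  have hflin : ∀ v, f v = 1 := by
    refine invariant_linear_trivial f (fun v w => ?_) (fun x y hxy v => ?_)
    · rw [← hfz (v + w) _ (Subgroup.mem_map_of_mem _ (T.add v w))]
      have h := hZX _ (hfZ w) (s v : X)
      simp only [hf] at h ⊢
      simp only [Subgroup.coe_subtype, Subgroup.coe_mul, Subgroup.coe_inv, mul_inv_cancel_left]
      calc q * ((s v : X) * s w) * q⁻¹ * ((s v : X) * s w)⁻¹
          = q * s v * q⁻¹ * (q * s w * q⁻¹ * (s w : X)⁻¹) * (s v : X)⁻¹ := by group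
        _ = q * s v * q⁻¹ * ((s v : X)⁻¹ * ((s v : X) * (q * s w * q⁻¹ * (s w : X)⁻¹))) * (s v : X)⁻¹ := by
          group
        _ = _ := by rw [h]; group
    · obtain ⟨d, hd⟩ := C.surj (tv x y hxy)
      have hz := Subgroup.mem_map_of_mem D.subtype (tv_act T hxy hd v)
      rw [← hfz _ _ hz]
      simp only [Subgroup.coe_subtype, Subgroup.coe_mul, Subgroup.coe_inv, mul_inv_cancel_left]
      -- `q` moves by an element of the part inside `D`
      have hdq : (d : X)⁻¹ * q * d * q⁻¹ ∈ D := by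
        rw [show (d : X)⁻¹ * q * d * q⁻¹ = (d : X)⁻¹ * (q * d * q⁻¹) by group]
        exact mul_mem (inv_mem d.2) ((inferInstance : D.Normal).conj_mem _ d.2 q)
      have hdQ : (d : X)⁻¹ * q * d * q⁻¹ ∈ Q := by
        have := (inferInstance : Q.Normal).conj_mem q hq (d : X)⁻¹
        rw [inv_inv] at this
        exact mul_mem this (inv_mem hq)
      set r : D := ⟨_, hdq⟩
      have hr : r ∈ ψ.ker := hRmem r hdQ
      have hr' : (r : X) * q * s v * q⁻¹ * (r : X)⁻¹ = q * s v * q⁻¹ := by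
        have h1 := congrArg Subtype.val (hRc r hr (s v) (T.mem v))
        simp only [Subgroup.coe_mul] at h1
        have hfc := hZX _ (hfZ v) (r : X)
        simp only [hf] at hfc
        calc (r : X) * q * s v * q⁻¹ * (r : X)⁻¹
            = (r : X) * (q * s v * q⁻¹ * (s v : X)⁻¹) * s v * (r : X)⁻¹ := by group
          _ = q * s v * q⁻¹ * (s v : X)⁻¹ * ((r : X) * s v) * (r : X)⁻¹ := by rw [hfc]; group
          _ = _ := by rw [h1]; group
      have hrq : (d : X)⁻¹ * q * d = (r : X) * q := by simp [r]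
      have hfd := hZX _ (hfZ v) (d : X)
      simp only [hf] at hfd ⊢
      calc q * ((d : X) * s v * (d : X)⁻¹) * q⁻¹ * ((d : X) * s v * (d : X)⁻¹)⁻¹
          = (d : X) * (((d : X)⁻¹ * q * d) * s v * ((d : X)⁻¹ * q * d)⁻¹ * (s v : X)⁻¹) * (d : X)⁻¹ := by
            group
        _ = (d : X) * ((r : X) * q * s v * q⁻¹ * (r : X)⁻¹ * (s v : X)⁻¹) * (d : X)⁻¹ := by
            rw [hrq]; group
        _ = _ := by rw [hr', hfd, mul_inv_cancel_right]
  have hqR' : ∀ p ∈ R, q * p = p * q := fun p hp => by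
    obtain ⟨d, hd, rfl⟩ := Subgroup.mem_map.1 hp
    obtain ⟨v, hv⟩ := T.cover d hd
    have h := hfz v _ (Subgroup.mem_map_of_mem D.subtype hv)
    rw [hflin v] at h
    simp only [Subgroup.coe_subtype, Subgroup.coe_mul, Subgroup.coe_inv, mul_inv_cancel_left] at h
    exact mul_inv_eq_iff_eq_mul.1 (mul_inv_eq_one.1 h)
  have hRab : ∀ p ∈ R, ∀ r ∈ R, p * r = r * p := fun p hp r hr => by
    obtain ⟨p', hp', rfl⟩ := Subgroup.mem_map.1 hp
    obtain ⟨r', hr', rfl⟩ := Subgroup.mem_map.1 hr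
    exact congrArg Subtype.val (hRc p' hp' r' hr')
  have hRsq : ∀ p ∈ R, p * p = 1 := fun p hp => by
    obtain ⟨p', hp', rfl⟩ := Subgroup.mem_map.1 hp
    exact congrArg Subtype.val (hR2 p' hp')
  have hform : ∀ p ∈ Q, ∃ k : ℕ, ∃ r ∈ R, p = q ^ k * r := fun p hp => by
    rcases hsplit p hp with h | h
    · exact ⟨0, p, h, by rw [pow_zero, one_mul]⟩
    · exact ⟨1, _, h, by rw [pow_one, mul_inv_cancel_left]⟩
  have hqk : ∀ k : ℕ, ∀ r ∈ R, r * q ^ k = q ^ k * r := fun k r hr =>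
    ((show Commute r q from (hqR' r hr).symm).pow_right k).eq
  have hab : ∀ p ∈ Q, ∀ r ∈ Q, p * r = r * p := fun p hp r hr => by
    obtain ⟨k, a, ha, rfl⟩ := hform p hp
    obtain ⟨l, c, hc, rfl⟩ := hform r hr
    calc q ^ k * a * (q ^ l * c) = q ^ k * (a * q ^ l) * c := by group
      _ = q ^ k * q ^ l * (a * c) := by rw [hqk l a ha]; group
      _ = q ^ l * q ^ k * (c * a) := by rw [← pow_add, ← pow_add, add_comm, hRab a ha c hc]
      _ = q ^ l * (q ^ k * c) * a := by group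
      _ = q ^ l * c * (q ^ k * a) := by rw [← hqk k c hc]; group
  have hqq : q * q ≠ 1 := fun h => by
    have := card_elem_le h4 Q fun p hp => by
      rcases hsplit p hp with hpR | hpR
      · exact hRsq p hpR
      · obtain ⟨r, hr, rfl⟩ : ∃ r ∈ R, p = q * r := ⟨_, hpR, (mul_inv_cancel_left _ _).symm⟩
        rw [show q * r * (q * r) = q * (r * q) * r by group, ← hqR' r hr,
          show q * (q * r) * r = q * q * (r * r) by group, h, hRsq r hr, one_mul]
    omega
  have hqqZ : q * q ∈ Z := hsqZ q hq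
  have hZtwo : ∀ z ∈ Z, z = 1 ∨ z = q * q := fun z hz => by
    obtain ⟨a, -, hu⟩ := (Nat.card_eq_two_iff' (1 : Z)).1 hZcard
    by_cases h1 : z = 1
    · exact Or.inl h1
    · exact Or.inr (congrArg Subtype.val ((hu ⟨z, hz⟩ fun h => h1 (congrArg Subtype.val h)).trans
        (hu ⟨_, hqqZ⟩ fun h => hqq (congrArg Subtype.val h)).symm))
  have hZ2' : ∀ z ∈ Z, z * z = 1 := fun z hz => hRsq z (by
    obtain ⟨d, hd, rfl⟩ := hZmem z hz
    exact Subgroup.mem_map_of_mem _ (T.le hd))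
  let b : Fin 3 → X := fun i => (s (Pi.single i 1) : X)
  have hbR : ∀ i, b i ∈ R := fun i => Subgroup.mem_map_of_mem _ (T.mem _)
  refine iso_four_eight Q q b hq (fun i => hRleQ (hbR i)) hab
    (by rw [show q ^ 4 = q * q * (q * q) by simp [pow_succ, mul_assoc], hZ2' _ hqqZ])
    (fun i => by rw [pow_two, hRsq _ (hbR i)]) hQ32 fun p hp => ?_
  obtain ⟨k, r, hr, rfl⟩ := hform p hp
  obtain ⟨d, hd, rfl⟩ := Subgroup.mem_map.1 hr
  obtain ⟨v, hv⟩ := T.cover d hd
  set F : V3 → X := fun v => b 0 ^ (v 0).val * b 1 ^ (v 1).val * b 2 ^ (v 2).val with hF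
  have hFv : mk (d : X) = mk (F v) := by
    have hsv : mk (d : X) = mk (s v : X) := (hclass _ _ hv).symm
    rw [hsv]
    let bb : Fin 3 → X ⧸ Z := fun i => mk (b i)
    refine hom_ext3 (f := fun v => mk (s v : X)) (g := fun v => mk (F v)) (fun v w => ?_) (fun v w => ?_)
      ?_ ?_ ?_ v
    · exact N.add v w
    · show mk (F (v + w)) = mk (F v) * mk (F w)
      have hc : ∀ i j, Commute (b i) (b j) := fun i j => hRab _ (hbR i) _ (hbR j)
      have hp2 : ∀ i, ∀ a c : ZMod 2, b i ^ (a + c).val = b i ^ a.val * b i ^ c.val := fun i a c => by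
        rw [← pow_add, ZMod.val_add, ← pow_eq_pow_mod _ (by rw [pow_two, hRsq _ (hbR i)] : b i ^ 2 = 1)]
      rw [← map_mul mk (F v) (F w)]
      congr 1
      simp only [hF, Pi.add_apply, hp2]
      calc _ = b 0 ^ (v 0).val * (b 0 ^ (w 0).val * b 1 ^ (v 1).val) *
            (b 1 ^ (w 1).val * b 2 ^ (v 2).val) * b 2 ^ (w 2).val := by group
        _ = b 0 ^ (v 0).val * b 1 ^ (v 1).val *
            (b 0 ^ (w 0).val * b 2 ^ (v 2).val) * b 1 ^ (w 1).val * b 2 ^ (w 2).val := by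
          rw [((hc 0 1).pow_pow _ _).eq, ((hc 1 2).pow_pow _ _).eq]; group
        _ = _ := by rw [((hc 0 2).pow_pow _ _).eq]; group
    · simp [hF, b, ZMod.val_one, show (![1, 0, 0] : V3) = Pi.single 0 1 by decide]
    · simp [hF, b, ZMod.val_one, show (![0, 1, 0] : V3) = Pi.single 1 1 by decide]
    · simp [hF, b, ZMod.val_one, show (![0, 0, 1] : V3) = Pi.single 2 1 by decide]
  have hz := QuotientGroup.eq.1 hFv.symm
  rcases hZtwo _ hz with h | h
  · exact ⟨k, v, by rw [inv_mul_eq_one] at h; show q ^ k * (d : X) = q ^ k * F v; rw [h]⟩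
  · refine ⟨k + 2, v, ?_⟩
    show q ^ k * (d : X) = q ^ (k + 2) * F v
    have hFR : F v ∈ R := mul_mem (mul_mem (pow_mem (hbR 0) _) (pow_mem (hbR 1) _)) (pow_mem (hbR 2) _)
    rw [show (d : X) = F v * (q * q) by rw [← h, mul_inv_cancel_left], pow_add, pow_two,
      hZX _ hqqZ (F v)]
    group

end Cfsg.Agent.RankFourL32
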